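import Cfsg.Agent.HN3.BaseC

/-!
Basic consequences of the `2`-local data: the extraspecial group of order `512`.
-/

set_option autoImplicit false
set_option linter.unusedSectionVars false

namespace Cfsg.Lib.HN3

open Subgroup Equiv Cfsg.Lib.Perm Cfsg.Lib.Local
open scoped commutatorElement

set_option synthInstance.maxSize 2000 in
theorem pm_of_br : ∀ x : SL25, (⁅s5, x⁆ = 1 ∨ ⁅s5, x⁆ = -1) → (⁅f5, x⁆ = 1 ∨ ⁅f5, x⁆ = -1) →
    x = 1 ∨ x = -1 := by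
  simp only [forall_sl2, commutatorElement_def]
  decide +kernel

section
variable {G : Type*} [Group G]

theorem card_preimage_hom {H : Type*} [Group H] (φ : H →* G) (A : Set G)
    (hA : ∀ x ∈ A, ∃ g, φ g = x) : Nat.card (φ ⁻¹' A) = Nat.card φ.ker * Nat.card A := by
  choose! σ hσ using hA
  rw [← Nat.card_prod]
  exact Nat.card_congr
    { toFun := fun g => (⟨g.1 * (σ (φ g.1))⁻¹, by
        rw [MonoidHom.mem_ker, map_mul, map_inv, hσ _ g.2, mul_inv_cancel]⟩, ⟨φ g.1, g.2⟩)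
      invFun := fun p => ⟨p.1.1 * σ p.2.1, by
        rw [Set.mem_preimage, map_mul, p.1.2, hσ _ p.2.2, one_mul]; exact p.2.2⟩
      left_inv := fun g => by simp
      right_inv := fun p => by
        have : φ (p.1.1 * σ p.2.1) = p.2.1 := by rw [map_mul, p.1.2, hσ _ p.2.2, one_mul]
        ext <;> simp [this] }

/-- comparing two indices along a map that separates cosets -/
theorem relIndex_le_of [Finite G] {Q K A Z : Subgroup G} (f : G → G) (hf : ∀ q ∈ Q, f q ∈ A)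
    (h : ∀ q ∈ Q, ∀ q' ∈ Q, (f q)⁻¹ * f q' ∈ Z → q⁻¹ * q' ∈ K) :
    K.relIndex Q ≤ Z.relIndex A ∧
      (Z.relIndex A ≤ K.relIndex Q → ∀ e ∈ A, ∃ q ∈ Q, (f q)⁻¹ * e ∈ Z) := by
  let g : Q ⧸ K.subgroupOf Q → A ⧸ Z.subgroupOf A := fun c =>
    QuotientGroup.mk ⟨f c.out, hf _ c.out.2⟩
  have hg : Function.Injective g := fun c c' e => by
    rw [← QuotientGroup.out_eq' c, ← QuotientGroup.out_eq' c', QuotientGroup.eq]
    exact h _ c.out.2 _ c'.out.2 (QuotientGroup.eq (s := Z.subgroupOf A).1 e)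
  refine ⟨Nat.card_le_card_of_injective g hg, fun h1 e he => ?_⟩
  obtain ⟨c, hc⟩ := (hg.bijective_of_nat_card_le h1).2 (QuotientGroup.mk ⟨e, he⟩)
  exact ⟨_, c.out.2, QuotientGroup.eq (s := Z.subgroupOf A).1 hc⟩

theorem relIndex_mul_card' {K Q : Subgroup G} (h : K ≤ Q) :
    K.relIndex Q * Nat.card K = Nat.card Q := by
  rw [← (K.subgroupOf Q).index_mul_card, Nat.card_congr (subgroupOfEquivOfLe h).toEquiv]; rfl

end

namespace TD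

variable {G : Type*} [Group G] (D : TD G)

theorem St_comm {m n e : G} (hm : m ∈ D.St e) (hn : n ∈ D.St e) : ⁅m, n⁆ * e = e * ⁅m, n⁆ := by
  have k : ∀ x ∈ D.St e, ∀ y ∈ D.St e, ⁅x * y, e⁆ = ⁅y, e⁆ * ⁅x, e⁆ := fun x hx y hy => by
    rw [Mc3.comm_mul_left, D.conj_zt hx.1 hy.2]
  have h1 : ⁅m, n⁆ ∈ D.St e := mul_mem (mul_mem (mul_mem hm hn) (inv_mem hm)) (inv_mem hn)
  have h2 := k _ h1 _ (mul_mem hn hm)
  rw [show ⁅m, n⁆ * (n * m) = m * n by group, k m hm n hn, k n hn m hm,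
    (mul_comm_of_mem_isMulCommutative _ hn.2 hm.2), left_eq_mul] at h2
  exact commutatorElement_eq_one_iff_mul_comm.1 h2

theorem fx_zt {n x : G} (hn : n * D.t = D.t * n) (hx : x ∈ zpowers D.t) : D.Fx n x :=
  (D.t_Cq n hn hx).2

theorem zt_of_conj {g x : G} (hg : g * D.t = D.t * g) (h : g * x * g⁻¹ ∈ zpowers D.t) :
    x ∈ zpowers D.t := by
  have := D.conj_zt (g := g⁻¹) (Commute.inv_left hg) h
  rw [← this] at h
  simpa [mul_assoc] using h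

theorem invEb : Nat.card {x : G // x ∈ D.Eb ∧ x * x = 1} = 20 := by
  rw [← D.invE]
  refine (card_sub_conj D.f fun x => ?_).symm
  rw [D.conj_mem_Eb, conj_mul, conj_eq_one_iff]

variable [Finite G]

theorem a_nEa : D.a ∈ normalizer (D.Ea : Set G) :=
  centralizer_le_normalizer _ fun y hy => (D.aE y hy).symm
theorem b_nEb : D.b ∈ normalizer (D.Eb : Set G) :=
  centralizer_le_normalizer _ fun y hy => (D.bEb y hy).symm

section
variable {D} (hc : ∀ x ∈ D.Ea, ∀ y ∈ D.Eb, x * y = y * x)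
include hc

theorem mem_Q {x : G} : x ∈ D.Q ↔ ∃ e ∈ D.Ea, ∃ e' ∈ D.Eb, x = e * e' := mem_sup_comm hc

theorem cardQ : Nat.card D.Q = 512 := by
  have h := CD.card_sup_mul_card_inf_of_le_centralizer (H := D.Ea) (K := D.Eb)
    fun x hx y hy => (hc x hx y hy).symm
  rw [show D.Ea ⊓ D.Eb = zpowers D.t from le_antisymm (fun x hx => D.inf_E hx.1 hx.2)
    (zpowers_le.2 ⟨D.tE, D.tEb⟩), D.card_zt, D.cardE, D.cardEb] at h
  unfold Q; omega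

theorem cQ : ∀ x ∈ D.Q, ∀ y ∈ D.Q, ⁅x, y⁆ ∈ zpowers D.t := fun x hx y hy => by
  have h1 : ∀ u ∈ D.Ea, D.Q ≤ D.Cq u := fun u hu => sup_le
    (fun v hv => ⟨D.Ea_le hv, D.cE u hu v hv⟩) fun v hv => ⟨D.Eb_le hv, D.fx_of_comm (hc u hu v hv)⟩
  have h2 : ∀ u ∈ D.Eb, D.Q ≤ D.Cq u := fun u hu => sup_le
    (fun v hv => ⟨D.Ea_le hv, D.fx_of_comm (hc v hv u hu).symm⟩)
    fun v hv => ⟨D.Eb_le hv, D.cEb u hu v hv⟩
  exact ((sup_le (fun u hu => ⟨D.Ea_t hu, (h1 u hu hy).2⟩)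
    (fun u hu => ⟨D.Eb_t hu, (h2 u hu hy).2⟩) : D.Q ≤ D.St y) hx).2

theorem Q_le_St {x : G} (hx : x ∈ D.Q) : D.Q ≤ D.St x := fun q hq => ⟨D.Q_t hq, cQ hc q hq x hx⟩

theorem sq_mul {e e' : G} (he : e ∈ D.Ea) (he' : e' ∈ D.Eb) :
    e * e' * (e * e') = e * e * (e' * e') := by
  rw [mul_assoc, ← mul_assoc e', ← hc e he e' he']; simp only [mul_assoc]

theorem sqQ : ∀ x ∈ D.Q, x * x ∈ zpowers D.t := fun x hx => by
  obtain ⟨e, he, e', he', rfl⟩ := (mem_Q hc).1 hx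
  rw [sq_mul hc he he']; exact mul_mem (D.sqE e he) (D.sqEb e' he')

theorem ndQ : ∀ x ∈ D.Q, (∀ y ∈ D.Q, x * y = y * x) → x ∈ zpowers D.t := fun x hx h => by
  obtain ⟨e, he, e', he', rfl⟩ := (mem_Q hc).1 hx
  refine mul_mem (D.ndE e he fun y hy => ?_) (D.ndEb e' he' fun y hy => ?_)
  · have := h y (D.Ea_le hy)
    rw [mul_assoc, ← hc y hy e' he', ← mul_assoc, ← mul_assoc] at this
    exact mul_right_cancel this
  · have := h y (D.Eb_le hy)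
    rw [← mul_assoc, ← hc e he y hy, mul_assoc, mul_assoc] at this
    exact mul_left_cancel this

theorem N_t {n : G} (h : n ∈ D.N) : n * D.t = D.t * n := by
  refine comm_of_conj_eq ((D.mem_zt.1 (ndQ hc _ (D.conj_Q h D.tQ) fun y hy => ?_)).resolve_left
    fun e => D.t1 (conj_eq_one_iff.1 e))
  have := comm_conj' n (D.Q_t (D.conj_Q' h hy)).symm
  simpa [mul_assoc] using this

theorem conj_mul_t {x : G} (h : x ∈ D.Q) (h1 : x ∉ zpowers D.t) :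
    ∃ q ∈ D.Q, q * x * q⁻¹ = x * D.t := by
  by_contra hn
  refine h1 (ndQ hc x h fun y hy => ?_)
  rcases D.mem_zt.1 (cQ hc y hy x h) with e | e
  · exact (commutatorElement_eq_one_iff_mul_comm.1 e).symm
  · exact absurd ⟨y, hy, by rw [D.Q_t h, ← e]; group⟩ hn

theorem fx_split {g e e' : G} (h1 : g ∈ normalizer (D.Ea : Set G))
    (h2 : g ∈ normalizer (D.Eb : Set G)) (he : e ∈ D.Ea) (he' : e' ∈ D.Eb) (h : D.Fx g (e * e')) :
    D.Fx g e ∧ D.Fx g e' := by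
  have k1 : ⁅g, e⁆ ∈ D.Ea := mul_mem (conj_of_norm h1 he) (inv_mem he)
  have k2 : ⁅g, e'⁆ ∈ D.Eb := mul_mem (conj_of_norm h2 he') (inv_mem he')
  rw [Fx, Mc3.comm_mul_right, conj_eq_of_comm (hc e he _ k2)] at h
  exact ⟨D.inf_E k1 ((mul_mem_cancel_right k2).1 (zpowers_le.2 D.tEb h)),
    D.inf_E ((mul_mem_cancel_left k1).1 (zpowers_le.2 D.tE h)) k2⟩

theorem fx_a {x : G} (h : x ∈ D.Q) : D.Fx D.a x ↔ x ∈ D.Ea := by
  refine ⟨fun h1 => ?_, fun h1 => D.fx_of_comm (D.aE x h1)⟩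
  obtain ⟨e, he, e', he', rfl⟩ := (mem_Q hc).1 h
  exact mul_mem he (zpowers_le.2 D.tE (D.fixa he' (fx_split hc D.a_nEa D.a_nE he he' h1).2))

theorem fx_b {x : G} (h : x ∈ D.Q) : D.Fx D.b x ↔ x ∈ D.Eb := by
  refine ⟨fun h1 => ?_, fun h1 => D.fx_of_comm (D.bEb x h1)⟩
  obtain ⟨e, he, e', he', rfl⟩ := (mem_Q hc).1 h
  exact mul_mem (zpowers_le.2 D.tEb (D.fixb he (fx_split hc D.b_nE D.b_nEb he he' h1).1)) he'

theorem fx_z {x : G} (h : x ∈ D.Q) (h1 : D.Fx (D.a * D.b) x) : x ∈ zpowers D.t := by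
  obtain ⟨e, he, e', he', rfl⟩ := (mem_Q hc).1 h
  obtain ⟨h2, h3⟩ := fx_split hc (mul_mem D.a_nEa D.b_nE) (mul_mem D.a_nE D.b_nEb) he he' h1
  have ht : D.a * D.b * D.t = D.t * (D.a * D.b) := Commute.mul_left D.ta D.tb
  have k : D.a ∈ D.St e := ⟨D.ta, D.fx_of_comm (D.aE e he)⟩
  have k' : D.b ∈ D.St e' := ⟨D.tb, D.fx_of_comm (D.bEb e' he')⟩
  exact mul_mem (D.fixb he ((mul_mem_cancel_left k).1 ⟨ht, h2⟩).2)
    (D.fixa he' ((mul_mem_cancel_right k').1 ⟨ht, h3⟩).2)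

theorem fx_s {x : G} (h : x ∈ D.Q) (h1 : D.Fx (D.a * D.b⁻¹) x) : x ∈ zpowers D.t :=
  D.zt_of_conj D.ht (fx_z hc (D.conj_Q D.hN h) (D.hs ▸ (D.fx_conj D.ht).2 h1))

theorem κ_mem_Q {x : SL25} : D.κ x ∈ D.Q ↔ x = 1 ∨ x = -1 := by
  refine ⟨fun h => (D.mem_zt.1 (fx_z hc h (D.fx_of_comm (D.κz x).symm))).imp
    (fun e => D.κinj (e.trans (map_one _).symm)) fun e => D.κinj (e.trans D.κt.symm), ?_⟩
  rintro (rfl | rfl)
  · rw [map_one]; exact one_mem _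
  · rw [D.κt]; exact D.tQ

theorem κ'_mem_Q {x : SL25} : D.κ' x ∈ D.Q ↔ x = 1 ∨ x = -1 := by
  rw [← κ_mem_Q hc, D.κ'_apply]
  exact (mem_normalizer_iff.1 D.hN _).symm

theorem invQ : Nat.card {x : G // x ∈ D.Q ∧ x * x = 1} = 272 := by
  let φ : D.Ea × D.Eb →* G := MonoidHom.noncommCoprod D.Ea.subtype D.Eb.subtype
    fun x y => hc x x.2 y y.2
  have hφ : ∀ p, φ p = p.1 * p.2 := fun p => rfl
  have h1 := card_preimage_hom φ {x | x ∈ D.Q ∧ x * x = 1} fun x hx => by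
    obtain ⟨e, he, e', he', rfl⟩ := (mem_Q hc).1 hx.1
    exact ⟨(⟨e, he⟩, ⟨e', he'⟩), rfl⟩
  have h2 := card_preimage_hom φ D.Q fun x hx => by
    obtain ⟨e, he, e', he', rfl⟩ := (mem_Q hc).1 hx
    exact ⟨(⟨e, he⟩, ⟨e', he'⟩), rfl⟩
  rw [show φ ⁻¹' D.Q = Set.univ from Set.eq_univ_of_forall fun p =>
    mul_mem (D.Ea_le p.1.2) (D.Eb_le p.2.2), Nat.card_congr (Equiv.Set.univ _), Nat.card_prod,
    D.cardE, D.cardEb] at h2
  have h3 : Nat.card (D.Q : Set G) = 512 := cardQ hc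
  let I : Set D.Ea := {x | (x : G) * x = 1}
  let I' : Set D.Eb := {x | (x : G) * x = 1}
  have hI : I.ncard = 20 := (Nat.card_congr (subtypeSubtypeEquivSubtypeInter (· ∈ D.Ea)
    fun x => x * x = 1)).trans D.invE
  have hI' : I'.ncard = 20 := (Nat.card_congr (subtypeSubtypeEquivSubtypeInter (· ∈ D.Eb)
    fun x => x * x = 1)).trans D.invEb
  have hJ := Set.ncard_add_ncard_compl I
  have hJ' := Set.ncard_add_ncard_compl I'
  rw [D.cardE] at hJ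
  rw [D.cardEb] at hJ'
  have h4 : φ ⁻¹' {x | x ∈ D.Q ∧ x * x = 1} = I ×ˢ I' ∪ Iᶜ ×ˢ I'ᶜ := by
    ext ⟨e, e'⟩
    simp only [Set.mem_preimage, Set.mem_setOf_eq, hφ, sq_mul hc e.2 e'.2, Set.mem_union,
      Set.mem_prod, Set.mem_compl_iff, I, I', mul_mem (D.Ea_le e.2) (D.Eb_le e'.2), true_and]
    rcases D.mem_zt.1 (D.sqE e e.2) with k | k <;> rcases D.mem_zt.1 (D.sqEb e' e'.2) with k' | k' <;>
      simp [k, k', D.t1, D.tt]
  rw [h4, Nat.card_coe_set_eq, Set.ncard_union_eq (Set.disjoint_left.2 fun p h h' => h'.1 h.1),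
    Set.ncard_prod, Set.ncard_prod, hI, hI', show Iᶜ.ncard = 12 by omega,
    show I'ᶜ.ncard = 12 by omega, show Nat.card φ.ker = 2 by rw [h3] at h2; omega] at h1
  change 20 * 20 + 12 * 12 = 2 * Nat.card {x : G // x ∈ D.Q ∧ x * x = 1} at h1
  omega

theorem fx_congr {n n' x : G} (hn : n ∈ D.N) (h : n * n'⁻¹ ∈ D.Q) (hx : x ∈ D.Q) :
    D.Fx n x ↔ D.Fx n' x := by
  have hn' : n' ∈ D.N := inv_mem_iff.1 ((mul_mem_cancel_left hn).1 (D.Q_le_N h))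
  have k := Q_le_St hc hx h
  exact ⟨fun h1 => (inv_mem_iff.1 ((mul_mem_cancel_left (D.mem_St.2 ⟨N_t hc hn, h1⟩)).1 k)).2,
    fun h1 => ((mul_mem_cancel_right (inv_mem (D.mem_St.2 ⟨N_t hc hn', h1⟩))).1 k).2⟩

/-- commutators with `y` commute with the fixed points of `y` -/
theorem comm_perp {y q e : G} (hy : y ∈ D.N) (hq : q ∈ D.Q) (he : e ∈ D.Q) (h : D.Fx y e) :
    ⁅q, y⁆ * e = e * ⁅q, y⁆ := D.St_comm (Q_le_St hc he hq) ⟨N_t hc hy, h⟩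

/-- an involution modulo `Q` with at most `32` fixed points acts freely -/
theorem free_of_le {y : G} (hy : y ∈ D.N) (h2 : y * y ∈ D.Q) (h : Nat.card (D.Cq y) ≤ 32) :
    Nat.card (D.Cq y) = 32 ∧ (∀ e ∈ D.Cq y, ∃ q ∈ D.Q, ⁅q, y⁆ * e⁻¹ ∈ zpowers D.t) ∧
      ∀ e ∈ D.Cq y, ∀ e' ∈ D.Cq y, e * e' = e' * e := by
  obtain ⟨k1, k2⟩ := relIndex_le_of (Q := D.Q) (K := D.Cq y) (A := D.Cq y) (Z := zpowers D.t)
    (fun q => ⁅y, q⁆) (fun q hq => ⟨mul_mem (D.conj_Q hy hq) (inv_mem hq), by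
      rw [Fx, show ⁅y, ⁅y, q⁆⁆ = ⁅y * y, q⁆ * (q * (y * q * y⁻¹)⁻¹ * (q * (y * q * y⁻¹)⁻¹)) by group]
      exact mul_mem (cQ hc _ h2 _ hq) (sqQ hc _ (mul_mem hq (inv_mem (D.conj_Q hy hq))))⟩)
    fun q hq q' hq' h => ⟨mul_mem (inv_mem hq) hq', D.zt_of_conj (D.Q_t hq) (by
      rwa [show q * ⁅y, q⁻¹ * q'⁆ * q⁻¹ = ⁅y, q⁆⁻¹ * ⁅y, q'⁆ by group])⟩
  have e1 := relIndex_mul_card' (show D.Cq y ≤ D.Q from fun _ h => h.1)
  have e2 := relIndex_mul_card' (D.t_Cq y (N_t hc hy))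
  rw [cardQ hc] at e1
  rw [D.card_zt] at e2
  have e3 : Nat.card (D.Cq y) = 32 := by nlinarith
  have e4 : ∀ e ∈ D.Cq y, ∃ q ∈ D.Q, ⁅q, y⁆ * e⁻¹ ∈ zpowers D.t := fun e he => by
    simpa only [commutatorElement_inv] using k2 (by rw [e3] at e1; omega) _ (inv_mem he)
  refine ⟨e3, e4, fun e he e' he' => ?_⟩
  obtain ⟨q, hq, h1⟩ := e4 e he
  have h3 : Commute ⁅q, y⁆ e' := comm_perp hc hy hq he'.1 he'.2
  have h4 : Commute e' (⁅q, y⁆ * e⁻¹) := D.comm_zt (D.Q_t he'.1) h1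
  have := (h4.symm.inv_left.mul_left h3).eq
  rwa [show (⁅q, y⁆ * e⁻¹)⁻¹ * ⁅q, y⁆ = e by group] at this

theorem card_Cq_inf {y c : G} {A : Subgroup G} (hA : A ≤ D.Q) (hcA : c ∈ normalizer (A : Set G))
    (hy : y ∈ D.N) (hcN : c ∈ D.N) (h3 : c ^ 3 ∈ D.Q)
    (h : y * c * y⁻¹ * c ∈ D.Q) (hf : ∀ x ∈ A, D.Fx c x → x ∈ zpowers D.t) :
    Nat.card (D.Cq y ⊓ A : Subgroup G) * Nat.card (D.Cq y ⊓ A : Subgroup G) ≤ Nat.card A * 2 := by
  have ct := N_t hc hcN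
  have h1 : Nat.card (D.Cq y ⊓ A : Subgroup G) = Nat.card (D.Cq (c * y * c⁻¹) ⊓ A : Subgroup G) :=
    card_sub_conj c fun x => and_congr (and_congr (mem_normalizer_iff.1 hcN x) (D.fx_conj ct).symm)
      (mem_normalizer_iff.1 hcA x)
  have h2 := CD.card_mul_le_card_sup_mul_card_inf (D.Cq y ⊓ A) (D.Cq (c * y * c⁻¹) ⊓ A)
  rw [← h1] at h2
  refine h2.trans (Nat.mul_le_mul (CD.card_le_of_le (sup_le inf_le_right inf_le_right))
    (D.card_zt ▸ CD.card_le_of_le fun x hx => hf x hx.1.2 ?_))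
  have k : y ∈ D.St x := ⟨N_t hc hy, hx.1.1.2⟩
  have k' : c * y * c⁻¹ ∈ D.St x := ⟨N_t hc (mul_mem (mul_mem hcN hy) (inv_mem hcN)), hx.2.1.2⟩
  have := mul_mem (Q_le_St hc hx.1.1.1 h3)
    (inv_mem (mul_mem (mul_mem k' (inv_mem k)) (Q_le_St hc hx.1.1.1 h)))
  rw [show c ^ 3 * (c * y * c⁻¹ * y⁻¹ * (y * c * y⁻¹ * c))⁻¹ = c by group] at this
  exact this.2

/-- an element inverting modulo `Q` a fixed point free element of order three -/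
theorem card_Cq_le {y c : G} (hy : y ∈ D.N) (hcN : c ∈ D.N) (h3 : c ^ 3 ∈ D.Q)
    (h : y * c * y⁻¹ * c ∈ D.Q) (hf : ∀ x ∈ D.Q, D.Fx c x → x ∈ zpowers D.t) :
    Nat.card (D.Cq y) ≤ 32 := by
  have := card_Cq_inf hc le_rfl hcN hy hcN h3 h hf
  rw [cardQ hc, inf_eq_left.2 (show D.Cq y ≤ D.Q from fun _ h => h.1)] at this
  nlinarith

theorem card_Cq_x0 : Nat.card (D.Cq D.x0) ≤ 32 := by
  have h1 := card_Cq_inf hc D.Eb_le D.a_nE D.x0N D.aN (by rw [D.a3']; exact one_mem _)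
    (by rw [D.xa, inv_mul_cancel]; exact one_mem _) fun x hx => D.fixa hx
  have h2 := CD.card_sup_mul_card_inf_of_le_centralizer (H := D.Cq D.x0 ⊓ D.Eb) (K := D.B)
    fun x hx y hy => (D.Eb_B hx.2 hy).symm
  have h3 := CD.card_le_of_le (show zpowers D.t ≤ D.Cq D.x0 ⊓ D.Eb ⊓ D.B from
    le_inf (le_inf (D.t_Cq _ D.xt) (zpowers_le.2 D.tEb)) (zpowers_le.2 D.tB))
  have h4 := CD.card_le_of_le (show D.Cq D.x0 ≤ D.Cq D.x0 ⊓ D.Eb ⊔ D.B from fun x hx => by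
    obtain ⟨e, he, e', he', rfl⟩ := (mem_Q hc).1 hx.1
    obtain ⟨k, k'⟩ := fx_split hc (D.nE _ D.x0_na D.xt) (D.nEb D.x0_nb D.xt) he he' hx.2
    exact mul_mem (mem_sup_right ((D.xE e he).1 k)) (mem_sup_left ⟨⟨D.Eb_le he', k'⟩, he'⟩))
  rw [D.cardEb] at h1
  rw [D.cardB] at h2
  rw [D.card_zt] at h3
  have h5 : Nat.card (D.Cq D.x0 ⊓ D.Eb : Subgroup G) ≤ 8 := by nlinarith
  nlinarith

end

namespace QD
variable {D} (q : D.QD)
include q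

theorem nK' (x : SL25) : D.κ' x ∈ D.N := mul_mem (mul_mem D.hN (q.nK x)) (inv_mem D.hN)

theorem fx_κ {x : SL25} (h : x * x * x = 1) (h1 : x ≠ 1) {e : G} (he : e ∈ D.Q)
    (h2 : D.Fx (D.κ x) e) : e ∈ zpowers D.t := by
  obtain ⟨c, hc⟩ := Mc3.conj33 h h1 s5_cube s5_ne
  refine D.zt_of_conj (D.κ_t c) (fx_s q.comm (D.conj_Q (q.nK c) he) ?_)
  rw [← D.κs, ← hc, map_mul, map_mul, map_inv]
  exact (D.fx_conj (D.κ_t c)).2 h2

theorem fx_κ' {x : SL25} (h : x * x * x = 1) (h1 : x ≠ 1) {e : G} (he : e ∈ D.Q)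
    (h2 : D.Fx (D.κ' x) e) : e ∈ zpowers D.t :=
  D.zt_of_conj D.ht (q.fx_κ h h1 (D.conj_Q D.hN he) (D.κ_eq x ▸ (D.fx_conj D.ht).2 h2))

theorem inj {x y : SL25} (h : D.κ x * D.κ' y ∈ D.Q) : (x = 1 ∨ x = -1) ∧ (y = 1 ∨ y = -1) := by
  have k : ∀ c, ⁅c, x⁆ = 1 ∨ ⁅c, x⁆ = -1 := fun c => by
    have h1 : ⁅D.κ c, D.κ x * D.κ' y⁆ ∈ D.Q := mul_mem (D.conj_Q (q.nK c) h) (inv_mem h)
    rw [Mc3.comm_mul_right, mul_mem_cancel_right (D.conj_Q (q.nK x) (q.KK c y)),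
      ← map_commutatorElement] at h1
    exact (κ_mem_Q q.comm).1 h1
  have h1 := pm_of_br x (k _) (k _)
  exact ⟨h1, (κ'_mem_Q q.comm).1 ((mul_mem_cancel_left ((κ_mem_Q q.comm).2 h1)).1 h)⟩

theorem ninj (x y : SL25) : D.κ x * D.κ' y * D.x0 ∉ D.Q := fun h => by
  have h1 : ⁅D.κ x * D.κ' y * D.x0, D.κ s5⁆ ∈ D.Q := by
    rw [← inv_mem_iff, commutatorElement_inv]
    exact mul_mem (D.conj_Q (q.nK s5) h) (inv_mem h)
  have e : D.x0 * D.κ s5 * D.x0⁻¹ = D.κ' s5⁻¹ := by rw [D.κs, D.xs, map_inv, D.κ's]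
  rw [show ⁅D.κ x * D.κ' y * D.x0, D.κ s5⁆ = D.κ x * (D.κ' y * (D.x0 * D.κ s5 * D.x0⁻¹) *
      (D.κ' y)⁻¹) * (D.κ x)⁻¹ * (D.κ s5)⁻¹ by group, e, ← map_inv D.κ', ← map_mul D.κ',
    ← map_mul D.κ'] at h1
  set c := y * s5⁻¹ * y⁻¹
  have h2 := D.conj_Q' (q.nK s5) ((mul_mem_cancel_left (q.KK x c)).1
    (show ⁅D.κ x, D.κ' c⁆ * (D.κ' c * (D.κ s5)⁻¹) ∈ D.Q by convert h1 using 1; group))
  rw [show (D.κ s5)⁻¹ * (D.κ' c * (D.κ s5)⁻¹) * D.κ s5 = D.κ s5⁻¹ * D.κ' c by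
    rw [map_inv]; group] at h2
  exact absurd (q.inj h2).1 (by decide +kernel)

/-- the action of the two copies modulo `Q` -/
theorem exists_hom [(D.Q.subgroupOf D.N).Normal] :
    ∃ φ : SL25 × SL25 →* D.N ⧸ D.Q.subgroupOf D.N, ∀ x y,
      φ (x, y) = QuotientGroup.mk ⟨D.κ x * D.κ' y, mul_mem (q.nK x) (q.nK' y)⟩ :=
  ⟨MonoidHom.noncommCoprod ((QuotientGroup.mk' _).comp (D.κ.codRestrict D.N q.nK))
    ((QuotientGroup.mk' _).comp (D.κ'.codRestrict D.N q.nK')) fun x y => by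
      rw [← commutatorElement_eq_one_iff_commute, MonoidHom.comp_apply, MonoidHom.comp_apply,
        ← map_commutatorElement, QuotientGroup.mk'_apply, QuotientGroup.eq_one_iff]
      exact q.KK x y, fun _ _ => rfl⟩

end QD

end TD

end Cfsg.Lib.HN3
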