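import Cfsg.Agent.HN3.Defs

/-!
Basic consequences of the `2`-local data, first part.
-/

set_option autoImplicit false
set_option linter.unusedSectionVars false

namespace Cfsg.Lib.HN3

open Subgroup Equiv Cfsg.Lib.Perm
open scoped commutatorElement

theorem s5_cube : s5 * s5 * s5 = 1 := by decide +kernel
theorem s5_ne : s5 ≠ 1 := by decide +kernel
theorem f5_s5 : f5 * s5 * f5⁻¹ = s5⁻¹ := by decide +kernel
theorem f5_sq : f5 * f5 = -1 := by decide +kernel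

set_option synthInstance.maxSize 2000 in
theorem cent_s5 : ∀ x : SL25, x * s5 = s5 * x →
    x = 1 ∨ x = s5 ∨ x = s5⁻¹ ∨ x = -1 ∨ x = s5 * -1 ∨ x = s5⁻¹ * -1 := by
  simp only [forall_sl2]
  decide +kernel

theorem neg_one_comm (x : SL25) : x * -1 = -1 * x := by simp

section
variable {G : Type*} [Group G]

theorem mem_zp2 {t x : G} (h : t * t = 1) : x ∈ zpowers t ↔ x = 1 ∨ x = t := by
  constructor
  · rintro ⟨k, rfl⟩
    have h2 : t ^ (2 : ℤ) = 1 := by rw [zpow_two, h]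
    obtain ⟨m, rfl | rfl⟩ := Int.even_or_odd' k
    · left; simp only [zpow_mul, h2, one_zpow]
    · right; simp only [zpow_add, zpow_mul, h2, one_zpow, one_mul, zpow_one]
  · rintro (rfl | rfl)
    exacts [one_mem _, mem_zpowers _]

theorem eq_of_sq_cube {x y : G} (hx : x ^ 3 = 1) (hy : y ^ 3 = 1) (h : x * x = y * y) : x = y := by
  have e : ∀ u : G, u ^ 3 = 1 → u = u * u * (u * u) := fun u hu => by
    rw [show u * u * (u * u) = u ^ 3 * u by simp [pow_succ, mul_assoc], hu, one_mul]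
  rw [e x hx, e y hy, h]

theorem cube_conj (g : G) {x : G} (hx : x ^ 3 = 1) : (g * x * g⁻¹) ^ 3 = 1 := by
  rw [conj_pow, hx, mul_one, mul_inv_cancel]

theorem conj_eq_of_comm {g x : G} (h : g * x = x * g) : g * x * g⁻¹ = x := by
  rw [h, mul_inv_cancel_right]

theorem comm_of_conj_eq {g x : G} (h : g * x * g⁻¹ = x) : g * x = x * g := by
  rw [← mul_inv_eq_iff_eq_mul, h]

theorem comm_conj' (g : G) {x y : G} (h : x * y = y * x) :
    g * x * g⁻¹ * (g * y * g⁻¹) = g * y * g⁻¹ * (g * x * g⁻¹) := by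
  simp only [mul_assoc, inv_mul_cancel_left]; rw [← mul_assoc x, h, mul_assoc]

theorem mem_cl_pair {x y g : G} (h : x * y = y * x) :
    g ∈ closure {x, y} ↔ ∃ c ∈ zpowers x, ∃ d ∈ zpowers y, g = c * d := by
  have hc : ∀ c ∈ zpowers x, ∀ d ∈ zpowers y, Commute c d := by
    rintro _ ⟨i, rfl⟩ _ ⟨j, rfl⟩; exact Commute.zpow_zpow h i j
  constructor
  · intro hg
    induction hg using closure_induction with
    | mem u hu =>
      rcases hu with rfl | rfl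
      exacts [⟨u, mem_zpowers _, 1, one_mem _, by simp⟩, ⟨1, one_mem _, u, mem_zpowers _, by simp⟩]
    | one => exact ⟨1, one_mem _, 1, one_mem _, by simp⟩
    | mul u v _ _ h1 h2 =>
      obtain ⟨c, hc1, d, hd1, rfl⟩ := h1
      obtain ⟨c', hc2, d', hd2, rfl⟩ := h2
      refine ⟨c * c', mul_mem hc1 hc2, d * d', mul_mem hd1 hd2, ?_⟩
      simp only [mul_assoc]; rw [← mul_assoc d, ← (hc c' hc2 d hd1).eq, mul_assoc]
    | inv u _ h1 =>
      obtain ⟨c, hc1, d, hd1, rfl⟩ := h1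
      exact ⟨c⁻¹, inv_mem hc1, d⁻¹, inv_mem hd1, by rw [(hc c hc1 d hd1).eq, mul_inv_rev]⟩
  · rintro ⟨c, hc1, d, hd1, rfl⟩
    exact mul_mem ((zpowers_le.2 (subset_closure (by simp))) hc1)
      ((zpowers_le.2 (subset_closure (by simp))) hd1)

end

namespace TD

variable {G : Type*} [Group G] (D : TD G)

theorem mem_zt {x : G} : x ∈ zpowers D.t ↔ x = 1 ∨ x = D.t := mem_zp2 D.tt
theorem t_inv : D.t⁻¹ = D.t := inv_eq_of_mul_eq_one_right D.tt
theorem h_inv : D.h⁻¹ = D.h := inv_eq_of_mul_eq_one_right D.hh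
theorem x0_inv : D.x0⁻¹ = D.x0 := inv_eq_of_mul_eq_one_right D.xx
theorem u_inv : D.u⁻¹ = D.u := inv_eq_of_mul_eq_one_right D.uu
theorem r_inv : D.r⁻¹ = D.r := inv_eq_of_mul_eq_one_right D.rr
theorem v_inv : D.v⁻¹ = D.v := inv_eq_of_mul_eq_one_right D.vv
theorem a3' : D.a ^ 3 = 1 := D.a3 ▸ pow_orderOf_eq_one _
theorem b3' : D.b ^ 3 = 1 := D.b3 ▸ pow_orderOf_eq_one _
theorem cab : Commute D.a D.b := D.ab
theorem z3' : (D.a * D.b) ^ 3 = 1 := by rw [D.cab.mul_pow, D.a3', D.b3', one_mul]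
theorem s3' : (D.a * D.b⁻¹) ^ 3 = 1 := by
  rw [D.cab.inv_right.mul_pow, D.a3', inv_pow, D.b3', inv_one, one_mul]
theorem comm_zt {g x : G} (h : g * D.t = D.t * g) (hx : x ∈ zpowers D.t) : g * x = x * g :=
  Mc3.comm_zp h hx
theorem conj_zt {g x : G} (h : g * D.t = D.t * g) (hx : x ∈ zpowers D.t) : g * x * g⁻¹ = x :=
  conj_eq_of_comm (D.comm_zt h hx)

theorem κ_t (x : SL25) : D.κ x * D.t = D.t * D.κ x := by
  rw [← D.κt, ← map_mul, ← map_mul, neg_one_comm]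
theorem ft : D.f * D.t = D.t * D.f := D.κf ▸ D.κ_t f5
theorem ff : D.f * D.f = D.t := by rw [← D.κf, ← map_mul, f5_sq, D.κt]
theorem fz : D.f * (D.a * D.b) * D.f⁻¹ = D.a * D.b := conj_eq_of_comm (D.κf ▸ D.κz f5)
theorem fs : D.f * (D.a * D.b⁻¹) * D.f⁻¹ = (D.a * D.b⁻¹)⁻¹ := by
  rw [← D.κs, ← D.κf, ← map_inv, ← map_mul, ← map_mul, f5_s5, map_inv]
theorem zs_eq : D.a * D.b * (D.a * D.b⁻¹) = D.a * D.a := by
  rw [mul_assoc, ← mul_assoc D.b, ← D.ab]; group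
theorem zs_eq' : D.a * D.b * (D.a * D.b⁻¹)⁻¹ = D.b * D.b := by
  rw [mul_inv_rev, inv_inv, D.ab, mul_assoc, ← mul_assoc D.a, D.ab]; group
theorem fa : D.f * D.a * D.f⁻¹ = D.b := by
  refine eq_of_sq_cube (cube_conj _ D.a3') D.b3' ?_
  rw [← D.zs_eq', ← D.fs, ← D.fz, conj_mul, conj_mul, D.zs_eq]
theorem fb : D.f * D.b * D.f⁻¹ = D.a := by
  rw [← D.fa, show D.f * (D.f * D.a * D.f⁻¹) * D.f⁻¹ = D.f * D.f * D.a * (D.f * D.f)⁻¹ by group,
    D.ff, conj_eq_of_comm D.ta.symm]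
theorem fa' : D.f⁻¹ * D.a * D.f = D.b := by rw [← D.fb]; group
theorem fb' : D.f⁻¹ * D.b * D.f = D.a := by rw [← D.fa]; group
theorem wt : D.w * D.t = D.t * D.w := D.κt ▸ D.wκ (-1)
theorem ws : D.w * (D.a * D.b⁻¹) * D.w⁻¹ = D.a * D.b⁻¹ := conj_eq_of_comm (D.κs ▸ D.wκ s5)
theorem wa : D.w * D.a * D.w⁻¹ = D.b⁻¹ := by
  refine eq_of_sq_cube (cube_conj _ D.a3') (by rw [inv_pow, D.b3', inv_one]) ?_
  rw [conj_mul, ← D.zs_eq, ← conj_mul, D.wz, D.ws]; group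
theorem wb : D.w * D.b * D.w⁻¹ = D.a⁻¹ := by
  have h : D.w * (D.w * D.a * D.w⁻¹) * D.w⁻¹ = D.w * D.b⁻¹ * D.w⁻¹ := by rw [D.wa]
  rw [show D.w * (D.w * D.a * D.w⁻¹) * D.w⁻¹ = D.w * D.w * D.a * (D.w * D.w)⁻¹ by group, D.ww,
    conj_eq_of_comm D.ta.symm] at h
  rw [h]; group
theorem hz : D.h * (D.a * D.b) * D.h⁻¹ = D.a * D.b⁻¹ := by
  rw [← conj_mul, conj_eq_of_comm D.ha, D.hb]
theorem hs : D.h * (D.a * D.b⁻¹) * D.h⁻¹ = D.a * D.b := by
  rw [← conj_mul, conj_eq_of_comm D.ha, ← conj_inv, D.hb, inv_inv]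
theorem hconj (x : G) : D.h * (D.h * x * D.h⁻¹) * D.h⁻¹ = x := by
  rw [show D.h * (D.h * x * D.h⁻¹) * D.h⁻¹ = D.h * D.h * x * (D.h * D.h)⁻¹ by group, D.hh]; group
theorem κ'_apply (x : SL25) : D.κ' x = D.h * D.κ x * D.h⁻¹ := rfl
theorem κ_eq (x : SL25) : D.κ x = D.h * D.κ' x * D.h⁻¹ := (D.hconj _).symm
theorem κ't : D.κ' (-1) = D.t := by rw [κ'_apply, D.κt, conj_eq_of_comm D.ht]
theorem κ'_t (x : SL25) : D.κ' x * D.t = D.t * D.κ' x := by
  rw [← D.κ't, ← map_mul, ← map_mul, neg_one_comm]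
theorem κ's : D.κ' s5 = D.a * D.b := by rw [κ'_apply, D.κs, D.hs]
theorem κ'_s (x : SL25) : D.κ' x * (D.a * D.b⁻¹) = D.a * D.b⁻¹ * D.κ' x := by
  rw [κ'_apply, ← D.hz]; exact comm_conj' _ (D.κz x)
theorem κ'inj : Function.Injective D.κ' := (MulAut.conj D.h).injective.comp D.κinj
theorem cst {g : G} (h1 : g * (D.a * D.b⁻¹) = D.a * D.b⁻¹ * g) (h2 : g * D.t = D.t * g) :
    ∃ c ∈ zpowers (D.a * D.b⁻¹), ∃ x, g = c * D.κ' x := by
  have e1 := comm_conj' D.h h1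
  have e2 := comm_conj' D.h h2
  rw [D.hs] at e1
  rw [conj_eq_of_comm D.ht] at e2
  obtain ⟨_, ⟨i, rfl⟩, x, e⟩ := D.czt _ e1 e2
  refine ⟨_, ⟨i, rfl⟩, x, ?_⟩
  beta_reduce at e ⊢
  rw [← D.hconj g, e, κ'_apply, ← D.hz, ← conj_mul, conj_zpow]
theorem sκ' {x : SL25} (h : D.κ' x ∈ zpowers (D.a * D.b⁻¹)) : x = 1 := by
  obtain ⟨i, e⟩ := h
  refine D.zκ x ⟨i, ?_⟩
  rw [D.κ_eq, ← e, ← D.hs]; exact conj_zpow

/-- an element of `⟨z⟩ K` of order prime to three lies in `K` -/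
theorem eq_κ {c g : G} {x : SL25} (hc : c ∈ zpowers (D.a * D.b)) (e : g = c * D.κ x)
    (h : g ^ 4 = 1) : g = D.κ x := by
  have h1 : Commute c (D.κ x) := (Mc3.comm_zp (D.κz x) hc).symm
  rw [e, h1.mul_pow, ← map_pow] at h
  have h2 : x ^ 4 = 1 := D.zκ _ ((eq_inv_of_mul_eq_one_right h) ▸ inv_mem (pow_mem hc 4))
  rw [h2, map_one, mul_one] at h
  have h3 : c ^ 3 = 1 := by
    obtain ⟨i, rfl⟩ := hc
    rw [← zpow_natCast, ← zpow_mul, mul_comm, zpow_mul, zpow_natCast, D.z3', one_zpow]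
  rw [e, show c = 1 by rw [← h, pow_succ, h3, one_mul], one_mul]

theorem exists_f' : ∃ f', D.κ' f' = D.w ∧ f' * s5 * f'⁻¹ = s5⁻¹ ∧ f' * f' = -1 := by
  have e1 := comm_conj' D.h (comm_of_conj_eq D.ws)
  have e2 := comm_conj' D.h D.wt
  rw [D.hs] at e1
  rw [conj_eq_of_comm D.ht] at e2
  obtain ⟨c, hc, x, e⟩ := D.czt _ e1 e2
  have e3 := D.eq_κ hc e (by
    rw [conj_pow, show D.w ^ 4 = D.w * D.w * (D.w * D.w) by simp [pow_succ, mul_assoc], D.ww, D.tt]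
    group)
  have e4 : D.κ' x = D.w := by rw [κ'_apply, ← e3, D.hconj]
  refine ⟨x, e4, D.κ'inj ?_, D.κ'inj ?_⟩
  · rw [map_mul, map_mul, map_inv, map_inv, e4, D.κ's, D.wz]
  · rw [map_mul, e4, D.ww, D.κ't]

theorem κ_κ'_of {x : SL25} (h : x * s5 = s5 * x) (y : SL25) : D.κ x * D.κ' y = D.κ' y * D.κ x := by
  have h1 : Commute (D.κ s5) (D.κ' y) := by rw [D.κs]; exact (D.κ'_s y).symm
  have h2 : Commute (D.κ (-1)) (D.κ' y) := by rw [D.κt]; exact (D.κ'_t y).symm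
  rcases cent_s5 x h with rfl | rfl | rfl | rfl | rfl | rfl
  · simp
  · exact h1
  · rw [map_inv]; exact h1.inv_left
  · exact h2
  · rw [map_mul]; exact h1.mul_left h2
  · rw [map_mul, map_inv]; exact h1.inv_left.mul_left h2

theorem f_κ' (x : SL25) : D.f * D.κ' x = D.κ' x * D.f := by
  obtain ⟨f', h1, h2, -⟩ := D.exists_f'
  have h3 : Commute (D.κ f') (D.κ' x) := by
    rw [D.κ_eq, h1]; exact comm_conj' _ (D.wκ x)
  have h4 : Commute (D.κ (f'⁻¹ * f5)) (D.κ' x) := D.κ_κ'_of (by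
    apply comm_of_conj_eq
    rw [show f'⁻¹ * f5 * s5 * (f'⁻¹ * f5)⁻¹ = f'⁻¹ * (f5 * s5 * f5⁻¹) * f' by group, f5_s5, ← h2]
    group) x
  have := h3.mul_left h4
  rwa [← map_mul, mul_inv_cancel_left, D.κf] at this

theorem mem_P {g : G} : g ∈ closure {D.a, D.b} ↔ ∃ c ∈ zpowers D.a, ∃ d ∈ zpowers D.b, g = c * d :=
  mem_cl_pair D.ab
theorem aP : D.a ∈ closure {D.a, D.b} := subset_closure (by simp)
theorem bP : D.b ∈ closure {D.a, D.b} := subset_closure (by simp)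
theorem zP : D.a * D.b ∈ closure {D.a, D.b} := mul_mem D.aP D.bP
theorem sP : D.a * D.b⁻¹ ∈ closure {D.a, D.b} := mul_mem D.aP (inv_mem D.bP)

theorem cP {g : G} (h1 : g * D.a = D.a * g) (h2 : g * D.b = D.b * g) (h3 : g * D.t = D.t * g) :
    g ∈ closure {D.a, D.b} ∨ g * D.t ∈ closure {D.a, D.b} := by
  have c1 : Commute g D.a := h1
  have c2 : Commute g D.b := h2
  obtain ⟨c, hc, x, e⟩ := D.czt g (c1.mul_right c2) h3
  have hcP := zpowers_le.2 D.zP hc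
  have c3 : Commute c (D.a * D.b⁻¹) := by
    obtain ⟨i, rfl⟩ := hc
    exact (((Commute.refl D.a).mul_right D.cab.inv_right).mul_left
        (D.cab.symm.mul_right (Commute.refl _).inv_right)).zpow_left i
  have c4 : x * s5 = s5 * x := D.κinj (by
    rw [map_mul, map_mul, D.κs, show D.κ x = c⁻¹ * g by rw [e]; group]
    exact c3.inv_left.mul_left (c1.mul_right c2.inv_right))
  have hs : D.κ s5 ∈ closure {D.a, D.b} := D.κs ▸ D.sP
  have ht : ∀ y, g = c * D.κ (y * -1) → g * D.t = c * D.κ y := fun y e => by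
    rw [e, map_mul, D.κt]; simp only [mul_assoc, D.tt, mul_one]
  rcases cent_s5 x c4 with rfl | rfl | rfl | rfl | rfl | rfl
  · left; rw [e, map_one, mul_one]; exact hcP
  · left; rw [e]; exact mul_mem hcP hs
  · left; rw [e, map_inv]; exact mul_mem hcP (inv_mem hs)
  · right; rw [ht 1 (by rw [one_mul]; exact e), map_one, mul_one]; exact hcP
  · right; rw [ht _ e]; exact mul_mem hcP hs
  · right; rw [ht _ e, map_inv]; exact mul_mem hcP (inv_mem hs)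

theorem P_cases {g : G} (h : g ∈ closure {D.a, D.b}) : g ∈ zpowers D.a ∨ g ∈ zpowers D.b ∨
    g ∈ zpowers (D.a * D.b) ∨ g ∈ zpowers (D.a * D.b⁻¹) := by
  obtain ⟨c, hc, d, hd, rfl⟩ := D.mem_P.1 h
  rcases (Mc3.mem_zp3 D.a3).1 hc with rfl | rfl | rfl
  · right; left; rwa [one_mul]
  · rcases (Mc3.mem_zp3 D.b3).1 hd with rfl | rfl | rfl
    · left; rwa [mul_one]
    · right; right; left; exact mem_zpowers _
    · right; right; right; exact mem_zpowers _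
  · rcases (Mc3.mem_zp3 D.b3).1 hd with rfl | rfl | rfl
    · left; rwa [mul_one]
    · right; right; right
      rw [← inv_mem_iff, mul_inv_rev, inv_inv, D.cab.inv_right.symm.eq]; exact mem_zpowers _
    · right; right; left
      rw [← inv_mem_iff, mul_inv_rev, inv_inv, inv_inv, ← D.ab]; exact mem_zpowers _

theorem card_P : Nat.card (closure {D.a, D.b} : Subgroup G) = 9 := by
  have e : Nat.card (closure {D.a, D.b} : Subgroup G) = Nat.card (zpowers D.a × zpowers D.b) := by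
    symm
    refine Nat.card_congr (Equiv.ofBijective (fun p => ⟨p.1 * p.2,
      D.mem_P.2 ⟨_, p.1.2, _, p.2.2, rfl⟩⟩) ⟨?_, ?_⟩)
    · rintro ⟨⟨c, hc⟩, d, hd⟩ ⟨⟨c', hc'⟩, d', hd'⟩ e
      have e1 : c * d = c' * d' := congrArg Subtype.val e
      have e2 : d * d'⁻¹ = c⁻¹ * c' := by
        rw [eq_inv_mul_iff_mul_eq, ← mul_assoc, e1, mul_inv_cancel_right]
      have e3 : d * d'⁻¹ = 1 := by
        have h1 := mul_mem (inv_mem hc) hc'
        rw [← e2] at h1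
        rcases (Mc3.mem_zp3 D.b3).1 (mul_mem hd (inv_mem hd')) with h | h | h
        · exact h
        · exact absurd (h ▸ h1) D.ba
        · exact absurd (inv_mem_iff.1 (h ▸ h1)) D.ba
      obtain rfl := mul_inv_eq_one.1 e3
      obtain rfl := mul_right_cancel e1
      rfl
    · rintro ⟨g, hg⟩
      obtain ⟨c, hc, d, hd, rfl⟩ := D.mem_P.1 hg
      exact ⟨⟨⟨c, hc⟩, d, hd⟩, rfl⟩
  rw [e, Nat.card_prod, Nat.card_zpowers, Nat.card_zpowers, D.a3, D.b3]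

end TD

end Cfsg.Lib.HN3
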