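import Cfsg.Agent.HN3.BaseA

/-!
Basic consequences of the `2`-local data, second part.
-/

set_option autoImplicit false
set_option linter.unusedSectionVars false

namespace Cfsg.Lib.HN3

open Subgroup Equiv Cfsg.Lib.Perm
open scoped commutatorElement

theorem mem_of_perf {A : Subgroup SL25} (h : ∀ a b : SL25, ⁅a, b⁆ ∈ A) (x : SL25) : x ∈ A := by
  have h1 : commutator SL25 ≤ A := commutator_le.mpr fun a _ b _ => h a b
  rw [isPerfect_SL25.commutator_eq_top] at h1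
  exact h1 (mem_top x)

section
variable {G : Type*} [Group G]

theorem range_of_cent {φ ψ : SL25 →* G} {c : G} (hc : ∀ y, ψ y * c = c * ψ y)
    (h : ∀ x, ∃ d ∈ zpowers c, ∃ y, φ x = d * ψ y) (x : SL25) : ∃ y, φ x = ψ y := by
  have : x ∈ ψ.range.comap φ := mem_of_perf (fun x x' => by
    obtain ⟨_, ⟨i, rfl⟩, y, e⟩ := h x
    obtain ⟨_, ⟨j, rfl⟩, y', e'⟩ := h x'
    refine ⟨⁅y, y'⁆, ?_⟩
    have c1 : ∀ (k : ℤ) y, Commute (c ^ k) (ψ y) := fun k y => (Commute.zpow_right (hc y) k).symm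
    have c2 : Commute (c ^ i) (c ^ j) := Commute.zpow_zpow_self c i j
    rw [map_commutatorElement, map_commutatorElement, e, e']
    beta_reduce
    rw [Mc3.comm_mul_left, Mc3.comm_mul_right, Mc3.comm_mul_right,
      commutatorElement_eq_one_iff_commute.2 (c1 j y).symm,
      commutatorElement_eq_one_iff_commute.2 c2, commutatorElement_eq_one_iff_commute.2 (c1 i y'),
      ← map_commutatorElement, conj_eq_of_comm (c1 j _).eq, one_mul, conj_eq_of_comm (c1 i _).eq]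
    group) x
  obtain ⟨y, e⟩ := this
  exact ⟨y, e.symm⟩

theorem comm_conj_of {g x y y' : G} (h : x * y = y * x) (e : g * y * g⁻¹ = y' ∨ g * y * g⁻¹ = y'⁻¹) :
    g * x * g⁻¹ * y' = y' * (g * x * g⁻¹) := by
  have h1 : Commute (g * x * g⁻¹) (g * y * g⁻¹) := comm_conj' g h
  rcases e with e | e <;> rw [e] at h1
  exacts [h1, Commute.inv_right_iff.1 h1]

theorem bracket_conj (g x y : G) : ⁅g * x * g⁻¹, g * y * g⁻¹⁆ = g * ⁅x, y⁆ * g⁻¹ :=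
  (Mc3.conj_comm g x y).symm

theorem orderOf_conj' (g x : G) : orderOf (g * x * g⁻¹) = orderOf x := (MulAut.conj g).orderOf_eq x

theorem card_sub_conj (g : G) {p q : G → Prop} (h : ∀ x, p x ↔ q (g * x * g⁻¹)) :
    Nat.card {x // p x} = Nat.card {x // q x} :=
  Nat.card_congr ((MulAut.conj g).toEquiv.subtypeEquiv h)

theorem mem_norm_of [Finite G] {A : Subgroup G} {g : G} (h : ∀ x ∈ A, g * x * g⁻¹ ∈ A) :
    g ∈ normalizer (A : Set G) := mem_normalizer_fintype h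

theorem conj_of_norm {A : Subgroup G} {g x : G} (h : g ∈ normalizer (A : Set G)) (hx : x ∈ A) :
    g * x * g⁻¹ ∈ A := (mem_normalizer_iff.1 h x).1 hx

theorem conj_of_norm' {A : Subgroup G} {g x : G} (h : g ∈ normalizer (A : Set G)) (hx : x ∈ A) :
    g⁻¹ * x * g ∈ A := by simpa using conj_of_norm (inv_mem h) hx

theorem mem_cl3 {x y z g : G} (hx : x * x = 1) (hy : y * y = 1) (hz : z * z = 1)
    (xy : x * y = y * x) (xz : x * z = z * x) (yz : y * z = z * y) (h : g ∈ closure {x, y, z}) :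
    ∃ c ∈ zpowers x, g = c ∨ g = y * c ∨ g = z * c ∨ g = y * z * c := by
  have c1 : ∀ c ∈ zpowers x, c * y = y * c := fun c hc => (Mc3.comm_zp xy.symm hc).symm
  have c2 : ∀ c ∈ zpowers x, c * z = z * c := fun c hc => (Mc3.comm_zp xz.symm hc).symm
  have y1 : ∀ u, y * (y * u) = u := fun u => by rw [← mul_assoc, hy, one_mul]
  have z1 : ∀ u, z * (z * u) = u := fun u => by rw [← mul_assoc, hz, one_mul]
  have zy : ∀ u, z * (y * u) = y * (z * u) := fun u => by rw [← mul_assoc, ← yz, mul_assoc]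
  refine closure_induction_left (p := fun g _ => ∃ c ∈ zpowers x,
    g = c ∨ g = y * c ∨ g = z * c ∨ g = y * z * c) ⟨1, one_mem _, Or.inl rfl⟩ ?_ ?_ h
  on_goal 2 =>
    intro u hu
    rw [show u⁻¹ = u by
      rcases hu with rfl | rfl | rfl <;> exact inv_eq_of_mul_eq_one_right ‹_›]
    revert u
  all_goals
    rintro u (rfl | rfl | rfl) g - ⟨c, hc, e⟩
    · refine ⟨u * c, mul_mem (mem_zpowers _) hc, ?_⟩
      rcases e with rfl | rfl | rfl | rfl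
      · simp
      · right; left; rw [← mul_assoc, xy, mul_assoc]
      · right; right; left; rw [← mul_assoc, xz, mul_assoc]
      · right; right; right; rw [← mul_assoc, ← mul_assoc, xy, mul_assoc y, xz]; group
    · refine ⟨c, hc, ?_⟩
      rcases e with rfl | rfl | rfl | rfl <;> simp [mul_assoc, y1]
    · refine ⟨c, hc, ?_⟩
      rcases e with rfl | rfl | rfl | rfl <;> simp [mul_assoc, z1, zy]

end

namespace TD

variable {G : Type*} [Group G] (D : TD G)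

theorem conj_κ {g : G} (ht : g * D.t = D.t * g) (h : g * (D.a * D.b) * g⁻¹ = D.a * D.b ∨
    g * (D.a * D.b) * g⁻¹ = (D.a * D.b)⁻¹) (x : SL25) : ∃ y, g * D.κ x * g⁻¹ = D.κ y :=
  range_of_cent (φ := (MulAut.conj g).toMonoidHom.comp D.κ) D.κz (fun x =>
    D.czt _ (comm_conj_of (D.κz x) h) (comm_conj_of (D.κ_t x) (Or.inl (conj_eq_of_comm ht)))) x
theorem conj_κκ' {g : G} (ht : g * D.t = D.t * g) (h : g * (D.a * D.b) * g⁻¹ = D.a * D.b⁻¹ ∨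
    g * (D.a * D.b) * g⁻¹ = (D.a * D.b⁻¹)⁻¹) (x : SL25) : ∃ y, g * D.κ x * g⁻¹ = D.κ' y :=
  range_of_cent (φ := (MulAut.conj g).toMonoidHom.comp D.κ) D.κ'_s (fun x =>
    D.cst (comm_conj_of (D.κz x) h) (comm_conj_of (D.κ_t x) (Or.inl (conj_eq_of_comm ht)))) x
theorem conj_κ' {g : G} (ht : g * D.t = D.t * g) (h : g * (D.a * D.b⁻¹) * g⁻¹ = D.a * D.b⁻¹ ∨
    g * (D.a * D.b⁻¹) * g⁻¹ = (D.a * D.b⁻¹)⁻¹) (x : SL25) : ∃ y, g * D.κ' x * g⁻¹ = D.κ' y :=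
  range_of_cent (φ := (MulAut.conj g).toMonoidHom.comp D.κ') D.κ'_s (fun x =>
    D.cst (comm_conj_of (D.κ'_s x) h) (comm_conj_of (D.κ'_t x) (Or.inl (conj_eq_of_comm ht)))) x
theorem conj_κ'κ {g : G} (ht : g * D.t = D.t * g) (h : g * (D.a * D.b⁻¹) * g⁻¹ = D.a * D.b ∨
    g * (D.a * D.b⁻¹) * g⁻¹ = (D.a * D.b)⁻¹) (x : SL25) : ∃ y, g * D.κ' x * g⁻¹ = D.κ y :=
  range_of_cent (φ := (MulAut.conj g).toMonoidHom.comp D.κ') D.κz (fun x =>
    D.czt _ (comm_conj_of (D.κ'_s x) h) (comm_conj_of (D.κ'_t x) (Or.inl (conj_eq_of_comm ht)))) x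

theorem xz : D.x0 * (D.a * D.b) * D.x0⁻¹ = (D.a * D.b⁻¹)⁻¹ := by
  rw [← conj_mul, D.xa, conj_eq_of_comm D.xb, mul_inv_rev, inv_inv, D.cab.inv_left.eq]
theorem xs : D.x0 * (D.a * D.b⁻¹) * D.x0⁻¹ = (D.a * D.b)⁻¹ := by
  rw [← conj_mul, D.xa, ← conj_inv, conj_eq_of_comm D.xb, mul_inv_rev, D.cab.inv_inv.eq]
theorem uz : D.u * (D.a * D.b) * D.u⁻¹ = (D.a * D.b)⁻¹ := by
  rw [← conj_mul, D.ua, D.ub, mul_inv_rev, D.cab.inv_inv.eq]
theorem us : D.u * (D.a * D.b⁻¹) * D.u⁻¹ = (D.a * D.b⁻¹)⁻¹ := by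
  rw [← conj_mul, D.ua, ← conj_inv, D.ub, mul_inv_rev, D.cab.inv_left.inv_right.inv_right.eq]
theorem x0_κ (x : SL25) : ∃ y, D.x0 * D.κ x * D.x0⁻¹ = D.κ' y := D.conj_κκ' D.xt (Or.inr D.xz) x
theorem x0_κ' (x : SL25) : ∃ y, D.x0 * D.κ' x * D.x0⁻¹ = D.κ y := D.conj_κ'κ D.xt (Or.inr D.xs) x

theorem fconj (x : G) : D.f * (D.f * x * D.f⁻¹) * D.f⁻¹ = D.t * x * D.t⁻¹ := by rw [← D.ff]; group
theorem Ea_t {x : G} (h : x ∈ D.Ea) : x * D.t = D.t * x := by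
  rcases D.mem_zt.1 (D.cE x h _ D.tE) with e | e
  · exact commutatorElement_eq_one_iff_mul_comm.1 e
  · exfalso
    rw [commutatorElement_def, D.t_inv, mul_eq_right, mul_inv_eq_one, mul_eq_left] at e
    exact D.t1 e
theorem mem_Eb {x : G} : x ∈ D.Eb ↔ D.f⁻¹ * x * D.f ∈ D.Ea := by
  rw [Eb, mem_map_equiv]; rfl
theorem conj_mem_Eb {x : G} : D.f * x * D.f⁻¹ ∈ D.Eb ↔ x ∈ D.Ea := by
  rw [mem_Eb]; simp [mul_assoc]
theorem mem_Eb' {x : G} : x ∈ D.Eb ↔ D.f * x * D.f⁻¹ ∈ D.Ea := by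
  rw [mem_Eb, show D.f * x * D.f⁻¹ = D.t * (D.f⁻¹ * x * D.f) * D.t⁻¹ by rw [← D.fconj]; group]
  exact ((mem_normalizer_iff.1 (le_normalizer D.tE)) _)
theorem exists_Ea {x : G} (h : x ∈ D.Eb) : ∃ e ∈ D.Ea, x = D.f * e * D.f⁻¹ :=
  ⟨_, D.mem_Eb.1 h, by group⟩
theorem cardEb : Nat.card D.Eb = 32 :=
  (card_map_of_injective (MulAut.conj D.f).injective).trans D.cardE
theorem ftf : D.f * D.t * D.f⁻¹ = D.t := conj_eq_of_comm D.ft
theorem tEb : D.t ∈ D.Eb := D.ftf ▸ D.conj_mem_Eb.2 D.tE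
theorem B'_le : closure {D.t, D.r, D.v} ≤ D.Eb := fun x hx =>
  D.mem_Eb.2 (D.BE ((D.fB _).2 (by simpa [mul_assoc] using hx)))
theorem rB' : D.r ∈ closure {D.t, D.r, D.v} := subset_closure (by simp)
theorem vB' : D.v ∈ closure {D.t, D.r, D.v} := subset_closure (by simp)
theorem tB' : D.t ∈ closure {D.t, D.r, D.v} := subset_closure (by simp)
theorem rEb : D.r ∈ D.Eb := D.B'_le D.rB'
theorem vEb : D.v ∈ D.Eb := D.B'_le D.vB'
theorem Eb_t {x : G} (h : x ∈ D.Eb) : x * D.t = D.t * x := by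
  obtain ⟨e, he, rfl⟩ := D.exists_Ea h
  exact comm_conj_of (D.Ea_t he) (Or.inl D.ftf)
theorem f_zt {x : G} (h : x ∈ zpowers D.t) : D.f * x * D.f⁻¹ ∈ zpowers D.t :=
  (D.conj_zt D.ft h).symm ▸ h
theorem cEb : ∀ x ∈ D.Eb, ∀ y ∈ D.Eb, ⁅x, y⁆ ∈ zpowers D.t := fun x hx y hy => by
  obtain ⟨e, he, rfl⟩ := D.exists_Ea hx
  obtain ⟨e', he', rfl⟩ := D.exists_Ea hy
  rw [bracket_conj]; exact D.f_zt (D.cE e he e' he')
theorem sqEb : ∀ x ∈ D.Eb, x * x ∈ zpowers D.t := fun x hx => by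
  obtain ⟨e, he, rfl⟩ := D.exists_Ea hx
  rw [conj_mul]; exact D.f_zt (D.sqE e he)
theorem ndEb : ∀ x ∈ D.Eb, (∀ y ∈ D.Eb, x * y = y * x) → x ∈ zpowers D.t := fun x hx h => by
  obtain ⟨e, he, rfl⟩ := D.exists_Ea hx
  refine D.f_zt (D.ndE e he fun y hy => ?_)
  simpa [mul_assoc] using comm_conj' D.f⁻¹ (h _ (D.conj_mem_Eb.2 hy))
theorem bEb : ∀ x ∈ D.Eb, D.b * x = x * D.b := fun x hx => by
  obtain ⟨e, he, rfl⟩ := D.exists_Ea hx
  exact (comm_conj_of (D.aE e he).symm (Or.inl D.fa)).symm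
theorem fpfb : ∀ x ∈ D.Eb, x * (D.a * x * D.a⁻¹) * (D.a⁻¹ * x * D.a) ∈ zpowers D.t :=
  fun x hx => by
  obtain ⟨e, he, rfl⟩ := D.exists_Ea hx
  have := D.f_zt (D.fpf e he)
  rw [← D.fb]; convert this using 1; group
theorem clsEb : ∀ x ∈ D.Eb, x * x = 1 → x ∈ closure {D.t, D.r, D.v} ∨ IsConj D.t x :=
  fun x hx h => by
  obtain ⟨e, he, rfl⟩ := D.exists_Ea hx
  rw [conj_mul, conj_eq_one_iff] at h
  exact (D.clsE e he h).imp (D.fB e).1 fun h => h.trans (isConj_iff.2 ⟨_, rfl⟩)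
theorem cbt3 {g : G} (h1 : g * D.b = D.b * g) (h2 : g * D.t = D.t * g) :
    g ∈ D.Eb ∨ 3 ∣ orderOf g ∨ 3 ∣ orderOf ⁅g, D.a⁆ := by
  have := D.cat3 _ (comm_conj_of h1 (Or.inl D.fb)) (comm_conj_of h2 (Or.inl D.ftf))
  rwa [← D.mem_Eb', orderOf_conj', ← D.fa, bracket_conj, orderOf_conj'] at this

theorem fix_aux {x c : G} (hx : x * D.t = D.t * x) (hc : c * D.t = D.t * c)
    (hs : x * x ∈ zpowers D.t) (h1 : D.Fx c x)
    (h2 : x * (c * x * c⁻¹) * (c⁻¹ * x * c) ∈ zpowers D.t) : x ∈ zpowers D.t := by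
  have e1 : c * x * c⁻¹ = ⁅c, x⁆ * x := by group
  have e2 : c⁻¹ * x * c = (⁅c, x⁆)⁻¹ * x := by
    have := D.conj_zt (g := c⁻¹) (Commute.inv_left hc) h1
    rw [← this]; group
  rw [e1, e2, ← mul_assoc x, D.comm_zt hx h1] at h2
  exact (mul_mem_cancel_left (mul_mem (mul_mem h1 hs) (inv_mem h1))).1
    (by simpa only [mul_assoc] using h2)
theorem fixb {x : G} (h : x ∈ D.Ea) (h1 : D.Fx D.b x) : x ∈ zpowers D.t :=
  D.fix_aux (D.Ea_t h) D.tb (D.sqE x h) h1 (D.fpf x h)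
theorem fixa {x : G} (h : x ∈ D.Eb) (h1 : D.Fx D.a x) : x ∈ zpowers D.t :=
  D.fix_aux (D.Eb_t h) D.ta (D.sqEb x h) h1 (D.fpfb x h)
theorem fx_of_comm {n x : G} (h : n * x = x * n) : D.Fx n x := by
  rw [Fx, commutatorElement_eq_one_iff_mul_comm.2 h]; exact one_mem _
theorem inf_E {x : G} (h : x ∈ D.Ea) (h1 : x ∈ D.Eb) : x ∈ zpowers D.t :=
  D.fixb h (D.fx_of_comm (D.bEb x h1))
theorem Ea_r {x : G} (h : x ∈ D.Ea) : x * D.r = D.r * x := by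
  obtain ⟨σ, rfl⟩ := D.Eμ h; exact D.rμ σ
theorem Ea_v {x : G} (h : x ∈ D.Ea) : x * D.v = D.v * x := by
  obtain ⟨σ, rfl⟩ := D.Eμ h; exact D.vμ σ
theorem rt : D.r * D.t = D.t * D.r := (D.Ea_r D.tE).symm
theorem vt : D.v * D.t = D.t * D.v := (D.Ea_v D.tE).symm
theorem Ea_B' {x y : G} (h : x ∈ D.Ea) (h1 : y ∈ closure {D.t, D.r, D.v}) : x * y = y * x := by
  have : closure {D.t, D.r, D.v} ≤ centralizer {x} := (closure_le _).2 (by
    rintro y (rfl | rfl | rfl) <;> refine mem_centralizer_singleton_iff.2 ?_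
    exacts [(D.Ea_t h).symm, (D.Ea_r h).symm, (D.Ea_v h).symm])
  exact (mem_centralizer_singleton_iff.1 (this h1)).symm
theorem Eb_B {x y : G} (h : x ∈ D.Eb) (h1 : y ∈ D.B) : x * y = y * x := by
  simpa [mul_assoc] using comm_conj' D.f⁻¹ (D.Ea_B' (D.mem_Eb'.1 h) ((D.fB y).1 h1))
theorem tB : D.t ∈ D.B := (D.fB _).2 (D.ftf.symm ▸ D.tB')
theorem r_notMem : D.r ∉ zpowers D.t := fun h =>
  (D.mem_zt.1 h).elim D.r1 fun e => D.tr (e ▸ IsConj.refl _)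
theorem conj_rv : IsConj D.r D.v := isConj_iff.2 ⟨_, D.ar⟩
theorem conj_rrv : IsConj D.r (D.r * D.v) := D.conj_rv.trans (isConj_iff.2 ⟨_, D.av⟩)
theorem conj_t_Eb {x : G} (h : x ∈ D.Eb) (h1 : x ∉ zpowers D.t) :
    ∃ e ∈ D.Eb, e * x * e⁻¹ = x * D.t := by
  by_contra hn
  refine h1 (D.ndEb x h fun y hy => ?_)
  rcases D.mem_zt.1 (D.cEb y hy x h) with e | e
  · exact (commutatorElement_eq_one_iff_mul_comm.1 e).symm
  · exact absurd ⟨y, hy, by rw [D.Eb_t h, ← e]; group⟩ hn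
theorem mem_B' {x : G} (h : x ∈ closure {D.t, D.r, D.v}) : ∃ c ∈ zpowers D.t,
    x = c ∨ x = D.r * c ∨ x = D.v * c ∨ x = D.r * D.v * c :=
  mem_cl3 D.tt D.rr D.vv D.rt.symm D.vt.symm D.rv h
/-- the elements of `⟨t, r, v⟩` outside `⟨t⟩` are conjugate to `r` -/
theorem conj_r {x : G} (h : x ∈ closure {D.t, D.r, D.v}) (h1 : x ∉ zpowers D.t) : IsConj D.r x := by
  have key : ∀ y ∈ D.Eb, IsConj D.r y → ∀ c ∈ zpowers D.t, IsConj D.r (y * c) := by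
    intro y hy h2 c hc
    rcases D.mem_zt.1 hc with rfl | rfl
    · rwa [mul_one]
    · obtain ⟨e, -, he⟩ := D.conj_t_Eb hy fun h3 => (D.mem_zt.1 h3).elim
        (fun e => D.r1 (isConj_one_left.1 (e ▸ h2))) fun e => D.tr (e ▸ h2).symm
      exact h2.trans (isConj_iff.2 ⟨e, he⟩)
  obtain ⟨c, hc, rfl | rfl | rfl | rfl⟩ := D.mem_B' h
  exacts [absurd hc h1, key _ D.rEb (IsConj.refl _) c hc, key _ D.vEb D.conj_rv c hc,
    key _ (mul_mem D.rEb D.vEb) D.conj_rrv c hc]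
theorem conj_rB {x : G} (h : x ∈ D.B) (h1 : x ∉ zpowers D.t) : IsConj D.r x := by
  refine (D.conj_r ((D.fB x).1 h) fun h2 => h1 ?_).trans (isConj_iff.2 ⟨_, rfl⟩ : IsConj x _).symm
  have := D.conj_zt (g := D.f⁻¹) (Commute.inv_left D.ft) h2
  rw [← this] at h2
  simpa [mul_assoc] using h2
theorem conj_x0 : IsConj D.r D.x0 := by
  obtain ⟨g, -, e⟩ := D.xcj
  exact D.conj_rv.trans (isConj_iff.2 ⟨g, e⟩ : IsConj D.x0 _).symm
theorem conj_U {x : G} (h : x ∈ D.U) (h1 : x ≠ 1) : IsConj D.t x := by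
  obtain ⟨σ, e⟩ := D.Uμ x h h1
  exact isConj_iff.2 ⟨_, e⟩
theorem Ea_le : D.Ea ≤ D.Q := le_sup_left
theorem Eb_le : D.Eb ≤ D.Q := le_sup_right
theorem tQ : D.t ∈ D.Q := D.Ea_le D.tE
theorem zt_le : zpowers D.t ≤ D.Q := zpowers_le.2 D.tQ
theorem rQ : D.r ∈ D.Q := D.Eb_le D.rEb
theorem vQ : D.v ∈ D.Q := D.Eb_le D.vEb
theorem Q_le_N : D.Q ≤ D.N := le_normalizer
theorem Q_t {x : G} (h : x ∈ D.Q) : x * D.t = D.t * x :=
  mem_centralizer_singleton_iff.1 ((sup_le (fun _ h => mem_centralizer_singleton_iff.2 (D.Ea_t h))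
    fun _ h => mem_centralizer_singleton_iff.2 (D.Eb_t h) : D.Q ≤ centralizer {D.t}) h)
theorem conj_Q {n x : G} (hn : n ∈ D.N) (hx : x ∈ D.Q) : n * x * n⁻¹ ∈ D.Q := conj_of_norm hn hx
theorem conj_Q' {n x : G} (hn : n ∈ D.N) (hx : x ∈ D.Q) : n⁻¹ * x * n ∈ D.Q := conj_of_norm' hn hx

/-- the elements of `Q` fixed modulo `t` -/
def Cq (n : G) : Subgroup G where
  carrier := {x | x ∈ D.Q ∧ D.Fx n x}
  one_mem' := ⟨one_mem _, D.fx_of_comm (by simp)⟩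
  mul_mem' := fun {x y} hx hy => ⟨mul_mem hx.1 hy.1, by
    rw [Fx, Mc3.comm_mul_right, D.conj_zt (D.Q_t hx.1) hy.2]; exact mul_mem hx.2 hy.2⟩
  inv_mem' := fun {x} hx => ⟨inv_mem hx.1, by
    have := D.conj_zt (g := x⁻¹) (Commute.inv_left (D.Q_t hx.1)) (inv_mem hx.2)
    rw [Fx, show ⁅n, x⁻¹⁆ = x⁻¹ * (⁅n, x⁆)⁻¹ * x⁻¹⁻¹ by group, this]; exact inv_mem hx.2⟩
theorem mem_Cq {n x : G} : x ∈ D.Cq n ↔ x ∈ D.Q ∧ D.Fx n x := Iff.rfl
/-- the elements of `C(t)` fixing `x` modulo `t` -/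
def St (x : G) : Subgroup G where
  carrier := {n | n * D.t = D.t * n ∧ D.Fx n x}
  one_mem' := ⟨by simp, D.fx_of_comm (by simp)⟩
  mul_mem' := fun {m n} hm hn => ⟨Commute.mul_left hm.1 hn.1, by
    rw [Fx, Mc3.comm_mul_left, D.conj_zt hm.1 hn.2]; exact mul_mem hn.2 hm.2⟩
  inv_mem' := fun {n} hn => ⟨Commute.inv_left hn.1, by
    have := D.conj_zt (g := n⁻¹) (Commute.inv_left hn.1) (inv_mem hn.2)
    rw [Fx, show ⁅n⁻¹, x⁆ = n⁻¹ * (⁅n, x⁆)⁻¹ * n⁻¹⁻¹ by group, this]; exact inv_mem hn.2⟩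
theorem mem_St {n x : G} : n ∈ D.St x ↔ n * D.t = D.t * n ∧ D.Fx n x := Iff.rfl
theorem t_Cq (n : G) (hn : n * D.t = D.t * n) : zpowers D.t ≤ D.Cq n := fun _ hx =>
  ⟨D.zt_le hx, D.fx_of_comm (D.comm_zt hn hx)⟩
theorem fx_conj {g n x : G} (hg : g * D.t = D.t * g) :
    D.Fx (g * n * g⁻¹) (g * x * g⁻¹) ↔ D.Fx n x := by
  rw [Fx, Fx, bracket_conj]
  refine ⟨fun h => ?_, fun h => (D.conj_zt hg h).symm ▸ h⟩
  have := D.conj_zt (g := g⁻¹) (Commute.inv_left hg) h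
  rw [← this] at h
  simpa [mul_assoc] using h

end TD

end Cfsg.Lib.HN3
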