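import Cfsg.Agent.HN3.BaseB

/-!
Basic consequences of the `2`-local data, third part.
-/

set_option autoImplicit false
set_option linter.unusedSectionVars false

namespace Cfsg.Lib.HN3

open Subgroup Equiv Cfsg.Lib.Perm Cfsg.Lib.Local
open scoped commutatorElement

section
variable {G : Type*} [Group G]

theorem card_zp2 {t : G} (h : t * t = 1) (h1 : t ≠ 1) : Nat.card (zpowers t) = 2 := by
  rw [Nat.card_zpowers]; exact orderOf_eq_prime (by rw [pow_two, h]) h1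

theorem card_le_two_mul [Finite G] {A K : Subgroup G} (hK : K ≤ A)
    (h : ∀ x ∈ A, ∀ y ∈ A, x ∉ K → y ∉ K → x * y ∈ K) : Nat.card A ≤ 2 * Nat.card K := by
  have h1 : (K.subgroupOf A).index ∣ 2 := by
    rw [index_dvd_two_iff]
    by_cases e : ∃ a : A, (a : G) ∉ K
    · obtain ⟨a, ha⟩ := e
      exact ⟨a, fun b => (em ((b : G) ∈ K)).symm.imp_left fun hb => h b b.2 a a.2 hb ha⟩
    · exact ⟨1, fun b => Or.inr (not_not.1 fun hb => e ⟨b, hb⟩)⟩
  rw [← (K.subgroupOf A).index_mul_card, Nat.card_congr (subgroupOfEquivOfLe hK).toEquiv]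
  exact Nat.mul_le_mul_right _ (Nat.le_of_dvd two_pos h1)

theorem two_mul_le_of_lt [Finite G] {A B : Subgroup G} (h : A < B) : 2 * Nat.card A ≤ Nat.card B := by
  obtain ⟨k, hk⟩ := card_dvd_of_le h.le
  have := CD.card_lt_of_lt h
  have h0 : 0 < Nat.card A := Nat.card_pos
  rcases k with _ | _ | k
  · omega
  · omega
  · rw [hk]; nlinarith

/-- an abelian subgroup of index at most two of a group of extraspecial type is small -/
theorem card_ab_le [Finite G] {E A : Subgroup G} {t : G} (tt : t * t = 1) (t1 : t ≠ 1)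
    (cE : ∀ x ∈ E, ∀ y ∈ E, ⁅x, y⁆ ∈ zpowers t)
    (nd : ∀ x ∈ E, (∀ y ∈ E, x * y = y * x) → x ∈ zpowers t) (hA : A ≤ E)
    (ab : ∀ x ∈ A, ∀ y ∈ A, x * y = y * x) (hi : Nat.card E ≤ 2 * Nat.card A) : Nat.card A ≤ 4 := by
  have h2 := card_zp2 tt t1
  rcases hA.eq_or_lt with rfl | hl
  · have := CD.card_le_of_le (show A ≤ zpowers t from fun x hx => nd x hx (ab x hx))
    omega
  obtain ⟨y, hy, hyA⟩ := SetLike.exists_of_lt hl
  have e : A ⊔ zpowers y = E := CD.eq_of_le_of_card_ge (sup_le hA (zpowers_le.2 hy))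
    (hi.trans (two_mul_le_of_lt (left_lt_sup.2 fun h => hyA (h (mem_zpowers y)))))
  have h3 := card_le_two_mul (A := A) (K := A ⊓ centralizer {y}) inf_le_left fun x hx x' hx' h h' => by
    have k : ∀ u ∈ A, u ∉ A ⊓ centralizer {y} → ⁅u, y⁆ = t := fun u hu h =>
      ((mem_zp2 tt).1 (cE u (hA hu) y hy)).resolve_left fun e => h
        ⟨hu, mem_centralizer_singleton_iff.2 (commutatorElement_eq_one_iff_mul_comm.1 e)⟩
    refine ⟨mul_mem hx hx', mem_centralizer_singleton_iff.2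
      (commutatorElement_eq_one_iff_mul_comm.1 ?_)⟩
    have h4 : x * t * x⁻¹ = t := by
      rcases (mem_zp2 tt).1 (cE x (hA hx) t (k x hx h ▸ mul_mem (mul_mem (mul_mem (hA hx) hy)
        (inv_mem (hA hx))) (inv_mem hy))) with e | e
      · exact conj_eq_of_comm (commutatorElement_eq_one_iff_mul_comm.1 e)
      · rw [commutatorElement_def, mul_inv_eq_iff_eq_mul, tt, conj_eq_one_iff] at e
        exact absurd e t1
    rw [Mc3.comm_mul_left, k x hx h, k x' hx' h', h4, tt]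
  have h4 := CD.card_le_of_le (show A ⊓ centralizer {y} ≤ zpowers t from fun x hx =>
    nd x (hA hx.1) fun u hu => (mem_centralizer_singleton_iff.1 ((sup_le
      (fun v hv => mem_centralizer_singleton_iff.2 (ab v hv x hx.1))
      (zpowers_le.2 (mem_centralizer_singleton_iff.2 (mem_centralizer_singleton_iff.1 hx.2).symm)) :
        A ⊔ zpowers y ≤ centralizer {x}) (e ▸ hu))).symm)
  omega

theorem mem_sup_comm {A B : Subgroup G} (h : ∀ x ∈ A, ∀ y ∈ B, x * y = y * x) {g : G} :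
    g ∈ A ⊔ B ↔ ∃ x ∈ A, ∃ y ∈ B, g = x * y := by
  rw [← SetLike.mem_coe, coe_mul_of_left_le_normalizer_right _ _
    (fun x hx => centralizer_le_normalizer _ fun y hy => (h x hx y hy).symm)]
  simp only [Set.mem_mul, SetLike.mem_coe, eq_comm]

theorem mem_nzp [Finite G] {a g : G} (h : g * a * g⁻¹ = a ∨ g * a * g⁻¹ = a⁻¹) :
    g ∈ normalizer (zpowers a : Set G) :=
  Mc3.mem_nz (h.elim (fun e => e.symm ▸ mem_zpowers a) fun e => e.symm ▸ inv_mem (mem_zpowers a))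

end

namespace TD

variable {G : Type*} [Group G] (D : TD G)

theorem card_zt : Nat.card (zpowers D.t) = 2 := card_zp2 D.tt D.t1

theorem nZ {g : G} (ht : g * D.t = D.t * g) (h : g * (D.a * D.b) * g⁻¹ = D.a * D.b ∨
    g * (D.a * D.b) * g⁻¹ = (D.a * D.b)⁻¹) : ∃ x y, g = D.κ x * D.κ' y := by
  have key : ∀ g, g * D.t = D.t * g → g * (D.a * D.b) * g⁻¹ = D.a * D.b →
      ∃ x y, g = D.κ x * D.κ' y := fun g ht h => by
    obtain ⟨_, ⟨i, rfl⟩, x, e⟩ := D.czt g (comm_of_conj_eq h) ht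
    exact ⟨x, s5 ^ i, by rw [e, map_zpow, D.κ's]; exact (Commute.zpow_right (D.κz x) i).symm⟩
  rcases h with h | h
  · exact key g ht h
  · obtain ⟨f', h1, -⟩ := D.exists_f'
    obtain ⟨x, y, e⟩ := key (g * D.w) (Commute.mul_left ht D.wt) (by
      rw [show g * D.w * (D.a * D.b) * (g * D.w)⁻¹ = g * (D.w * (D.a * D.b) * D.w⁻¹) * g⁻¹ by group,
        D.wz, ← conj_inv, h, inv_inv])
    exact ⟨x, y * f'⁻¹, by rw [map_mul, map_inv, h1, ← mul_assoc, ← e, mul_inv_cancel_right]⟩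

theorem z_ne : D.a * D.b ≠ 1 := fun e =>
  D.ba (eq_inv_of_mul_eq_one_right e ▸ inv_mem (mem_zpowers _))
theorem z3 : orderOf (D.a * D.b) = 3 := orderOf_eq_prime (hp := ⟨Nat.prime_three⟩) D.z3' D.z_ne
theorem s3 : orderOf (D.a * D.b⁻¹) = 3 := by rw [← D.hz, orderOf_conj', D.z3]
theorem conj_zs : IsConj (D.a * D.b) (D.a * D.b⁻¹) := isConj_iff.2 ⟨_, D.hz⟩

theorem conj_z_cases {x : G} (hx : x ∈ closure {D.a, D.b}) (h : IsConj (D.a * D.b) x) :
    x = D.a * D.b ∨ x = (D.a * D.b)⁻¹ ∨ x = D.a * D.b⁻¹ ∨ x = (D.a * D.b⁻¹)⁻¹ := by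
  have x1 : x ≠ 1 := fun e => D.z_ne (isConj_one_left.1 (e ▸ h))
  have c1 : IsConj D.a⁻¹ D.a := (isConj_iff.2 ⟨_, D.ua⟩ : IsConj D.a _).symm
  have c2 : IsConj D.b D.a := isConj_iff.2 ⟨_, D.fb⟩
  have c3 : IsConj D.b⁻¹ D.b := (isConj_iff.2 ⟨_, D.ub⟩ : IsConj D.b _).symm
  rcases D.P_cases hx with k | k | k | k
  · rcases (Mc3.mem_zp3 D.a3).1 k with rfl | rfl | rfl
    exacts [absurd rfl x1, absurd h D.az, absurd (h.trans c1) D.az]
  · rcases (Mc3.mem_zp3 D.b3).1 k with rfl | rfl | rfl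
    exacts [absurd rfl x1, absurd (h.trans c2) D.az, absurd ((h.trans c3).trans c2) D.az]
  · have := (Mc3.mem_zp3 D.z3).1 k; tauto
  · have := (Mc3.mem_zp3 D.s3).1 k; tauto

theorem mem_N_of_swap [Finite G] {g : G} (h1 : ∀ x ∈ D.Ea, g * x * g⁻¹ ∈ D.Q)
    (h2 : ∀ x ∈ D.Eb, g * x * g⁻¹ ∈ D.Q) : g ∈ D.N :=
  mem_norm_of (sup_le h1 h2 : D.Q ≤ D.Q.comap (MulAut.conj g).toMonoidHom)

variable [Finite G]

theorem nEb {g : G} (h : g ∈ normalizer (zpowers D.b : Set G)) (h1 : g * D.t = D.t * g) :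
    g ∈ normalizer (D.Eb : Set G) := by
  have h2 : D.f⁻¹ * g * D.f ∈ normalizer (D.Ea : Set G) := D.nE _ (mem_nzp (by
      rw [show D.f⁻¹ * g * D.f * D.a * (D.f⁻¹ * g * D.f)⁻¹ =
        D.f⁻¹ * (g * (D.f * D.a * D.f⁻¹) * g⁻¹) * D.f by group, D.fa]
      rcases Mc3.nz_cases D.b3 h with e | e
      · left; rw [conj_eq_of_comm e, D.fb']
      · right; rw [e, ← D.fb']; group))
    (((Commute.inv_left D.ft).mul_left h1).mul_left D.ft)
  refine mem_norm_of fun x hx => D.mem_Eb.2 ?_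
  have := conj_of_norm h2 (D.mem_Eb.1 hx)
  convert this using 1; group
theorem mem_N_of {g : G} (h : g ∈ normalizer (zpowers D.a : Set G))
    (h' : g ∈ normalizer (zpowers D.b : Set G)) (h1 : g * D.t = D.t * g) : g ∈ D.N :=
  D.mem_N_of_swap (fun _ hx => D.Ea_le (conj_of_norm (D.nE g h h1) hx))
    fun _ hx => D.Eb_le (conj_of_norm (D.nEb h' h1) hx)
theorem a_nb : D.a ∈ normalizer (zpowers D.b : Set G) := mem_nzp (Or.inl (conj_eq_of_comm D.ab))
theorem b_na : D.b ∈ normalizer (zpowers D.a : Set G) := mem_nzp (Or.inl (conj_eq_of_comm D.ab.symm))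
theorem x0_na : D.x0 ∈ normalizer (zpowers D.a : Set G) := mem_nzp (Or.inr D.xa)
theorem x0_nb : D.x0 ∈ normalizer (zpowers D.b : Set G) := mem_nzp (Or.inl (conj_eq_of_comm D.xb))
theorem u_na : D.u ∈ normalizer (zpowers D.a : Set G) := mem_nzp (Or.inr D.ua)
theorem u_nb : D.u ∈ normalizer (zpowers D.b : Set G) := mem_nzp (Or.inr D.ub)
theorem h_na : D.h ∈ normalizer (zpowers D.a : Set G) := mem_nzp (Or.inl (conj_eq_of_comm D.ha))
theorem h_nb : D.h ∈ normalizer (zpowers D.b : Set G) := mem_nzp (Or.inr D.hb)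
theorem b_nE : D.b ∈ normalizer (D.Ea : Set G) := D.nE _ D.b_na D.tb
theorem a_nE : D.a ∈ normalizer (D.Eb : Set G) := D.nEb D.a_nb D.ta
theorem aN : D.a ∈ D.N := D.mem_N_of (le_normalizer (mem_zpowers _)) D.a_nb D.ta
theorem bN : D.b ∈ D.N := D.mem_N_of D.b_na (le_normalizer (mem_zpowers _)) D.tb
theorem fN : D.f ∈ D.N := D.mem_N_of_swap (fun _ hx => D.Eb_le (D.conj_mem_Eb.2 hx))
  fun _ hx => D.Ea_le (D.mem_Eb'.1 hx)
theorem fw_na : D.f⁻¹ * D.w ∈ normalizer (zpowers D.a : Set G) := mem_nzp (Or.inr (by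
  rw [show D.f⁻¹ * D.w * D.a * (D.f⁻¹ * D.w)⁻¹ = D.f⁻¹ * (D.w * D.a * D.w⁻¹) * D.f by group, D.wa,
    ← D.fb']; group))
theorem fw_nb : D.f⁻¹ * D.w ∈ normalizer (zpowers D.b : Set G) := mem_nzp (Or.inr (by
  rw [show D.f⁻¹ * D.w * D.b * (D.f⁻¹ * D.w)⁻¹ = D.f⁻¹ * (D.w * D.b * D.w⁻¹) * D.f by group, D.wb,
    ← D.fa']; group))
theorem fw_t : D.f⁻¹ * D.w * D.t = D.t * (D.f⁻¹ * D.w) := (Commute.inv_left D.ft).mul_left D.wt
theorem wN : D.w ∈ D.N := by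
  simpa using mul_mem D.fN (D.mem_N_of D.fw_na D.fw_nb D.fw_t)
theorem hN : D.h ∈ D.N := D.mem_N_of D.h_na D.h_nb D.ht
theorem uN : D.u ∈ D.N := D.mem_N_of D.u_na D.u_nb D.ut
theorem x0N : D.x0 ∈ D.N := D.mem_N_of D.x0_na D.x0_nb D.xt
theorem P_le_N : closure {D.a, D.b} ≤ D.N := (closure_le _).2 (by
  rintro x (rfl | rfl); exacts [D.aN, D.bN])
theorem w_Ea {x : G} : x ∈ D.Ea ↔ D.w * x * D.w⁻¹ ∈ D.Eb := by
  rw [mem_Eb, mem_normalizer_iff.1 (D.nE _ D.fw_na D.fw_t) x]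
  exact iff_of_eq (congrArg _ (by group))
theorem cent_Ea {A : Subgroup G} (hA : A ≤ D.Ea) (h8 : Nat.card A = 8)
    (ab : ∀ x ∈ A, ∀ y ∈ A, x * y = y * x) {x : G} (h : x ∈ D.Ea) (h1 : ∀ y ∈ A, x * y = y * x) :
    x ∈ A := by
  by_contra hx
  have h2 := two_mul_le_of_lt (left_lt_sup.2 fun h => hx (h (mem_zpowers x)) : A < A ⊔ zpowers x)
  have h3 : ∀ y ∈ A, ∀ c ∈ zpowers x, y * c = c * y := fun y hy c hc =>
    Mc3.comm_zp (h1 y hy).symm hc
  have := card_ab_le D.tt D.t1 D.cE D.ndE (sup_le hA (zpowers_le.2 h)) (by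
    intro g hg g' hg'
    obtain ⟨y, hy, c, hc, rfl⟩ := (mem_sup_comm h3).1 hg
    obtain ⟨y', hy', c', hc', rfl⟩ := (mem_sup_comm h3).1 hg'
    exact Commute.mul_left (Commute.mul_right (ab y hy y' hy') (h3 y hy c' hc'))
      (Commute.mul_right (h3 y' hy' c hc).symm
        (Mc3.comm_zp (Mc3.comm_zp rfl hc).symm hc'))) (by rw [D.cardE]; omega)
  omega
theorem U_comm : ∀ x ∈ D.U, ∀ y ∈ D.U, x * y = y * x := fun x hx y hy => by
  rw [← inv_eq_of_mul_eq_one_right (D.sqU _ (mul_mem hx hy)), mul_inv_rev,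
    inv_eq_of_mul_eq_one_right (D.sqU x hx), inv_eq_of_mul_eq_one_right (D.sqU y hy)]
theorem B'_comm : ∀ x ∈ closure {D.t, D.r, D.v}, ∀ y ∈ closure {D.t, D.r, D.v}, x * y = y * x := by
  have : IsMulCommutative (closure {D.t, D.r, D.v} : Subgroup G) :=
    isMulCommutative_closure (by
      rintro x (rfl | rfl | rfl) y (rfl | rfl | rfl) <;>
        first | rfl | simp only [D.rt, D.vt, D.rv])
  exact CD.isMulCommutative_iff.1 this
theorem B_comm : ∀ x ∈ D.B, ∀ y ∈ D.B, x * y = y * x := fun x hx y hy => by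
  simpa [mul_assoc] using comm_conj' D.f⁻¹ (D.B'_comm _ ((D.fB x).1 hx) _ ((D.fB y).1 hy))
theorem cU_Ea {x : G} (h : x ∈ D.Ea) (h1 : ∀ y ∈ D.U, x * y = y * x) : x ∈ D.U :=
  D.cent_Ea D.UE D.cardU D.U_comm h h1
theorem cB_Ea {x : G} (h : x ∈ D.Ea) (h1 : ∀ y ∈ D.B, x * y = y * x) : x ∈ D.B :=
  D.cent_Ea D.BE D.cardB D.B_comm h h1
theorem cB'_Eb {x : G} (h : x ∈ D.Eb) (h1 : x * D.r = D.r * x) (h2 : x * D.v = D.v * x) :
    x ∈ closure {D.t, D.r, D.v} := by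
  obtain ⟨e, he, rfl⟩ := D.exists_Ea h
  refine (D.fB e).1 (D.cB_Ea he fun y hy => ?_)
  have : closure {D.t, D.r, D.v} ≤ centralizer {D.f * e * D.f⁻¹} := (closure_le _).2 (by
    rintro y (rfl | rfl | rfl) <;> refine mem_centralizer_singleton_iff.2 ?_
    exacts [(D.Eb_t h).symm, h1.symm, h2.symm])
  simpa [mul_assoc] using
    comm_conj' D.f⁻¹ (mem_centralizer_singleton_iff.1 (this ((D.fB y).1 hy))).symm
/-- elements of `C(t)` normalising `⟨a, b⟩` -/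
theorem nP {g : G} (h : g ∈ normalizer (closure {D.a, D.b} : Set G)) (h1 : g * D.t = D.t * g) :
    ∃ x y, g = D.κ x * D.κ' y ∨ g = D.κ x * D.κ' y * D.x0 := by
  have k : ∀ {g c d : G}, g⁻¹ * c * g = d ∨ g⁻¹ * c * g = d⁻¹ → g * d * g⁻¹ = c ∨ g * d * g⁻¹ = c⁻¹ :=
    fun {g c d} h => h.imp (fun e => by rw [← e]; group) fun e => by
      rw [← inv_inv d, ← e]; group
  rcases or_assoc.2 (D.conj_z_cases (conj_of_norm' h D.zP)
    (isConj_iff.2 ⟨g⁻¹, by rw [inv_inv]⟩)) with e | e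
  · obtain ⟨x, y, e⟩ := D.nZ h1 (k e)
    exact ⟨x, y, Or.inl e⟩
  · obtain ⟨x, y, e⟩ := D.nZ (g := g * D.x0) (Commute.mul_left h1 D.xt) (by
      rw [show g * D.x0 * (D.a * D.b) * (g * D.x0)⁻¹ = g * (D.x0 * (D.a * D.b) * D.x0⁻¹) * g⁻¹ by
        group, D.xz, ← conj_inv]
      rcases k e with e | e
      · right; rw [e]
      · left; rw [e, inv_inv])
    exact ⟨x, y, Or.inr (by rw [← e, mul_assoc, D.xx, mul_one])⟩

end TD

end Cfsg.Lib.HN3
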