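import Cfsg.Agent.Recog.Mc3A
import Cfsg.Agent.Trans.SylowIn
import Cfsg.Agent.HN.Carm
import Cfsg.Prelude.Def_SporadicB
import Cfsg.Prelude.Def_Spor_Conway

/-!
Definitions for the recognition of the Harada–Norton group from a `3`-centraliser.
-/

set_option autoImplicit false

namespace Cfsg.Lib.HN3

open Subgroup Equiv Cfsg.Lib.Perm Cfsg.Lib.Known
open Cfsg.Lib.Mc3 (LS)
open scoped commutatorElement

/-- The alternating group of degree eight. -/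
abbrev A8 : Type := alternatingGroup (Fin 8)
/-- The alternating group of degree nine. -/
abbrev A9 : Type := alternatingGroup (Fin 9)
/-- The alternating group of degree twelve. -/
abbrev A12 : Type := alternatingGroup (Fin 12)

/-- An element of order three. -/
def s5 : SL25 := sl2mk 0 1 4 4 (by decide)
/-- An element of order four inverting `s5`. -/
def f5 : SL25 := sl2mk 0 2 2 0 (by decide)

/-- Three disjoint three-cycles. -/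
def z9 : Perm (Fin 9) := c3 0 1 2 * c3 3 4 5 * c3 6 7 8
/-- A three-cycle. -/
def a0 : A12 := ⟨c3 9 10 11, Perm.mem_alternatingGroup.2 (by decide)⟩
/-- Two disjoint three-cycles. -/
def b0 : A12 := ⟨c3 0 2 4 * c3 1 3 5, Perm.mem_alternatingGroup.2 (by decide)⟩
/-- A regular involution. -/
def t8 : A8 := ⟨swap 0 1 * swap 2 3 * swap 4 5 * swap 6 7, Perm.mem_alternatingGroup.2 (by decide)⟩
/-- Two disjoint three-cycles. -/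
def b8 : A8 := ⟨c3 0 2 4 * c3 1 3 5, Perm.mem_alternatingGroup.2 (by decide)⟩

/-- The `3`-local data. -/
structure JD (G : Type*) [Group G] where
  S : Sylow 3 G
  Q : Subgroup G
  J : Subgroup G
  z : G
  t : G
  s : G
  f : G
  z1 : G
  a : G
  q : G
  q1 : G
  pL : G → SL25
  κ : SL25 →* G
  l : LS S Q (centralizer {z}) z pL
  JS : J ≤ S
  Jc : ∀ x ∈ J, ∀ y ∈ J, x * y = y * x
  J3 : ∀ x ∈ J, x ^ 3 = 1
  cardJ : Nat.card J = 81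
  cJ : ∀ g, (∀ x ∈ J, g * x = x * g) → g ∈ J
  fus : ∀ x ∈ J, ∀ y ∈ J, IsConj x y → ∃ n ∈ normalizer (J : Set G), n * x * n⁻¹ = y
  tt : t * t = 1
  κt : κ (-1) = t
  κz : ∀ x, κ x * z = z * κ x
  pκ : ∀ x, pL (κ x) = x
  czt : ∀ g, g * z = z * g → g * t = t * g → ∃ c ∈ zpowers z, ∃ x, g = c * κ x
  κs : κ (pL s) = s
  sJ : s ∈ J
  sQ : s ∉ Q
  κf : κ (pL f) = f
  fs : f * s * f⁻¹ = s⁻¹
  ff : f * f = t
  nJz : ∀ g, g * z = z * g → (g ∈ normalizer (J : Set G) ↔ g ∈ (S : Subgroup G) ⊔ zpowers f)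
  stab : ∀ x ∈ J, x ∈ Q → x ∉ zpowers z → ∀ g, g * z = z * g → ⁅g, x⁆ ∈ zpowers z →
    g ∈ (S : Subgroup G)
  z1J : z1 ∈ J
  z1Q : z1 ∈ Q
  z1Z : z1 ∉ zpowers z
  tz1 : t * z1 * t⁻¹ = z1⁻¹
  zz1 : IsConj z z1
  q1Q : q1 ∈ Q
  q1J : q1 ∉ J
  q1z : q1 * z1 = z1 * q1
  q1W : ∀ x ∈ J, ⁅q1, x⁆ ∈ closure {z, z1}
  q1C : ∀ x ∈ J, q1 * x = x * q1 → x ∈ closure {z, z1}
  cW : ∀ g, g * z = z * g → g * z1 = z1 * g → g ∈ J ⊔ zpowers q1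
  β : ∃ g, g ^ 3 = 1 ∧ g * z1 = z1 * g ∧ g * z * g⁻¹ = z * z1
  a_eq : a = z1 * (f * z1 * f⁻¹)
  az : ¬ IsConj z a
  cls : ∀ x ∈ J, x ≠ 1 → IsConj z x ∨ IsConj a x
  zs : IsConj z s
  asz : IsConj a (s * z)
  asz' : IsConj a (s * z⁻¹)
  cardN : Nat.card (normalizer (J : Set G) ⊓ centralizer {a} : Subgroup G) = 1944
  qQ : q ∈ Q
  qJ : q ∉ J
  qa : q * a = a * q
  tq : t * q * t⁻¹ = q⁻¹
  qs : ⁅q, ⁅q, s⁆⁆ ≠ 1
  cza : ∀ g, g * z = z * g → g * a = a * g → g ∈ J ⊔ zpowers q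

/-- The normaliser of a subgroup of order three. -/
structure ND {G : Type*} [Group G] (a z : G)
    (π : normalizer (zpowers a : Set G) →* Perm (Fin 9)) (ψ : A9 →* G) : Prop where
  a3 : orderOf a = 3
  surj : Function.Surjective π
  ker : ∀ n, π n = 1 ↔ (n : G) ∈ zpowers a
  even : ∀ n, Perm.sign (π n) = 1 ↔ (n : G) * a = a * n
  ψa : ∀ σ, ψ σ * a = a * ψ σ
  πψ : ∀ σ (n : normalizer (zpowers a : Set G)), (n : G) = ψ σ → π n = σ.1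
  hz : ∃ ζ : A9, ψ ζ = z ∧ IsConj z9 ζ.1

/-- The subgroup `A₁₂`. -/
structure HD (G : Type*) [Group G] where
  S : Sylow 3 G
  Q : Subgroup G
  pL : G → SL25
  ν : A12 →* G
  inj : Function.Injective ν
  l : LS S Q (centralizer {ν (a0 * b0)}) (ν (a0 * b0)) pL
  cen : ∀ g, g * ν a0 = ν a0 * g → g ∈ ν.range
  out : ∃ c, c * ν (a0 * b0) * c⁻¹ = (ν (a0 * b0))⁻¹ ∧
    ∀ x, x * ν (a0 * b0) = ν (a0 * b0) * x → ⁅c, x⁆ ∈ Q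

/-- The `2`-local data. -/
structure TD (G : Type*) [Group G] where
  t : G
  a : G
  b : G
  f : G
  w : G
  h : G
  u : G
  x0 : G
  r : G
  v : G
  Ea : Subgroup G
  B : Subgroup G
  U : Subgroup G
  κ : SL25 →* G
  μ : A8 →* G
  a3 : orderOf a = 3
  b3 : orderOf b = 3
  ab : a * b = b * a
  ba : b ∉ zpowers a
  tt : t * t = 1
  t1 : t ≠ 1
  ta : a * t = t * a
  tb : b * t = t * b
  κinj : Function.Injective κ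
  κt : κ (-1) = t
  κz : ∀ x, κ x * (a * b) = a * b * κ x
  κs : κ s5 = a * b⁻¹
  κf : κ f5 = f
  zκ : ∀ x, κ x ∈ zpowers (a * b) → x = 1
  czt : ∀ g, g * (a * b) = a * b * g → g * t = t * g → ∃ c ∈ zpowers (a * b), ∃ x, g = c * κ x
  az : ¬ IsConj (a * b) a
  syl : Trans.IsSylowIn 3 (closure {a, b}) (centralizer {t})
  ww : w * w = t
  wκ : ∀ x, w * κ x = κ x * w
  wz : w * (a * b) * w⁻¹ = (a * b)⁻¹
  hh : h * h = 1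
  ht : h * t = t * h
  ha : h * a = a * h
  hb : h * b * h⁻¹ = b⁻¹
  uu : u * u = 1
  ut : u * t = t * u
  ua : u * a * u⁻¹ = a⁻¹
  ub : u * b * u⁻¹ = b⁻¹
  tu : IsConj t u
  tut : IsConj t (u * t)
  ue : ∃ e ∈ Ea, e * (u * e * u⁻¹) ≠ u * e * u⁻¹ * e
  xx : x0 * x0 = 1
  xt : x0 * t = t * x0
  xa : x0 * a * x0⁻¹ = a⁻¹
  xb : x0 * b = b * x0
  xr : x0 * r = r * x0
  xv : x0 * v * x0⁻¹ = v * r
  txt : IsConj t (x0 * t)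
  txrt : IsConj t (x0 * r * t)
  xE : ∀ e ∈ Ea, ⁅x0, e⁆ ∈ zpowers t ↔ e ∈ B
  xcj : ∃ g, g * r = r * g ∧ g * x0 * g⁻¹ = v
  rr : r * r = 1
  r1 : r ≠ 1
  vv : v * v = 1
  rv : r * v = v * r
  ar : a * r * a⁻¹ = v
  av : a * v * a⁻¹ = r * v
  tr : ¬ IsConj t r
  rμ : ∀ σ, μ σ * r = r * μ σ
  vμ : ∀ σ, μ σ * v = v * μ σ
  cV : ∀ g, g * r = r * g → g * v = v * g → ∃ c ∈ closure {r, v}, ∃ σ, g = c * μ σ
  cB : ∀ g, g * r = r * g → g * v = v * g → g * t = t * g →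
    g ∈ Ea ⊔ closure {r, v} ∨ 3 ∣ orderOf g ∨ 3 ∣ orderOf ⁅g, b⁆
  cardNB : Nat.card (normalizer (closure {t, r, v} : Set G)) ≤ 18432
  fB : ∀ x, x ∈ B ↔ f * x * f⁻¹ ∈ closure {t, r, v}
  cardE : Nat.card Ea = 32
  tE : t ∈ Ea
  cE : ∀ x ∈ Ea, ∀ y ∈ Ea, ⁅x, y⁆ ∈ zpowers t
  sqE : ∀ x ∈ Ea, x * x ∈ zpowers t
  ndE : ∀ x ∈ Ea, (∀ y ∈ Ea, x * y = y * x) → x ∈ zpowers t
  aE : ∀ x ∈ Ea, a * x = x * a
  fpf : ∀ x ∈ Ea, x * (b * x * b⁻¹) * (b⁻¹ * x * b) ∈ zpowers t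
  nE : ∀ g ∈ normalizer (zpowers a : Set G), g * t = t * g → g ∈ normalizer (Ea : Set G)
  invE : Nat.card {x : G // x ∈ Ea ∧ x * x = 1} = 20
  clsE : ∀ x ∈ Ea, x * x = 1 → x ∈ B ∨ IsConj t x
  Eμ : Ea ≤ μ.range
  cat : ∀ g, g * a = a * g → g * t = t * g → g ∈ Ea ⊔ closure {a, b, h}
  cat3 : ∀ g, g * a = a * g → g * t = t * g → g ∈ Ea ∨ 3 ∣ orderOf g ∨ 3 ∣ orderOf ⁅g, b⁆
  BE : B ≤ Ea
  cardB : Nat.card B = 8
  UE : U ≤ Ea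
  cardU : Nat.card U = 8
  sqU : ∀ x ∈ U, x * x = 1
  tU : t ∈ U
  bU : b ∈ normalizer (U : Set G)
  hU : h ∈ normalizer (U : Set G)
  Uμ : ∀ x ∈ U, x ≠ 1 → ∃ σ, μ σ * t * (μ σ)⁻¹ = x
  cU : ∀ g ∈ normalizer (zpowers a : Set G), (∀ x ∈ U, g * x = x * g) → g ∈ zpowers a ⊔ U
  nU : ∀ n ∈ normalizer (U : Set G), n * t = t * n →
    ∃ c, c * a = a * c ∧ c * t = t * c ∧ ∀ x ∈ U, n * x * n⁻¹ = c * x * c⁻¹
  mU : ∃ n ∈ normalizer (U : Set G), n * t ≠ t * n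
  μinj : Function.Injective μ
  μt : μ t8 = t
  μb : μ b8 = b

namespace TD

variable {G : Type*} [Group G] (D : TD G)

/-- The second extraspecial group of order `32`. -/
def Eb : Subgroup G := D.Ea.map (MulAut.conj D.f).toMonoidHom
/-- The extraspecial group of order `512`. -/
def Q : Subgroup G := D.Ea ⊔ D.Eb
/-- Its normaliser. -/
def N : Subgroup G := normalizer (D.Q : Set G)
/-- The second copy of `SL₂(5)`. -/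
def κ' : SL25 →* G := (MulAut.conj D.h).toMonoidHom.comp D.κ
/-- `n` fixes `x` modulo the central involution. -/
def Fx (n x : G) : Prop := ⁅n, x⁆ ∈ zpowers D.t
/-- The stabiliser of `r`. -/
def Y : Subgroup G := D.N ⊓ centralizer {D.r}

/-- The two copies of `SL₂(5)` normalise `Q`. -/
structure QD : Prop where
  comm : ∀ x ∈ D.Ea, ∀ y ∈ D.Eb, x * y = y * x
  nK : ∀ x, D.κ x ∈ D.N
  R : ∃ R : Subgroup SL25, Nat.card R = 8 ∧ s5 ∈ normalizer (R : Set SL25) ∧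
    ∀ ρ ∈ R, ∀ x ∈ D.U, D.κ ρ * x = x * D.κ ρ
  nU : ∀ n ∈ normalizer (D.U : Set G), n * D.t = D.t * n → n ∈ D.N
  KK : ∀ x y, ⁅D.κ x, D.κ' y⁆ ∈ D.Q

/-- The structure of the normaliser of `Q`, and its orbits. -/
structure M0 : Prop where
  gen : ∀ n ∈ D.N, ∃ q ∈ D.Q, ∃ x y, n = q * D.κ x * D.κ' y ∨ n = q * D.κ x * D.κ' y * D.x0
  trA : ∀ e ∈ D.Q, e * e = 1 → e ∉ zpowers D.t → ¬ IsConj D.t e →
    ∃ x, D.κ x * D.r * (D.κ x)⁻¹ * e⁻¹ ∈ zpowers D.t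
  reg : ∀ x, D.Fx (D.κ x) D.r → x = 1 ∨ x = -1
  fix3 : ∀ e ∈ D.Q, ∃ n ∈ D.N, n * e * n⁻¹ ∈ D.Ea
  irr : ∀ A : Subgroup G, D.t ∈ A → A ≤ D.Q → D.N ≤ normalizer (A : Set G) →
    A = zpowers D.t ∨ A = D.Q

/-- The involutions of the normaliser of `Q` modulo `Q`. -/
structure M1 : Prop where
  card : ∀ y ∈ D.N, y ∉ D.Q → y * y ∈ D.Q → Nat.card {e : G // e ∈ D.Q ∧ D.Fx y e} = 32
  free : ∀ y ∈ D.N, y ∉ D.Q → y * y ∈ D.Q → ∀ e ∈ D.Q, D.Fx y e →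
    ∃ q ∈ D.Q, ⁅q, y⁆ * e⁻¹ ∈ zpowers D.t
  iso : ∀ y ∈ D.N, y ∉ D.Q → y * y ∈ D.Q → ∀ e ∈ D.Q, ∀ e' ∈ D.Q, D.Fx y e → D.Fx y e' →
    e * e' = e' * e
  inv : ∀ y ∈ D.N, y ∉ D.Q → y * y ∈ zpowers D.t → ∃ n ∈ D.N, ∃ c,
    (c = D.f ∨ c = D.w ∨ c = D.u ∨ c = D.x0) ∧ n * y * n⁻¹ * c⁻¹ ∈ zpowers D.t
  uU : ∃ n ∈ D.N, ∀ x ∈ D.U, D.Fx (n * D.u * n⁻¹) x
  wc : ∀ g, g * D.t = D.t * g → (∀ e ∈ D.Q, g * e * g⁻¹ ∈ D.N) → g ∈ D.N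

/-- The action of the stabiliser of `r`. -/
structure M2 (y : G) : Prop where
  yE : y ∈ D.Eb
  yy : y * y = D.t
  yr : y * D.r = D.r * y
  yv : y * D.v ≠ D.v * y
  ny : ∀ n ∈ D.Y, ⁅n, y⁆ ∈ closure {D.r, D.t}
  lam : ∃ Y0 : Subgroup G, D.r ∈ Y0 ∧
    (∀ g ∈ D.Y, ∀ g' ∈ D.Y, g ∉ Y0 → g' ∉ Y0 → g * g' ∈ Y0) ∧
    ∀ x ∈ D.Y, x * x = 1 → x ≠ 1 → x ≠ D.r → ¬ IsConj D.t x → ¬ IsConj D.t (x * D.r) → x ∉ Y0
  nrm : ∀ A : Subgroup G, A ≤ D.Y → D.Y ≤ normalizer (A : Set G) →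
    A ≤ D.Q ∨ ∃ d ∈ A, d * D.b⁻¹ ∈ D.Q
  sub : ∀ A : Subgroup G, D.Ea ≤ A → D.r ∈ A → A ≤ D.Q ⊓ centralizer {D.r} →
    D.Y ≤ normalizer (A : Set G) →
    A = D.Q ⊓ centralizer {D.r} ∨ A = D.Q ⊓ centralizer {D.r} ⊓ centralizer {y}
  ab : ∀ A : Subgroup G, A ≤ D.Q ⊓ centralizer {D.r} → D.Y ≤ normalizer (A : Set G) →
    (∀ x ∈ A, ∀ x' ∈ A, x * x' = x' * x) → A ≤ closure {y, D.r}

end TD

end Cfsg.Lib.HN3
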