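import Cfsg.Agent.HN3.FinB

/-! Finite facts in the alternating group of degree twelve: the centraliser of `t0`. -/

set_option autoImplicit false
set_option maxRecDepth 100000

namespace Cfsg.Lib.HN3

open Subgroup Equiv Kt

theorem nE0 {g : A12} (h : g * t0 = t0 * g) : g ∈ normalizer (E0 : Set A12) := by
  have := cent_q [t0] (L := [205163730379521]) (by decide +kernel)
    [(0, 0), (205163730379521, 0), (0, 0), (205163730379521, 2), (0, 0), (205163730379521, 4),
       (0, 0), (205163730379521, 6), (0, 0), (0, 0), (0, 0), (0, 0)]
    (by decide +kernel)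
    (fun c => fz (vq c) fun d => allb (fun x => memb (mv (mv c x) d) LEs)
      [205163983020801, 205163982037776, 205163414818866, 205162269529206])
    (by decide +kernel) (g := g) (by simp [h])
  rw [fz_eq, allb_iff, ← code_β1, ← code_β2, ← code_υ1, ← code_υ2] at this
  simp only [List.forall_mem_cons, memb_iff, vq_code, mv_code, ← memE] at this
  refine mem_normalizer_closure ?_
  rintro _ (rfl | rfl | rfl | rfl)
  exacts [this.1, this.2.1, this.2.2.1, this.2.2.2.1]

end Cfsg.Lib.HN3
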