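import Cfsg.Agent.HN3.Kit

/-! Finite facts in the alternating group of degree twelve: the groups of order `8` and `32`. -/

set_option autoImplicit false
set_option maxRecDepth 100000

namespace Cfsg.Lib.HN3

open Subgroup Equiv Kt
open scoped commutatorElement

theorem ι_left (σ : A8) (i : Fin 8) : (ι σ).1 (Fin.castAdd 4 i) = Fin.castAdd 4 (σ.1 i) :=
  HN.sbs_left (n := 4) σ.1 1 i

theorem ι_right (σ : A8) (i : Fin 4) : (ι σ).1 (Fin.natAdd 8 i) = Fin.natAdd 8 i :=
  HN.sbs_right (n := 4) σ.1 1 i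

theorem ι_inj : Function.Injective ι := fun g h e => Subtype.ext (Equiv.ext fun i =>
  Fin.castAdd_injective 8 4 (by rw [← ι_left, ← ι_left, e]))

theorem ι_t8 : ι t8 = t0 := by decide +kernel
theorem ι_b8 : ι b8 = b0 := by decide +kernel

theorem mem_range_ι {σ : A12} :
    σ ∈ ι.range ↔ σ.1 8 = 8 ∧ σ.1 9 = 9 ∧ σ.1 10 = 10 ∧ σ.1 11 = 11 := by
  constructor
  · rintro ⟨τ, rfl⟩
    exact ⟨ι_right τ 0, ι_right τ 1, ι_right τ 2, ι_right τ 3⟩
  · rintro ⟨h8, h9, h10, h11⟩
    have hr : ∀ j : Fin 4, σ.1 (Fin.natAdd 8 j) = Fin.natAdd 8 j := by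
      intro j
      fin_cases j
      exacts [h8, h9, h10, h11]
    have hl : ∀ i : Fin 8, (σ.1 (Fin.castAdd 4 i)).val < 8 := by
      intro i
      by_contra hc
      have e : σ.1 (Fin.castAdd 4 i) = Fin.natAdd 8 (⟨(σ.1 (Fin.castAdd 4 i)).val - 8, by
          have := (σ.1 (Fin.castAdd 4 i)).2; omega⟩ : Fin 4) := Fin.ext (by simp; omega)
      rw [← hr] at e
      have := congrArg Fin.val (σ.1.injective e)
      simp at this
      omega
    let f : Fin 8 → Fin 8 := fun i => ⟨_, hl i⟩
    have hf : Function.Injective f := fun i j e =>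
      Fin.castAdd_injective 8 4 (σ.1.injective (Fin.ext (Fin.mk.inj e)))
    let τ : Perm (Fin 8) := Equiv.ofBijective f (Finite.injective_iff_bijective.mp hf)
    have e : HN.sbs 8 4 (τ, 1) = σ.1 := Equiv.ext fun x => by
      refine Fin.addCases (m := 8) (n := 4) (fun i => ?_) (fun j => ?_) x
      · rw [HN.sbs_left]; rfl
      · rw [HN.sbs_right, hr]; rfl
    refine ⟨⟨τ, Perm.mem_alternatingGroup.mpr ?_⟩, Subtype.ext e⟩
    have := HN.sign_sbs τ (1 : Perm (Fin 4))
    rw [e, Perm.mem_alternatingGroup.mp σ.2, map_one, mul_one] at this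
    exact this.symm

theorem ι_comm (σ : A8) {x : A12} (h : ∀ i : Fin 8, x.1 (Fin.castAdd 4 i) = Fin.castAdd 4 i) :
    ι σ * x = x * ι σ := Subtype.ext (Perm.Disjoint.commute fun y => by
  refine Fin.addCases (m := 8) (n := 4) (fun i => ?_) (fun j => ?_) y
  · exact .inr (h i)
  · exact .inl (ι_right σ j))

theorem ι_r0 (σ : A8) : ι σ * r0 = r0 * ι σ := ι_comm σ (by decide)
theorem ι_v0 (σ : A8) : ι σ * v0 = v0 * ι σ := ι_comm σ (by decide)

theorem cV0 {g : A12} (h1 : g * r0 = r0 * g) (h2 : g * v0 = v0 * g) :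
    ∃ c ∈ closure {r0, v0}, ∃ σ, g = c * ι σ := by
  have a1 : ∀ i, g.1 (r0.1 i) = r0.1 (g.1 i) := fun i => congrArg (fun x : A12 => x.1 i) h1
  have a2 : ∀ i, g.1 (v0.1 i) = v0.1 (g.1 i) := fun i => congrArg (fun x : A12 => x.1 i) h2
  have e9 : g.1 9 = r0.1 (g.1 8) := a1 8
  have e10 : g.1 10 = v0.1 (g.1 8) := a2 8
  have e11 : g.1 11 = r0.1 (v0.1 (g.1 8)) := by rw [← e10]; exact a1 10
  have hne : r0.1 (g.1 8) ≠ g.1 8 := fun e => absurd (g.1.injective (e9.trans e)) (by decide)
  have key : ∀ x : Fin 12, r0.1 x ≠ x → ∃ c ∈ [1, r0, v0, r0 * v0], c⁻¹.1 x = 8 ∧ c⁻¹.1 (r0.1 x) = 9 ∧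
      c⁻¹.1 (v0.1 x) = 10 ∧ c⁻¹.1 (r0.1 (v0.1 x)) = 11 := by decide +kernel
  obtain ⟨c, hc, k⟩ := key _ hne
  rw [← e11, ← e10, ← e9] at k
  obtain ⟨σ, hσ⟩ : c⁻¹ * g ∈ ι.range := mem_range_ι.mpr k
  have hr : r0 ∈ closure ({r0, v0} : Set A12) := subset_closure (by simp)
  have hv : v0 ∈ closure ({r0, v0} : Set A12) := subset_closure (by simp)
  refine ⟨c, ?_, σ, by rw [hσ]; group⟩
  simp only [List.mem_cons, List.not_mem_nil, or_false] at hc
  rcases hc with rfl | rfl | rfl | rfl
  exacts [one_mem _, hr, hv, mul_mem hr hv]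

namespace Kt

theorem code_a0 : code a0 = 171147842040336 := by decide +kernel
theorem code_b0 : code b0 = 205163978576946 := by decide +kernel
theorem code_t0 : code t0 = 205163730379521 := by decide +kernel
theorem code_h0 : code h0 = 205163983015986 := by decide +kernel
theorem code_u0 : code u0 = 204132939206706 := by decide +kernel
theorem code_x00 : code x00 = 188671056949776 := by decide +kernel
theorem code_r0 : code r0 = 188606884098576 := by decide +kernel
theorem code_v0 : code v0 = 167926616568336 := by decide +kernel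
theorem code_β1 : code β1 = 205163983020801 := by decide +kernel
theorem code_β2 : code β2 = 205163982037776 := by decide +kernel
theorem code_υ1 : code υ1 = 205163414818866 := by decide +kernel
theorem code_υ2 : code υ2 = 205162269529206 := by decide +kernel
theorem code_c1 : code c1 = 205163982763026 := by decide +kernel
theorem code_c2 : code c2 = 205163978838576 := by decide +kernel
theorem code_c4 : code c4 = 205155678302736 := by decide +kernel

/-- the elements of `E0` -/
def LEs : List ℕ :=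
  [205163983024656, 205163730379521, 205162269529206, 205162016884071, 205163414818866,
   205163162173731, 205162837734996, 205162585089861, 205163982037776, 205163731366401,
   205162268542326, 205162017870951, 205163163160611, 205163413831986, 205162586076741,
   205162836748116, 205163983020801, 205163730383376, 205162016887926, 205162269525351,
   205163414815011, 205163162177586, 205162585093716, 205162837731141, 205163982041601,
   205163731362576, 205162017867126, 205162268546151, 205163163156786, 205163413835811,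
   205162836751941, 205162586072916]

/-- the elements of `B0` -/
def LB : List ℕ :=
  [205163983024656, 205163982037776, 205163983020801, 205163982041601, 205163730379521,
   205163731366401, 205163730383376, 205163731362576]

/-- the elements of `U0` -/
def LU : List ℕ :=
  [205163983024656, 205162269529206, 205163414818866, 205162837734996, 205163730379521,
   205162016884071, 205163162173731, 205162585089861]

theorem LEs_eq_1' : type_of% @LEs.eq_1 := @LEs.eq_1
theorem LB_eq_1' : type_of% @LB.eq_1 := @LB.eq_1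
theorem LU_eq_1' : type_of% @LU.eq_1 := @LU.eq_1

theorem β1E : β1 ∈ E0 := subset_closure (by simp)
theorem β2E : β2 ∈ E0 := subset_closure (by simp)
theorem υ1E : υ1 ∈ E0 := subset_closure (by simp)
theorem υ2E : υ2 ∈ E0 := subset_closure (by simp)
theorem t0E : t0 ∈ E0 := by
  rw [show t0 = β2 * υ1 * (β2 * υ1) by decide +kernel]
  exact mul_mem (mul_mem β2E υ1E) (mul_mem β2E υ1E)

theorem exE : ∀ c ∈ LEs, ∃ g ∈ E0, code g = c :=
  exists_of_prods [(β1, 2), (β2, 2), (υ1, 2), (υ2, 2), (t0, 2)] (by simp [β1E, β2E, υ1E, υ2E, t0E])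
    (T := [(205163983020801, 2), (205163982037776, 2), (205163414818866, 2), (205162269529206, 2), (205163730379521, 2)]) (by decide +kernel) (by decide +kernel)

theorem exB : ∀ c ∈ LB, ∃ g ∈ B0, code g = c :=
  exists_of_prods [(t0, 2), (β1, 2), (β2, 2)] (by
    simp only [List.mem_cons, List.not_mem_nil, or_false]
    rintro _ (rfl | rfl | rfl) <;> exact subset_closure (by simp))
    (T := [(205163730379521, 2), (205163983020801, 2), (205163982037776, 2)]) (by decide +kernel) (by decide +kernel)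

theorem exU : ∀ c ∈ LU, ∃ g ∈ U0, code g = c :=
  exists_of_prods [(t0, 2), (υ1, 2), (υ2, 2)] (by
    simp only [List.mem_cons, List.not_mem_nil, or_false]
    rintro _ (rfl | rfl | rfl) <;> exact subset_closure (by simp))
    (T := [(205163730379521, 2), (205163414818866, 2), (205162269529206, 2)]) (by decide +kernel) (by decide +kernel)

theorem memE {x : A12} : x ∈ E0 ↔ code x ∈ LEs :=
  ⟨closure_sub (T := [205163983020801, 205163982037776, 205163414818866, 205162269529206]) (by
    rintro _ (rfl | rfl | rfl | rfl) <;> decide +kernel) (by decide +kernel) (by decide +kernel),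
    mem_of_exists exE⟩

theorem memB {x : A12} : x ∈ B0 ↔ code x ∈ LB :=
  ⟨closure_sub (T := [205163730379521, 205163983020801, 205163982037776]) (by
    rintro _ (rfl | rfl | rfl) <;> decide +kernel) (by decide +kernel) (by decide +kernel),
    mem_of_exists exB⟩

theorem memU {x : A12} : x ∈ U0 ↔ code x ∈ LU :=
  ⟨closure_sub (T := [205163730379521, 205163414818866, 205162269529206]) (by
    rintro _ (rfl | rfl | rfl) <;> decide +kernel) (by decide +kernel) (by decide +kernel),
    mem_of_exists exU⟩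

theorem memZ {x : A12} : x ∈ zpowers t0 ↔ code x ∈ [e1, 205163730379521] := by
  rw [zpowers_eq_closure]
  refine ⟨closure_sub (T := [205163730379521]) (by rintro _ rfl; decide +kernel) (by decide +kernel)
    (by decide +kernel), fun h => ?_⟩
  simp only [List.mem_cons, List.not_mem_nil, or_false, ← code_one, ← code_t0, code_inj] at h
  rcases h with rfl | rfl
  exacts [one_mem _, subset_closure rfl]

end Kt

theorem card_E0 : Nat.card E0 = 32 :=
  card_eq_length (L := LEs) (fun _ => memE.mp) exE (by decide +kernel)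
theorem card_B0 : Nat.card B0 = 8 :=
  card_eq_length (L := LB) (fun _ => memB.mp) exB (by decide +kernel)
theorem card_U0 : Nat.card U0 = 8 :=
  card_eq_length (L := LU) (fun _ => memU.mp) exU (by decide +kernel)

theorem B0_le : B0 ≤ E0 := fun _ h =>
  memE.mpr ((by decide +kernel : ∀ c ∈ LB, c ∈ LEs) _ (memB.mp h))
theorem U0_le : U0 ≤ E0 := fun _ h =>
  memE.mpr ((by decide +kernel : ∀ c ∈ LU, c ∈ LEs) _ (memU.mp h))

theorem mem_range_of_ap {g : A12}
    (h : ap (code g) 8 = 8 ∧ ap (code g) 9 = 9 ∧ ap (code g) 10 = 10 ∧ ap (code g) 11 = 11) :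
    g ∈ ι.range :=
  mem_range_ι.mpr ⟨Fin.ext ((ap_code' g 8).symm.trans h.1), Fin.ext ((ap_code' g 9).symm.trans h.2.1),
    Fin.ext ((ap_code' g 10).symm.trans h.2.2.1), Fin.ext ((ap_code' g 11).symm.trans h.2.2.2)⟩

theorem E0_le : E0 ≤ ι.range := fun _ h => mem_range_of_ap
  ((by decide +kernel : ∀ c ∈ LEs, ap c 8 = 8 ∧ ap c 9 = 9 ∧ ap c 10 = 10 ∧ ap c 11 = 11) _ (memE.mp h))

theorem cE0 : ∀ x ∈ E0, ∀ y ∈ E0, ⁅x, y⁆ ∈ zpowers t0 := fun x hx y hy => by
  rw [memZ, code_cm]
  exact (by decide +kernel : ∀ c ∈ LEs, ∀ d ∈ LEs, cm c d ∈ [e1, 205163730379521]) _ (memE.mp hx) _ (memE.mp hy)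

theorem sqE0 : ∀ x ∈ E0, x * x ∈ zpowers t0 := fun x hx => by
  rw [memZ, code_mul]
  exact (by decide +kernel : ∀ c ∈ LEs, mu c c ∈ [e1, 205163730379521]) _ (memE.mp hx)

theorem ndE0 : ∀ x ∈ E0, (∀ y ∈ E0, x * y = y * x) → x ∈ zpowers t0 := fun x hx h => by
  rw [memZ]
  refine (by decide +kernel : ∀ c ∈ LEs, (∀ d ∈ LEs, mu c d = mu d c) → c ∈ [e1, 205163730379521]) _ (memE.mp hx)
    fun d hd => ?_
  obtain ⟨y, hy, rfl⟩ := exE d hd
  rw [← code_mul, ← code_mul, h y hy]

theorem aE0 : ∀ x ∈ E0, a0 * x = x * a0 := fun x hx => by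
  rw [← code_inj, code_mul, code_mul, code_a0]
  exact (by decide +kernel : ∀ c ∈ LEs, mu 171147842040336 c = mu c 171147842040336) _ (memE.mp hx)

theorem fpf0 : ∀ x ∈ E0, x * (b0 * x * b0⁻¹) * (b0⁻¹ * x * b0) ∈ zpowers t0 := fun x hx => by
  simp only [memZ, code_mul, code_inv, code_b0]
  exact (by decide +kernel : ∀ c ∈ LEs, mu (mu c (mu (mu 205163978576946 c) (iv 205163978576946)))
    (mu (mu (iv 205163978576946) c) 205163978576946) ∈ [e1, 205163730379521]) _ (memE.mp hx)

/-- the involutions of `E0` -/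
def Kt.LI : List ℕ :=
  [205163983024656, 205163730379521, 205162269529206, 205162016884071, 205163414818866,
   205163162173731, 205162837734996, 205162585089861, 205163982037776, 205163731366401,
   205162268542326, 205162017870951, 205163983020801, 205163730383376, 205163414815011,
   205163162177586, 205163982041601, 205163731362576, 205162836751941, 205162586072916]

theorem Kt.LI_eq_1' : type_of% @Kt.LI.eq_1 := @Kt.LI.eq_1

theorem invE0 : Nat.card {x : A12 // x ∈ E0 ∧ x * x = 1} = 20 := by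
  refine card_eq_length (L := LI) (fun g hg => ?_) (fun c hc => ?_) (by decide +kernel)
  · refine (by decide +kernel : ∀ c ∈ LEs, mu c c = e1 → c ∈ LI) _ (memE.mp hg.1) ?_
    rw [← code_mul, hg.2, code_one]
  · obtain ⟨h1, h2⟩ := (by decide +kernel : ∀ c ∈ LI, c ∈ LEs ∧ mu c c = e1) c hc
    obtain ⟨g, hg, rfl⟩ := exE c h1
    exact ⟨g, ⟨hg, by rwa [← code_mul, ← code_one, code_inj] at h2⟩, rfl⟩

/-- conjugating elements -/
def Kt.W1 : List ℕ :=
  [205163394658656, 205163127267696, 205163967295776, 205163699904816, 205163933618496,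
   205163666227536, 205163127271686, 205163394654471, 205163967291651, 205163699908866,
   205163933614341, 205163666231556]

theorem Kt.W1_eq_1' : type_of% @Kt.W1.eq_1 := @Kt.W1.eq_1

theorem clsE0 : ∀ x ∈ E0, x * x = 1 → x ∈ B0 ∨ IsConj t0 x := fun x hx h => by
  refine ((by decide +kernel : ∀ c ∈ LEs, mu c c = e1 → c ∈ LB ∨ ∃ w ∈ W1, cj w 205163730379521 = c) _ (memE.mp hx)
    (by rw [← code_mul, h, code_one])).imp memB.mpr fun k => isConj_of (W := W1) (by decide +kernel) ?_
  rwa [code_t0]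

theorem sqU0 : ∀ x ∈ U0, x * x = 1 := fun x hx => by
  rw [← code_inj, code_mul, code_one]
  exact (by decide +kernel : ∀ c ∈ LU, mu c c = e1) _ (memU.mp hx)

theorem Kt.normU {g : A12} (h : ∀ c ∈ LU, cj (code g) c ∈ LU) : g ∈ normalizer (U0 : Set A12) :=
  mem_normalizer_fintype fun x hx => memU.mpr (by rw [code_cj]; exact h _ (memU.mp hx))

theorem bU0 : b0 ∈ normalizer (U0 : Set A12) := normU (by rw [code_b0]; decide +kernel)
theorem hU0 : h0 ∈ normalizer (U0 : Set A12) := normU (by rw [code_h0]; decide +kernel)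

/-- conjugating elements -/
def Kt.W2 : List ℕ :=
  [205163394658656, 205163967295776, 205163933618496, 205163983024656, 205163127267696,
   205163699904816, 205163666227536]

theorem Kt.W2_eq_1' : type_of% @Kt.W2.eq_1 := @Kt.W2.eq_1

theorem Uι : ∀ x ∈ U0, x ≠ 1 → ∃ σ, ι σ * t0 * (ι σ)⁻¹ = x := fun x hx h => by
  obtain ⟨w, -, h1, h2, h3⟩ := (by decide +kernel : ∀ c ∈ LU, c ≠ e1 → ∃ w ∈ W2, cj w 205163730379521 = c ∧ Ok w ∧
    ap w 8 = 8 ∧ ap w 9 = 9 ∧ ap w 10 = 10 ∧ ap w 11 = 11) _ (memU.mp hx)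
    (by rwa [← code_one, ne_eq, code_inj])
  obtain ⟨g, rfl⟩ := exists_of_ok h2
  obtain ⟨σ, rfl⟩ := mem_range_of_ap h3
  exact ⟨σ, by rw [← code_inj, code_cj, code_t0, h1]⟩

/-- conjugating elements -/
def Kt.W3 : List ℕ :=
  [205163978568276, 205163978576946, 205163978564421, 205163978573091, 205163983024656,
   205163983015986, 205163983020801, 205163983012131, 205163980805136, 205163980787796,
   205163980801281, 205163980783941, 205163977581396, 205163977590066, 205163977585221,
   205163977593891, 205163982037776, 205163982029106, 205163982041601, 205163982032931,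
   205163979818256, 205163979800916, 205163979822081, 205163979804741]

theorem Kt.W3_eq_1' : type_of% @Kt.W3.eq_1 := @Kt.W3.eq_1

theorem nU0 {x y : A12} (hx : x ∈ U0) (hy : y ∈ U0) (h1 : x ∉ zpowers t0) (h2 : y ∉ zpowers t0)
    (h3 : x * y ∉ zpowers t0) :
    ∃ c, c * a0 = a0 * c ∧ c * t0 = t0 * c ∧ c * υ1 * c⁻¹ = x ∧ c * υ2 * c⁻¹ = y := by
  rw [memZ] at h1 h2 h3
  rw [code_mul] at h3
  obtain ⟨w, -, k1, k2, k3, k4, k5⟩ := (by decide +kernel : ∀ c ∈ LU, ∀ d ∈ LU, c ∉ [e1, 205163730379521] →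
    d ∉ [e1, 205163730379521] → mu c d ∉ [e1, 205163730379521] → ∃ w ∈ W3, cj w 205163414818866 = c ∧
      cj w 205162269529206 = d ∧ Ok w ∧ mu w 171147842040336 = mu 171147842040336 w ∧
      mu w 205163730379521 = mu 205163730379521 w) _ (memU.mp hx) _ (memU.mp hy) h1 h2 h3
  obtain ⟨g, rfl⟩ := exists_of_ok k3
  refine ⟨g, ?_, ?_, ?_, ?_⟩
  · rwa [← code_inj, code_mul, code_mul, code_a0]
  · rwa [← code_inj, code_mul, code_mul, code_t0]
  · rwa [← code_inj, code_cj, code_υ1]
  · rwa [← code_inj, code_cj, code_υ2]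

theorem υ_notMem : υ1 ∉ zpowers t0 ∧ υ2 ∉ zpowers t0 ∧ υ1 * υ2 ∉ zpowers t0 := by
  simp only [memZ]
  decide +kernel

theorem mU0 : ∃ n ∈ normalizer (U0 : Set A12), n * t0 ≠ t0 * n := by
  obtain ⟨g, hg⟩ := exists_of_ok (c := 205163967295776) (by decide +kernel)
  refine ⟨g, normU (by rw [hg]; decide +kernel), ?_⟩
  rw [ne_eq, ← code_inj, code_mul, code_mul, hg, code_t0]
  decide +kernel

theorem xE0 : ∀ e ∈ E0, ⁅x00, e⁆ ∈ zpowers t0 ↔ e ∈ B0 := fun x hx => by
  rw [memZ, memB, code_cm, code_x00]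
  exact (by decide +kernel : ∀ c ∈ LEs, cm 188671056949776 c ∈ [e1, 205163730379521] ↔ c ∈ LB) _ (memE.mp hx)

theorem ue0 : ∃ e ∈ E0, e * (u0 * e * u0⁻¹) ≠ u0 * e * u0⁻¹ * e := by
  obtain ⟨g, hg, e⟩ := exE 205162269529206 (by decide +kernel)
  refine ⟨g, hg, ?_⟩
  simp only [ne_eq, ← code_inj, code_mul, code_inv, e, code_u0]
  decide +kernel

/-- conjugating elements -/
def Kt.W4 : List ℕ :=
  [202673759858946, 202819786514736, 167635699642896, 205018524561936]

theorem Kt.W4_eq_1' : type_of% @Kt.W4.eq_1 := @Kt.W4.eq_1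

theorem conj_t0 : IsConj t0 u0 ∧ IsConj t0 (u0 * t0) ∧ IsConj t0 (x00 * t0) ∧
    IsConj t0 (x00 * r0 * t0) := by
  refine ⟨?_, ?_, ?_, ?_⟩ <;> refine isConj_of (W := W4) (by decide +kernel) ?_ <;>
    simp only [code_mul, code_t0, code_u0, code_x00, code_r0] <;> decide +kernel

theorem β_rot : b0 * β1 * b0⁻¹ = β2 ∧ b0 * β2 * b0⁻¹ = β1 * β2 := by decide +kernel

theorem x00_conj : ∃ g : A12, g * r0 * g⁻¹ = β1 ∧ g * x00 * g⁻¹ = β2 := by
  obtain ⟨g, hg⟩ := exists_of_ok (c := 55045722380406) (by decide +kernel)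
  refine ⟨g, ?_, ?_⟩ <;> simp only [← code_inj, code_cj, hg, code_r0, code_x00, code_β1, code_β2] <;>
    decide +kernel

end Cfsg.Lib.HN3
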