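import Cfsg.Agent.HN3.Kit

/-! Faster versions of the operations on codes of permutations. -/

set_option autoImplicit false
set_option maxRecDepth 100000

namespace Cfsg.Lib.HN3.Kt

open Subgroup Equiv

/-- forcing evaluation -/
def fz {β : Type} (n : ℕ) (k : ℕ → β) : β := Nat.casesOn n (k 0) fun m => k (Nat.succ m)

theorem fz_eq {β : Type} (n : ℕ) (k : ℕ → β) : fz n k = k n := by cases n <;> rfl

/-- digits -/
def aq (c i : ℕ) : ℕ := Nat.land (Nat.shiftRight c (Nat.mul 4 i)) 15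

theorem land_eq (c s : ℕ) : Nat.land (Nat.shiftRight c s) 15 = c / 2 ^ s % 16 := by
  change (c >>> s) &&& (2 ^ 4 - 1) = _
  rw [Nat.and_two_pow_sub_one_eq_mod, Nat.shiftRight_eq_div_pow]

theorem aq_eq (c i : ℕ) : aq c i = ap c i := by
  change Nat.land (Nat.shiftRight c (4 * i)) 15 = c / 16 ^ i % 16
  rw [land_eq, pow_mul]; rfl

theorem land_ap (c i : ℕ) : Nat.land (Nat.shiftRight c (4 * i)) 15 = ap c i := aq_eq c i

/-- one digit of a product -/
def dq (a b s : ℕ) : ℕ := Nat.shiftLeft (aq a (Nat.land (Nat.shiftRight b s) 15)) s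

theorem dq_eq (a b i : ℕ) : dq a b (4 * i) = ap a (ap b i) * 16 ^ i := by
  change aq a (Nat.land (Nat.shiftRight b (4 * i)) 15) <<< (4 * i) = _
  rw [land_ap, aq_eq, Nat.shiftLeft_eq, pow_mul]; rfl

/-- product -/
def mv (a b : ℕ) : ℕ := fz a fun a => fz b fun b =>
  Nat.add (Nat.add (Nat.add (Nat.add (dq a b 0) (dq a b 4)) (Nat.add (dq a b 8) (dq a b 12)))
    (Nat.add (Nat.add (dq a b 16) (dq a b 20)) (Nat.add (dq a b 24) (dq a b 28))))
    (Nat.add (Nat.add (dq a b 32) (dq a b 36)) (Nat.add (dq a b 40) (dq a b 44)))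

theorem mv_eq (a b : ℕ) : mv a b = mu a b := by
  unfold mv
  rw [fz_eq, fz_eq]
  change dq a b (4 * 0) + dq a b (4 * 1) + (dq a b (4 * 2) + dq a b (4 * 3)) +
    (dq a b (4 * 4) + dq a b (4 * 5) + (dq a b (4 * 6) + dq a b (4 * 7))) +
    (dq a b (4 * 8) + dq a b (4 * 9) + (dq a b (4 * 10) + dq a b (4 * 11))) = mk12 _
  simp only [dq_eq]
  rw [mk12_eq]
  simp only [pc_succ, pc_zero]
  omega

/-- one digit of an inverse -/
def eq' (a k s : ℕ) : ℕ := Nat.shiftLeft k (Nat.mul 4 (Nat.land (Nat.shiftRight a s) 15))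

theorem eq'_eq (a k i : ℕ) : eq' a k (4 * i) = k * 16 ^ ap a i := by
  change k <<< (4 * Nat.land (Nat.shiftRight a (4 * i)) 15) = _
  rw [land_ap, Nat.shiftLeft_eq, pow_mul]; rfl

/-- inverse -/
def vq (a : ℕ) : ℕ := fz a fun a =>
  Nat.add (Nat.add (Nat.add (eq' a 1 4) (Nat.add (eq' a 2 8) (eq' a 3 12)))
    (Nat.add (Nat.add (eq' a 4 16) (eq' a 5 20)) (Nat.add (eq' a 6 24) (eq' a 7 28))))
    (Nat.add (Nat.add (eq' a 8 32) (eq' a 9 36)) (Nat.add (eq' a 10 40) (eq' a 11 44)))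

theorem vq_eq (a : ℕ) : vq a = iv a := by
  unfold vq iv
  rw [fz_eq]
  change eq' a 1 (4 * 1) + (eq' a 2 (4 * 2) + eq' a 3 (4 * 3)) +
    (eq' a 4 (4 * 4) + eq' a 5 (4 * 5) + (eq' a 6 (4 * 6) + eq' a 7 (4 * 7))) +
    (eq' a 8 (4 * 8) + eq' a 9 (4 * 9) + (eq' a 10 (4 * 10) + eq' a 11 (4 * 11))) = _
  simp only [eq'_eq]
  omega

/-- conjugation -/
def jq (w x : ℕ) : ℕ := fz w fun w => mv (mv w x) (vq w)

theorem jq_code (w x : A12) : jq (code w) (code x) = code (w * x * w⁻¹) := by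
  rw [code_mul, code_mul, code_inv, ← vq_eq, ← mv_eq, ← mv_eq]
  exact fz_eq _ _

theorem mv_code (w x : A12) : mv (code w) (code x) = code (w * x) := by rw [code_mul, mv_eq]

theorem vq_code (w : A12) : vq (code w) = code w⁻¹ := by rw [code_inv, vq_eq]

/-- one inversion -/
def iq (x y : ℕ) : ℕ := Bool.rec 1 0 (Nat.blt x y)

theorem iq_eq (x y : ℕ) : iq x y = cond (Nat.blt x y) 0 1 := by
  unfold iq; cases Nat.blt x y <;> rfl

/-- inversions -/
def tq (c : ℕ) : ℕ :=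
  fz (Nat.land (Nat.shiftRight c 0) 15) fun x0 =>
  fz (Nat.land (Nat.shiftRight c 4) 15) fun x1 =>
  fz (Nat.land (Nat.shiftRight c 8) 15) fun x2 =>
  fz (Nat.land (Nat.shiftRight c 12) 15) fun x3 =>
  fz (Nat.land (Nat.shiftRight c 16) 15) fun x4 =>
  fz (Nat.land (Nat.shiftRight c 20) 15) fun x5 =>
  fz (Nat.land (Nat.shiftRight c 24) 15) fun x6 =>
  fz (Nat.land (Nat.shiftRight c 28) 15) fun x7 =>
  fz (Nat.land (Nat.shiftRight c 32) 15) fun x8 =>
  fz (Nat.land (Nat.shiftRight c 36) 15) fun x9 =>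
  fz (Nat.land (Nat.shiftRight c 40) 15) fun x10 =>
  fz (Nat.land (Nat.shiftRight c 44) 15) fun x11 =>
    Nat.add (iq x0 x1) <|
    Nat.add (Nat.add (iq x0 x2) (iq x1 x2)) <|
    Nat.add (Nat.add (Nat.add (iq x0 x3) (iq x1 x3)) (iq x2 x3)) <|
    Nat.add (Nat.add (Nat.add (Nat.add (iq x0 x4) (iq x1 x4)) (iq x2 x4)) (iq x3 x4)) <|
    Nat.add (Nat.add (Nat.add (Nat.add (Nat.add (iq x0 x5) (iq x1 x5)) (iq x2 x5)) (iq x3 x5)) (iq x4 x5)) <|
    Nat.add (Nat.add (Nat.add (Nat.add (Nat.add (Nat.add (iq x0 x6) (iq x1 x6)) (iq x2 x6)) (iq x3 x6)) (iq x4 x6)) (iq x5 x6)) <|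
    Nat.add (Nat.add (Nat.add (Nat.add (Nat.add (Nat.add (Nat.add (iq x0 x7) (iq x1 x7)) (iq x2 x7)) (iq x3 x7)) (iq x4 x7)) (iq x5 x7)) (iq x6 x7)) <|
    Nat.add (Nat.add (Nat.add (Nat.add (Nat.add (Nat.add (Nat.add (Nat.add (iq x0 x8) (iq x1 x8)) (iq x2 x8)) (iq x3 x8)) (iq x4 x8)) (iq x5 x8)) (iq x6 x8)) (iq x7 x8)) <|
    Nat.add (Nat.add (Nat.add (Nat.add (Nat.add (Nat.add (Nat.add (Nat.add (Nat.add (iq x0 x9) (iq x1 x9)) (iq x2 x9)) (iq x3 x9)) (iq x4 x9)) (iq x5 x9)) (iq x6 x9)) (iq x7 x9)) (iq x8 x9)) <|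
    Nat.add (Nat.add (Nat.add (Nat.add (Nat.add (Nat.add (Nat.add (Nat.add (Nat.add (Nat.add (iq x0 x10) (iq x1 x10)) (iq x2 x10)) (iq x3 x10)) (iq x4 x10)) (iq x5 x10)) (iq x6 x10)) (iq x7 x10)) (iq x8 x10)) (iq x9 x10)) <|
    Nat.add (Nat.add (Nat.add (Nat.add (Nat.add (Nat.add (Nat.add (Nat.add (Nat.add (Nat.add (iq x0 x11) (iq x1 x11)) (iq x2 x11)) (iq x3 x11)) (iq x4 x11)) (iq x5 x11)) (iq x6 x11)) (iq x7 x11)) (iq x8 x11)) (iq x9 x11)) (iq x10 x11)

theorem tq_eq (c : ℕ) : tq c = tot c 12 := by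
  have h0 : Nat.land (Nat.shiftRight c 0) 15 = ap c 0 := land_ap c 0
  have h1 : Nat.land (Nat.shiftRight c 4) 15 = ap c 1 := land_ap c 1
  have h2 : Nat.land (Nat.shiftRight c 8) 15 = ap c 2 := land_ap c 2
  have h3 : Nat.land (Nat.shiftRight c 12) 15 = ap c 3 := land_ap c 3
  have h4 : Nat.land (Nat.shiftRight c 16) 15 = ap c 4 := land_ap c 4
  have h5 : Nat.land (Nat.shiftRight c 20) 15 = ap c 5 := land_ap c 5
  have h6 : Nat.land (Nat.shiftRight c 24) 15 = ap c 6 := land_ap c 6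
  have h7 : Nat.land (Nat.shiftRight c 28) 15 = ap c 7 := land_ap c 7
  have h8 : Nat.land (Nat.shiftRight c 32) 15 = ap c 8 := land_ap c 8
  have h9 : Nat.land (Nat.shiftRight c 36) 15 = ap c 9 := land_ap c 9
  have h10 : Nat.land (Nat.shiftRight c 40) 15 = ap c 10 := land_ap c 10
  have h11 : Nat.land (Nat.shiftRight c 44) 15 = ap c 11 := land_ap c 11
  have z : ∀ j i, cnt c j (i + 1) = cnt c j i + iq (ap c i) (ap c j) := fun j i => by rw [iq_eq]; rfl
  have z0 : ∀ j, cnt c j 0 = 0 := fun _ => rfl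
  have y : ∀ j, tot c (j + 1) = tot c j + cnt c j j := fun _ => rfl
  have y0 : tot c 0 = 0 := rfl
  unfold tq
  simp only [fz_eq, y, y0, z, z0, h0, h1, h2, h3, h4, h5, h6, h7, h8, h9, h10, h11, Nat.add_eq]
  omega

/-- all -/
noncomputable def allb (f : ℕ → Bool) (l : List ℕ) : Bool :=
  List.rec true (fun x _ r => Bool.rec false r (f x)) l

/-- any -/
noncomputable def anyb (f : ℕ → Bool) (l : List ℕ) : Bool :=
  List.rec false (fun x _ r => Bool.rec r true (f x)) l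

theorem allb_iff {f : ℕ → Bool} {l : List ℕ} : allb f l = true ↔ ∀ x ∈ l, f x = true := by
  induction l with
  | nil => simp [show allb f [] = true from rfl]
  | cons x l ih =>
    rw [List.forall_mem_cons, ← ih, show allb f (x :: l) = Bool.rec false (allb f l) (f x) from rfl]
    cases f x <;> simp

theorem anyb_iff {f : ℕ → Bool} {l : List ℕ} : anyb f l = true ↔ ∃ x ∈ l, f x = true := by
  induction l with
  | nil => simp [show anyb f [] = false from rfl]
  | cons x l ih =>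
    rw [List.exists_mem_cons_iff, ← ih, show anyb f (x :: l) = Bool.rec (anyb f l) true (f x) from rfl]
    cases f x <;> simp

/-- membership -/
noncomputable def memb (c : ℕ) (l : List ℕ) : Bool := fz c fun c => anyb (Nat.beq c) l

theorem memb_iff {c : ℕ} {l : List ℕ} : memb c l = true ↔ c ∈ l := by
  unfold memb
  simp [fz_eq, anyb_iff]

/-- or -/
def orb (a b : Bool) : Bool := Bool.rec b true a

theorem orb_iff {a b : Bool} : orb a b = true ↔ a = true ∨ b = true := by cases a <;> cases b <;> decide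

/-- implication -/
def imb (a b : Bool) : Bool := Bool.rec true b a

theorem imb_iff {a b : Bool} : imb a b = true ↔ (a = true → b = true) := by cases a <;> cases b <;> decide

/-- and -/
def anb (a b : Bool) : Bool := Bool.rec false b a

theorem anb_iff {a b : Bool} : anb a b = true ↔ a = true ∧ b = true := by cases a <;> cases b <;> decide

/-- the order is divisible by three -/
def t3 (c : ℕ) : Bool := fz (mv c c) fun c2 => fz (mv c2 c2) fun c4 => fz (mv c4 c4) fun c8 =>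
  Bool.rec (Nat.beq (mv c8 (mv c8 c8)) e1) false (Nat.beq c8 e1)

theorem t3_aux (f : ℕ → ℕ → ℕ) (c : ℕ)
    (h : (fz (f c c) fun c2 => fz (f c2 c2) fun c4 => fz (f c4 c4) fun c8 =>
      (Bool.rec (Nat.beq (f c8 (f c8 c8)) e1) false (Nat.beq c8 e1) : Bool)) = true) :
    f (f (f c c) (f c c)) (f (f c c) (f c c)) ≠ e1 ∧
      f (f (f (f c c) (f c c)) (f (f c c) (f c c))) (f (f (f (f c c) (f c c)) (f (f c c) (f c c)))
        (f (f (f c c) (f c c)) (f (f c c) (f c c)))) = e1 := by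
  rw [fz_eq, fz_eq, fz_eq] at h
  generalize f (f (f c c) (f c c)) (f (f c c) (f c c)) = d at h ⊢
  cases e : Nat.beq d e1
  · rw [e] at h
    exact ⟨Nat.ne_of_beq_eq_false e, Nat.eq_of_beq_eq_true h⟩
  · rw [e] at h
    cases h

theorem mv_eq' : mv = mu := funext fun a => funext (mv_eq a)

theorem t3_dvd {g : A12} (h : t3 (code g) = true) : 3 ∣ orderOf g := by
  obtain ⟨h1, h2⟩ := t3_aux mv _ h
  simp only [mv_eq, ← code_mul, ← code_one, code_inj, ne_eq] at h1 h2
  have e : g * g * (g * g) * (g * g * (g * g)) = g ^ 8 := by simp only [pow_succ, pow_zero, one_mul, mul_assoc]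
  rw [e] at h1 h2
  have : Fact (Nat.Prime 3) := ⟨Nat.prime_three⟩
  have h3 : orderOf (g ^ 8) = 3 := orderOf_eq_prime (by rw [pow_succ', sq]; exact h2) h1
  rw [← h3]
  exact orderOf_pow_dvd 8

/-- one step of the enumeration -/
noncomputable def stp (L : List ℕ) (r : ℕ → ℕ → ℕ → Bool) (i c m x : ℕ) : Bool :=
  orb (Nat.beq (Nat.land (Nat.shiftRight m x) 1) 1)
    (fz (Nat.add c (Nat.shiftLeft x (Nat.mul 4 i))) fun c' =>
      imb (allb (fun s => orb (Nat.blt i (aq s i)) (Nat.beq (aq c' (aq s i)) (aq s x))) L)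
        (fz (Nat.succ i) fun i' => fz (Nat.lor m (Nat.shiftLeft 1 x)) fun m' => r i' c' m'))

/-- enumeration of a centraliser along a plan -/
noncomputable def gq (L : List ℕ) (P : ℕ → Bool) (pl : List (ℕ × ℕ)) : ℕ → ℕ → ℕ → Bool :=
  List.rec (fun _ c _ => P c) (fun p _ r i c m =>
    Bool.rec (fz (aq p.1 (aq c p.2)) (stp L r i c m))
      (allb (stp L r i c m) [0, 1, 2, 3, 4, 5, 6, 7, 8, 9, 10, 11]) (Nat.beq p.1 0)) pl

/-- admissible plans -/
def plOK (L : List ℕ) : List (ℕ × ℕ) → ℕ → Bool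
  | [], i => i == 12
  | p :: pl, i => (p.1 == 0 || (L.contains p.1 && decide (p.2 < i) && ap p.1 p.2 == i)) && decide (i < 12) &&
      plOK L pl (i + 1)

theorem gq_sound {L : List ℕ} {P : ℕ → Bool} {g : A12} (hL : ∀ c ∈ L, ∃ s, code s = c ∧ g * s = s * g) :
    ∀ pl i m, plOK L pl i = true → (∀ x, m.testBit x = true → ∃ j < i, fn g j = x) →
      gq L P pl i (pc (fn g) i) m = true → P (code g) = true := by
  intro pl
  induction pl with
  | nil =>
    intro i m hi _ h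
    obtain rfl : i = 12 := by simpa using (show (i == 12) = true from hi)
    exact h
  | cons p pl ih =>
    intro i m hi hm h
    change ((p.1 == 0 || (L.contains p.1 && decide (p.2 < i) && ap p.1 p.2 == i)) && decide (i < 12) &&
      plOK L pl (i + 1)) = true at hi
    simp only [Bool.and_eq_true, Bool.or_eq_true, beq_iff_eq, decide_eq_true_eq, List.contains_iff_mem] at hi
    obtain ⟨⟨hp, hi'⟩, hpl⟩ := hi
    have h1 : stp L (gq L P pl) i (pc (fn g) i) m (fn g i) = true := by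
      change (Bool.rec (fz (aq p.1 (aq (pc (fn g) i) p.2)) (stp L (gq L P pl) i (pc (fn g) i) m))
        (allb (stp L (gq L P pl) i (pc (fn g) i) m) [0, 1, 2, 3, 4, 5, 6, 7, 8, 9, 10, 11])
        (Nat.beq p.1 0) : Bool) = true at h
      cases e : Nat.beq p.1 0
      · rw [e] at h
        obtain ⟨⟨h2, h3⟩, h4⟩ := hp.resolve_left (Nat.ne_of_beq_eq_false e)
        obtain ⟨s, hs, hc⟩ := hL _ h2
        have hj : p.2 < 12 := by omega
        rw [← hs, ap_code s hj] at h4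
        change fz _ _ = true at h
        rwa [fz_eq, aq_eq, aq_eq, ap_pc (fn_lt g) h3, ← hs, ap_code s (fn_lt12 g _), ← fn_mul _ _ hj, ← hc,
          fn_mul _ _ hj, h4] at h
      · rw [e] at h
        refine allb_iff.mp h (fn g i) ?_
        have := fn_lt12 g i
        generalize fn g i = x at this
        interval_cases x <;> simp
    unfold stp at h1
    have e1 : Nat.add (pc (fn g) i) (Nat.shiftLeft (fn g i) (Nat.mul 4 i)) = pc (fn g) (i + 1) := by
      change pc (fn g) i + fn g i <<< (4 * i) = _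
      rw [Nat.shiftLeft_eq, pow_mul]; rfl
    simp only [fz_eq, orb_iff, imb_iff, allb_iff, e1, Nat.beq_eq, Nat.blt_eq, aq_eq] at h1
    rcases h1 with h1 | h1
    · obtain ⟨j, hj, e⟩ := hm (fn g i) (by
        change (m >>> fn g i) &&& 1 = 1 at h1
        rw [Nat.testBit, Nat.and_comm, h1]; rfl)
      rw [fn_val g ⟨i, hi'⟩, fn_val g ⟨j, by omega⟩] at e
      have := congrArg Fin.val (g.1.injective (Fin.ext e))
      simp only at this
      omega
    · refine ih (i + 1) _ hpl (fun x hx => ?_) (h1 fun c hc => ?_)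
      · change (m ||| 1 <<< fn g i).testBit x = true at hx
        rw [Nat.testBit_or, Bool.or_eq_true, Nat.one_shiftLeft, Nat.testBit_two_pow, decide_eq_true_eq] at hx
        rcases hx with hx | hx
        · obtain ⟨j, hj, e⟩ := hm x hx
          exact ⟨j, by omega, e⟩
        · exact ⟨i, by omega, hx⟩
      · obtain ⟨s, rfl, hs⟩ := hL c hc
        rw [ap_code s hi']
        refine (lt_or_ge i (fn s i)).imp_right fun hle => ?_
        rw [ap_pc (fn_lt g) (by omega), ap_code s (fn_lt12 g i), ← fn_mul _ _ hi', ← fn_mul _ _ hi', hs]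

theorem cent_q (S : List A12) {L : List ℕ} (e : S.map code = L) (pl : List (ℕ × ℕ))
    (hpl : plOK L pl 0 = true) (Q : ℕ → Bool)
    (h : gq L (fun c => orb (Nat.beq (Nat.mod (tq c) 2) 1) (Q c)) pl 0 0 0 = true) {g : A12}
    (hg : ∀ s ∈ S, g * s = s * g) : Q (code g) = true := by
  have := gq_sound (g := g) (fun c hc => by
    rw [← e, List.mem_map] at hc
    obtain ⟨s, hs, rfl⟩ := hc
    exact ⟨s, rfl, hg s hs⟩) pl 0 0 hpl (by simp) h
  rw [orb_iff, Nat.beq_eq, tq_eq] at this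
  exact this.resolve_left (by rw [show Nat.mod (tot (code g) 12) 2 = 0 from tot_code g]; decide)

theorem fz_eq_1' : type_of% @fz.eq_1 := @fz.eq_1
theorem aq_eq_1' : type_of% @aq.eq_1 := @aq.eq_1
theorem dq_eq_1' : type_of% @dq.eq_1 := @dq.eq_1
theorem mv_eq_1' : type_of% @mv.eq_1 := @mv.eq_1
theorem eq'_eq_1' : type_of% @eq'.eq_1 := @eq'.eq_1
theorem vq_eq_1' : type_of% @vq.eq_1 := @vq.eq_1
theorem jq_eq_1' : type_of% @jq.eq_1 := @jq.eq_1
theorem iq_eq_1' : type_of% @iq.eq_1 := @iq.eq_1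
theorem tq_eq_1' : type_of% @tq.eq_1 := @tq.eq_1
theorem memb_eq_1' : type_of% @memb.eq_1 := @memb.eq_1
theorem t3_eq_1' : type_of% @t3.eq_1 := @t3.eq_1
theorem stp_eq_1' : type_of% @stp.eq_1 := @stp.eq_1

end Cfsg.Lib.HN3.Kt
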