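import Cfsg.Agent.HN3.FinA
import Cfsg.Agent.HN3.Kit2

/-! Finite facts in the alternating group of degree twelve: centralisers. -/

set_option autoImplicit false
set_option maxRecDepth 100000

namespace Cfsg.Lib.HN3

open Subgroup Equiv Kt
open scoped commutatorElement

namespace Kt

/-- `c * w` lies in `L` for some `w ∈ M` such that `c * w` fixes `i` -/
noncomputable def inq (i : ℕ) (L M : List ℕ) (c : ℕ) : Bool :=
  anyb (fun w => anb (Nat.beq (aq c (aq w i)) i) (memb (mv c w) L)) M

theorem inq_eq_1' : type_of% @inq.eq_1 := @inq.eq_1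

theorem of_inq {i : ℕ} {L M : List ℕ} {c : ℕ} (h : inq i L M c = true) : ∃ w ∈ M, mv c w ∈ L := by
  obtain ⟨w, hw, h⟩ := anyb_iff.mp h
  exact ⟨w, hw, memb_iff.mp (anb_iff.mp h).2⟩

theorem mem_sup_of {H K : Subgroup A12} {L M : List ℕ} (hH : ∀ c ∈ L, ∃ g ∈ H, code g = c)
    (hK : ∀ c ∈ M, ∃ g ∈ K, code g = c) {g : A12} {i : ℕ} (h : inq i L M (code g) = true) : g ∈ H ⊔ K := by
  obtain ⟨w, hw, h⟩ := of_inq h
  obtain ⟨k, hk, rfl⟩ := hK w hw
  rw [mv_code] at h
  have := mul_mem (mem_sup_left (T := K) (mem_of_exists hH h)) (mem_sup_right (inv_mem hk))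
  rwa [mul_inv_cancel_right] at this

theorem code_bi : code b0⁻¹ = 205163980787796 := by decide +kernel

theorem t3_cm {g : A12} (h : t3 (mv (jq (code g) 205163978576946) 205163980787796) = true) :
    3 ∣ orderOf ⁅g, b0⁆ := by
  rw [← code_b0, ← code_bi, jq_code, mv_code] at h
  exact t3_dvd h

/-- a four-group -/
def LV : List ℕ :=
  [205163983024656, 167926616568336, 188606884098576, 151369517642256]

/-- a group of order eighteen -/
def L18 : List ℕ :=
  [205163983024656, 205163983015986, 205163978576946, 205163978568276, 205163980787796,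
   205163980805136, 171147842040336, 171147842031666, 171147837592626, 171147837583956,
   171147839803476, 171147839820816, 186609724305936, 186609724297266, 186609719858226,
   186609719849556, 186609722069076, 186609722086416]

/-- a group of order `24` -/
def L24 : List ℕ :=
  [205163983024656, 205163983015986, 205163978576946, 205163978568276, 205163980787796,
   205163980805136, 167926616568336, 167926616559666, 167926612120626, 167926612111956,
   167926614331476, 167926614348816, 188606884098576, 188606884089906, 188606879650866,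
   188606879642196, 188606881861716, 188606881879056, 151369517642256, 151369517633586,
   151369513194546, 151369513185876, 151369515405396, 151369515422736]

/-- a group of order three -/
def LA : List ℕ :=
  [205163983024656, 171147842040336, 186609724305936]

/-- a group of order nine -/
def L9 : List ℕ :=
  [205163983024656, 205155678302736, 205159453176336, 171147842040336, 171139537318416,
   171143312192016, 186609724305936, 186601419584016, 186605194457616]

/-- a group of order `81` -/
def L81 : List ℕ :=
  [205163983024656, 171147842040336, 186609724305936, 205155678302736, 171139537318416,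
   186601419584016, 205159453176336, 171143312192016, 186605194457616, 205163978838576,
   171147837854256, 186609720119856, 205155674116656, 171139533132336, 186601415397936,
   205159448990256, 171143308005936, 186605190271536, 205163980919376, 171147839935056,
   186609722200656, 205155676197456, 171139535213136, 186601417478736, 205159451071056,
   171143310086736, 186605192352336, 205163982763026, 171147841778706, 186609724044306,
   205155678041106, 171139537056786, 186601419322386, 205159452914706, 171143311930386,
   186605194195986, 205163978576946, 171147837592626, 186609719858226, 205155673855026,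
   171139532870706, 186601415136306, 205159448728626, 171143307744306, 186605190009906,
   205163980657746, 171147839673426, 186609721939026, 205155675935826, 171139534951506,
   186601417217106, 205159450809426, 171143309825106, 186605192090706, 205163982893076,
   171147841908756, 186609724174356, 205155678171156, 171139537186836, 186601419452436,
   205159453044756, 171143312060436, 186605194326036, 205163978706996, 171147837722676,
   186609719988276, 205155673985076, 171139533000756, 186601415266356, 205159448858676,
   171143307874356, 186605190139956, 205163980787796, 171147839803476, 186609722069076,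
   205155676065876, 171139535081556, 186601417347156, 205159450939476, 171143309955156,
   186605192220756]

/-- conjugating elements -/
def W5 : List ℕ :=
  [205163967295776, 205163699908866, 205163933618496, 205163666231556, 205163394658656,
   205163394654471]

theorem LV_eq_1' : type_of% @LV.eq_1 := @LV.eq_1
theorem L18_eq_1' : type_of% @L18.eq_1 := @L18.eq_1
theorem L24_eq_1' : type_of% @L24.eq_1 := @L24.eq_1
theorem LA_eq_1' : type_of% @LA.eq_1 := @LA.eq_1
theorem L9_eq_1' : type_of% @L9.eq_1 := @L9.eq_1
theorem L81_eq_1' : type_of% @L81.eq_1 := @L81.eq_1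
theorem W5_eq_1' : type_of% @W5.eq_1 := @W5.eq_1

theorem exV : ∀ c ∈ LV, ∃ g ∈ closure ({r0, v0} : Set A12), code g = c :=
  exists_of_prods [(r0, 2), (v0, 2)] (by
    simp only [List.mem_cons, List.not_mem_nil, or_false]
    rintro _ (rfl | rfl) <;> exact subset_closure (by simp))
    (T := [(188606884098576, 2), (167926616568336, 2)]) (by decide +kernel) (by decide +kernel)

theorem ex18 : ∀ c ∈ L18, ∃ g ∈ closure ({a0, b0, h0} : Set A12), code g = c :=
  exists_of_prods [(a0, 3), (b0, 3), (h0, 2)] (by
    simp only [List.mem_cons, List.not_mem_nil, or_false]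
    rintro _ (rfl | rfl | rfl) <;> exact subset_closure (by simp))
    (T := [(171147842040336, 3), (205163978576946, 3), (205163983015986, 2)]) (by decide +kernel) (by decide +kernel)

theorem exA : ∀ c ∈ LA, ∃ g ∈ zpowers a0, code g = c :=
  exists_of_prods [(a0, 3)] (by simp) (T := [(171147842040336, 3)]) (by decide +kernel) (by decide +kernel)

theorem ex9 : ∀ c ∈ L9, ∃ g ∈ closure ({a0, c4} : Set A12), code g = c :=
  exists_of_prods [(a0, 3), (c4, 3)] (by
    simp only [List.mem_cons, List.not_mem_nil, or_false]
    rintro _ (rfl | rfl) <;> exact subset_closure (by simp))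
    (T := [(171147842040336, 3), (205155678302736, 3)]) (by decide +kernel) (by decide +kernel)

theorem ex81 : ∀ c ∈ L81, ∃ g ∈ closure ({c1, c2, c4, a0} : Set A12), code g = c :=
  exists_of_prods [(c1, 3), (c2, 3), (c4, 3), (a0, 3)] (by
    simp only [List.mem_cons, List.not_mem_nil, or_false]
    rintro _ (rfl | rfl | rfl | rfl) <;> exact subset_closure (by simp))
    (T := [(205163982763026, 3), (205163978838576, 3), (205155678302736, 3), (171147842040336, 3)])
    (by decide +kernel) (by decide +kernel)

theorem cB_all (Q : ℕ → Bool)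
    (h : gq [188606884098576, 167926616568336, 205163730379521] (fun c => orb (Nat.beq (Nat.mod (tq c) 2) 1) (Q c))
      [(0, 0), (205163730379521, 0), (0, 0), (205163730379521, 2), (0, 0), (205163730379521, 4),
       (0, 0), (205163730379521, 6), (0, 0), (188606884098576, 8), (167926616568336, 8),
       (188606884098576, 10)] 0 0 0 = true)
    {g : A12} (h1 : g * r0 = r0 * g) (h2 : g * v0 = v0 * g) (h3 : g * t0 = t0 * g) : Q (code g) = true :=
  cent_q [r0, v0, t0] (by decide +kernel) _ (by decide +kernel) Q h (by simp [h1, h2, h3])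

theorem cat_all (Q : ℕ → Bool)
    (h : gq [171147842040336, 205163730379521] (fun c => orb (Nat.beq (Nat.mod (tq c) 2) 1) (Q c))
      [(0, 0), (205163730379521, 0), (0, 0), (205163730379521, 2), (0, 0), (205163730379521, 4),
       (0, 0), (205163730379521, 6), (0, 0), (0, 0), (171147842040336, 9),
       (171147842040336, 10)] 0 0 0 = true)
    {g : A12} (h1 : g * a0 = a0 * g) (h2 : g * t0 = t0 * g) : Q (code g) = true :=
  cent_q [a0, t0] (by decide +kernel) _ (by decide +kernel) Q h (by simp [h1, h2])

theorem ex24 : ∀ c ∈ L24, ∃ g ∈ (⊤ : Subgroup A12), code g = c :=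
  exists_of_prods [(r0, 2), (v0, 2), (b0, 3), (h0, 2)] (by simp)
    (T := [(188606884098576, 2), (167926616568336, 2), (205163978576946, 3), (205163983015986, 2)])
    (by decide +kernel) (by decide +kernel)

end Kt

theorem cB0 {g : A12} (h1 : g * r0 = r0 * g) (h2 : g * v0 = v0 * g) (h3 : g * t0 = t0 * g) :
    g ∈ E0 ⊔ closure {r0, v0} ∨ 3 ∣ orderOf g ∨ 3 ∣ orderOf ⁅g, b0⁆ := by
  have := cB_all (fun c => orb (t3 (mv (jq c 205163978576946) 205163980787796)) (orb (t3 c) (inq 8 LEs LV c)))
    (by decide +kernel) h1 h2 h3
  rw [orb_iff, orb_iff] at this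
  rcases this with h | h | h
  exacts [.inr (.inr (t3_cm h)), .inr (.inl (t3_dvd h)), .inl (mem_sup_of exE exV h)]

theorem card_cB0 : Nat.card (centralizer ({t0, r0, v0} : Set A12)) ≤ 768 := by
  refine (card_le_length (L := L24.flatMap fun w => LEs.map fun c => mv c (vq w)) fun g hg => ?_).trans
    (by simp only [List.length_flatMap, List.length_map]; decide +kernel)
  rw [mem_centralizer_iff] at hg
  obtain ⟨w, hw, h⟩ := of_inq (cB_all (inq 8 LEs L24) (by decide +kernel)
    (hg r0 (by simp)).symm (hg v0 (by simp)).symm (hg t0 (by simp)).symm)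
  obtain ⟨k, -, rfl⟩ := ex24 w hw
  exact List.mem_flatMap.mpr ⟨_, hw, List.mem_map.mpr ⟨_, h, by
    rw [mv_code, vq_code, mv_code, mul_inv_cancel_right]⟩⟩

theorem cat0 {g : A12} (h1 : g * a0 = a0 * g) (h2 : g * t0 = t0 * g) :
    g ∈ E0 ⊔ closure {a0, b0, h0} :=
  mem_sup_of exE ex18 (cat_all (inq 9 LEs L18) (by decide +kernel) h1 h2)

theorem cat30 {g : A12} (h1 : g * a0 = a0 * g) (h2 : g * t0 = t0 * g) :
    g ∈ E0 ∨ 3 ∣ orderOf g ∨ 3 ∣ orderOf ⁅g, b0⁆ := by
  have := cat_all (fun c => orb (t3 (mv (jq c 205163978576946) 205163980787796)) (orb (t3 c) (memb c LEs)))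
    (by decide +kernel) h1 h2
  rw [orb_iff, orb_iff] at this
  rcases this with h | h | h
  exacts [.inr (.inr (t3_cm h)), .inr (.inl (t3_dvd h)), .inl (memE.mpr (memb_iff.mp h))]

theorem twin {ξ : A12} (h1 : ξ * a0 = a0 * ξ) (h2 : ξ * t0 = t0 * ξ) (h3 : ξ * ξ = 1) (h4 : ξ ≠ 1)
    (h5 : ξ * (b0 * ξ * b0⁻¹) * (b0⁻¹ * ξ * b0) = 1) :
    IsConj t0 ξ ∨ ξ = β1 ∨ ξ = β2 ∨ ξ = β1 * β2 := by
  have := cat_all (fun c => imb (Nat.beq (mv c c) e1)
    (imb (Nat.beq (mv (mv c (mv (mv 205163978576946 c) 205163980787796)) (mv (mv 205163980787796 c) 205163978576946)) e1)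
      (orb (anyb (fun w => Nat.beq (jq w 205163730379521) c) W5) (memb c [e1, 205163983020801, 205163982037776, 205163982041601]))))
    (by decide +kernel) h1 h2
  rw [imb_iff, imb_iff, orb_iff, anyb_iff, memb_iff, Nat.beq_eq, Nat.beq_eq, ← code_b0, ← code_bi, ← code_t0,
    ← code_β1, ← code_β2, ← (by decide +kernel : code (β1 * β2) = 205163982041601), ← code_one] at this
  simp only [mv_code, code_inj, Nat.beq_eq, List.mem_cons, List.not_mem_nil, or_false] at this
  rcases this h3 h5 with ⟨w, hw, h⟩ | h
  · obtain ⟨k, rfl⟩ := exists_of_ok ((by decide +kernel : ∀ c ∈ W5, Ok c) w hw)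
    rw [jq_code, code_inj] at h
    exact .inl (isConj_iff.mpr ⟨k, h⟩)
  · exact .inr (h.resolve_left h4)

theorem cU0 {g : A12} (h1 : g ∈ normalizer (zpowers a0 : Set A12)) (h2 : ∀ x ∈ U0, g * x = x * g) :
    g ∈ zpowers a0 ⊔ U0 := by
  rw [sup_comm]
  have := cent_q [t0, υ1, υ2] (L := [205163730379521, 205163414818866, 205162269529206]) (by decide +kernel)
    [(0, 0), (205163730379521, 0), (205163414818866, 0), (205163730379521, 2),
       (205162269529206, 2), (205163730379521, 4), (205163414818866, 4), (205163730379521, 6),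
       (0, 0), (0, 0), (0, 0), (0, 0)]
    (by decide +kernel)
    (fun c => imb (Nat.beq (mv (jq c 171147842040336) 171147842040336) (mv 171147842040336 (jq c 171147842040336))) (inq 9 LU LA c))
    (by decide +kernel) (g := g) (by
      simp only [List.mem_cons, List.not_mem_nil, or_false]
      rintro _ (rfl | rfl | rfl) <;> exact h2 _ (subset_closure (by simp)))
  rw [imb_iff, Nat.beq_eq, ← code_a0, jq_code, mv_code, mv_code, code_inj] at this
  refine mem_sup_of exU exA (this ?_)
  obtain ⟨m, hm⟩ := (mem_normalizer_iff.mp h1 a0).mp (mem_zpowers a0)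
  rw [← hm]
  exact (Commute.zpow_self a0 m).eq

/-- the centraliser of `a0, β1, β2` has order `72` and a normal Sylow `3`-subgroup -/
theorem caβ {g : A12} (h1 : g * a0 = a0 * g) (h2 : g * β1 = β1 * g) (h3 : g * β2 = β2 * g) :
    (g ^ 3 = 1 → g ∈ closure {a0, c4}) ∧ g ^ 6 = 1 := by
  have := cent_q [a0, β1, β2] (L := [171147842040336, 205163983020801, 205163982037776]) (by decide +kernel)
    [(0, 0), (205163983020801, 0), (0, 0), (205163983020801, 2), (0, 0), (205163982037776, 4),
       (0, 0), (0, 0), (0, 0), (0, 0), (171147842040336, 9), (171147842040336, 10)]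
    (by decide +kernel)
    (fun c => anb (imb (Nat.beq (mv (mv c c) c) e1) (memb c L9))
      (Nat.beq (mv (mv (mv c c) c) (mv (mv c c) c)) e1))
    (by decide +kernel) (g := g) (by simp [h1, h2, h3])
  rw [anb_iff, imb_iff, memb_iff, Nat.beq_eq, Nat.beq_eq, ← code_one, mv_code, mv_code, mv_code, code_inj,
    code_inj] at this
  refine ⟨fun h => mem_of_exists ex9 (this.1 (by rw [← h, pow_succ, sq])), ?_⟩
  rw [← this.2]
  simp only [pow_succ, pow_zero, one_mul, mul_assoc]

/-- the centraliser of `a0, b0` -/
theorem cab {g : A12} (h1 : g * a0 = a0 * g) (h2 : g * b0 = b0 * g) :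
    g ∈ closure {c1, c2, c4, a0} ∨ g * t0 ∈ closure {c1, c2, c4, a0} := by
  have := cent_q [a0, b0] (L := [171147842040336, 205163978576946]) (by decide +kernel)
    [(0, 0), (0, 0), (205163978576946, 0), (205163978576946, 1), (205163978576946, 2),
       (205163978576946, 3), (0, 0), (0, 0), (0, 0), (0, 0), (171147842040336, 9),
       (171147842040336, 10)]
    (by decide +kernel) (fun c => orb (memb c L81) (memb (mv c 205163730379521) L81))
    (by decide +kernel) (g := g) (by simp [h1, h2])
  rw [orb_iff, memb_iff, memb_iff, ← code_t0, mv_code] at this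
  exact this.imp (mem_of_exists ex81) (mem_of_exists ex81)

theorem cJ0 {g : A12} (h1 : g * c1 = c1 * g) (h2 : g * c2 = c2 * g) (h3 : g * c4 = c4 * g)
    (h4 : g * a0 = a0 * g) : g ∈ closure {c1, c2, c4, a0} :=
  mem_of_exists ex81 (memb_iff.mp (cent_q [c1, c2, c4, a0]
    (L := [205163982763026, 205163978838576, 205155678302736, 171147842040336]) (by decide +kernel)
    [(0, 0), (0, 0), (205163982763026, 0), (205163978838576, 1), (205163982763026, 2),
       (205163978838576, 3), (0, 0), (205155678302736, 6), (205155678302736, 7), (0, 0),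
       (171147842040336, 9), (171147842040336, 10)]
    (by decide +kernel) (fun c => memb c L81) (by decide +kernel) (g := g) (by simp [h1, h2, h3, h4])))

end Cfsg.Lib.HN3
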