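import Cfsg.Agent.HN3.Defs
import Cfsg.Agent.HN.AltNu

/-!
Elements and subgroups of the alternating group of degree twelve.
-/

set_option autoImplicit false

namespace Cfsg.Lib.HN3

open Subgroup Equiv Cfsg.Lib.Known

/-- An even permutation. -/
def ev (σ : Perm (Fin 12)) (h : Perm.sign σ = 1) : A12 := ⟨σ, Perm.mem_alternatingGroup.2 h⟩

/-- `A₈` on the first eight points. -/
def ι : A8 →* A12 := HN.lowA 8 4

/-- A named element. -/
def t0 : A12 := ev (swap 0 1 * swap 2 3 * swap 4 5 * swap 6 7) (by decide)
/-- A named element. -/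
def h0 : A12 := ev (swap 0 2 * swap 1 3) (by decide)
/-- A named element. -/
def u0 : A12 := ev (swap 0 2 * swap 1 3 * swap 6 7 * swap 9 10) (by decide)
/-- A named element. -/
def x00 : A12 := ev (swap 6 7 * swap 10 11) (by decide)
/-- A named element. -/
def r0 : A12 := ev (swap 8 9 * swap 10 11) (by decide)
/-- A named element. -/
def v0 : A12 := ev (swap 8 10 * swap 9 11) (by decide)
/-- A named element. -/
def β1 : A12 := ev (swap 0 1 * swap 2 3) (by decide)
/-- A named element. -/
def β2 : A12 := ev (swap 2 3 * swap 4 5) (by decide)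
/-- A named element. -/
def υ1 : A12 := ev (swap 0 2 * swap 1 3 * swap 4 6 * swap 5 7) (by decide)
/-- A named element. -/
def υ2 : A12 := ev (swap 0 6 * swap 1 7 * swap 2 4 * swap 3 5) (by decide)
/-- A three-cycle. -/
def c1 : A12 := ev (c3 0 2 4) (by decide)
/-- A three-cycle. -/
def c2 : A12 := ev (c3 1 3 5) (by decide)
/-- A three-cycle. -/
def c4 : A12 := ev (c3 6 7 8) (by decide)

/-- An elementary abelian group of order eight. -/
def B0 : Subgroup A12 := closure {t0, β1, β2}
/-- A regular elementary abelian group of order eight. -/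
def U0 : Subgroup A12 := closure {t0, υ1, υ2}
/-- The extraspecial group of order `32`. -/
def E0 : Subgroup A12 := closure {β1, β2, υ1, υ2}

end Cfsg.Lib.HN3
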