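import Cfsg.Agent.HN3.GlueC

/-!
Gluing of the alternating group of degree twelve from three charts.
-/

set_option autoImplicit false
set_option linter.unusedSectionVars false

namespace Cfsg.Lib.HN3

open Subgroup Equiv Equiv.Perm Cfsg.Lib.Known Cfsg.Lib.Perm Cfsg.Lib.HN
open Cfsg.Lib.Mc3 (mem_nz mem_nz_of_comm nz_cases comm_zp conj_zp mem_zp3)

namespace Glue

/-- A double transposition, or `1`. -/
def dt (i j k l : Fin 9) : A9 :=
  if h : i ≠ j ∧ k ≠ l then ⟨swap i j * swap k l, mem_alternatingGroup.2 (by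
    rw [map_mul, sign_swap h.1, sign_swap h.2]; rfl)⟩ else 1

variable {G : Type*} [Group G] [Finite G]

theorem hc (ψ : A9 →* G) {σ τ : A9} (h : σ * τ = τ * σ) : ψ σ * ψ τ = ψ τ * ψ σ := by
  rw [← map_mul, h, map_mul]

theorem hi (ψ : A9 →* G) {σ τ : A9} (h : σ * τ * σ⁻¹ = τ⁻¹) : ψ σ * ψ τ * (ψ σ)⁻¹ = (ψ τ)⁻¹ := by
  rw [← map_inv, ← map_inv, ← map_mul, ← map_mul, h]

theorem hs (ψ : A9 →* G) {σ : A9} (h : σ * σ = 1) : ψ σ * ψ σ = 1 := by
  rw [← map_mul, h, map_one]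

theorem bc3_val {Ω : Type*} [Fintype Ω] [DecidableEq Ω] {i α β : Ω} (h1 : i ≠ α) (h2 : i ≠ β) :
    (bc3 i α β).1 = c3 i α β := by rw [bc3_eq h1 h2]; rfl

variable {z a : G} {p : G → Perm (Fin 9)} {ψ : A9 →* G}

/-- The frame in the chart of a three-cycle. -/
theorem Ch.frame' (h : Ch z a p ψ) {i j k l m : Fin 9} {p' : G → Perm (Fin 9)} {ψ' : A9 →* G}
    (h' : Ch z (ψ (bc3 i j k)) p' ψ') (hz : ¬ IsConj z (a * ψ (bc3 2 0 1)))
    (n : i ≠ j ∧ i ≠ k ∧ j ≠ k) (e : dt 2 1 l m * dt l m 2 0 = bc3 2 0 1)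
    (e1 : dt 2 1 l m * dt 2 1 l m = 1) (e2 : dt l m 2 0 * dt l m 2 0 = 1)
    (e3 : dt 2 1 l m * bc3 i j k = bc3 i j k * dt 2 1 l m)
    (e4 : dt l m 2 0 * bc3 i j k = bc3 i j k * dt l m 2 0)
    (e5 : dt 0 1 i j * dt 0 1 i j = 1)
    (e6 : dt 0 1 i j * bc3 i j k * (dt 0 1 i j)⁻¹ = (bc3 i j k)⁻¹)
    (e7 : dt 0 1 i j * bc3 2 0 1 * (dt 0 1 i j)⁻¹ = (bc3 2 0 1)⁻¹) :
    a ∈ ψ'.range ∧ (p' a).IsThreeCycle ∧ ψ (bc3 2 0 1) ∈ ψ'.range ∧
      ψ (dt 0 1 i j) ∈ NZ (ψ (bc3 i j k)) ∧ ∃ P Q m, P ≠ Q ∧ m ≠ P ∧ m ≠ Q ∧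
      p' (ψ (dt 0 1 i j)) = swap P Q ∧ p' (ψ (bc3 2 0 1)) = c3 m P Q ∧
      p' a P = P ∧ p' a Q = Q ∧ p' a m = m := by
  obtain ⟨h1, h2⟩ := h.tri h'.toCh0 ⟨_, rfl⟩ (by
    rw [h.pψ, bc3_val n.1 n.2.1]; exact three_c3 n.1 n.2.1 n.2.2)
  have e' : ψ (dt 2 1 l m) * ψ (dt l m 2 0) = ψ (bc3 2 0 1) := by rw [← map_mul, e]
  have := h'.frame h1 h2 (hs ψ e1) (hs ψ e2) (hc ψ e3) (hc ψ e4) (h.ψa _) (h.ψa _)
    (by rw [e', ← map_pow, bc3_cube _ (by decide), map_one])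
    (by rw [e', Ne, map_eq_one_iff _ h.inj]; decide) (e' ▸ hz) (hs ψ e5) (hi ψ e6) (h.ψa _)
    (e' ▸ hi ψ e7)
  rw [e'] at this
  exact ⟨h1, h2, this.1, (h'.odd (hi ψ e6)).1, this.2⟩

theorem Ch.glue (h : Ch z a p ψ) (h2 : IsConj a (ψ (bc3 3 4 5))) (h3 : IsConj a (ψ (bc3 6 7 8)))
    (hz : ¬ IsConj z (a * ψ (bc3 2 0 1))) :
    ∃ ν : A12 →* G, ν.comp (lowA 9 3) = ψ ∧ ν a0 = a := by
  obtain ⟨p2, ψ2, c2⟩ := h.exists_of h2
  obtain ⟨p3, ψ3, c3'⟩ := h.exists_of h3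
  obtain ⟨a2, t2, g2, n2, P, Q, m, PQ, mP, mQ, τ2, γ2, aP, aQ, am⟩ :=
    h.frame' (l := 6) (m := 7) c2 hz (by decide) (by decide) (by decide) (by decide) (by decide)
      (by decide) (by decide) (by decide) (by decide)
  obtain ⟨-, -, g3, n3, P', Q', m', PQ', mP', mQ', τ3, γ3, -⟩ :=
    h.frame' (l := 3) (m := 4) c3' hz (by decide) (by decide) (by decide) (by decide) (by decide)
      (by decide) (by decide) (by decide) (by decide)
  obtain ⟨g, hg⟩ := exists_label t2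
  rw [conj_c3] at hg
  let s : Fin 3 → Fin 9 := fun j => g (Fin.castAdd 6 j)
  have si : ∀ {i j}, i ≠ j → s i ≠ s j := fun hij e => hij (Fin.castAdd_injective _ _ (g.injective e))
  have sa : ∀ j, p2 a (s j) ≠ s j := fun j e => by
    rw [← hg, ← conj_c3, Perm.mul_apply, Perm.mul_apply, Perm.inv_def, symm_apply_apply,
      g.apply_eq_iff_eq] at e
    revert j; decide
  have sP : ∀ j, s j ≠ P := fun j e => sa j (e ▸ aP)
  have sQ : ∀ j, s j ≠ Q := fun j e => sa j (e ▸ aQ)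
  have sm : ∀ j, s j ≠ m := fun j e => sa j (e ▸ am)
  let Y : Fin 3 → G := fun j => ψ2 (bc3 (s j) P Q)
  have YR : ∀ j, Y j ∈ ψ2.range := fun j => ⟨_, rfl⟩
  have pY : ∀ j, p2 (Y j) = c3 (s j) P Q := fun j => by rw [c2.pψ, bc3_val (sP j) (sQ j)]
  have Y3 : ∀ j, Y j ^ 3 = 1 := fun j => by rw [← map_pow, bc3_cube _ PQ, map_one]
  have Ya : ∀ j (σ : A9), ψ σ ≠ Y j := fun j σ e => by
    have h1 := c2.comm (c2.mN (YR j)) (c2.mN a2) (e ▸ h.ψa σ)
    have h4 := congrArg (fun f : Perm (Fin 9) => f Q) h1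
    simp only [Perm.mul_apply, aQ, pY, c3_apply_three (sQ j) PQ] at h4
    exact sa j h4.symm
  have Yγ : ∀ j, (Y j * ψ (bc3 2 0 1)) ^ 2 = 1 := fun j =>
    c2.rel PQ (YR j) g2 (sP j) (sQ j) mP mQ (pY j) γ2 (Ya j _).symm
  have Yγ' : ∀ j, Y j * ψ (bc3 2 0 1) ≠ 1 := fun j e =>
    Ya j (bc3 2 0 1)⁻¹ (by rw [map_inv, eq_inv_of_mul_eq_one_left e])
  have Yρ : ∀ j (ρ : A9), ρ * ρ = 1 → ρ * bc3 3 4 5 * ρ⁻¹ = (bc3 3 4 5)⁻¹ →
      ρ * bc3 2 0 1 = bc3 2 0 1 * ρ → ψ ρ * Y j = Y j * ψ ρ := fun j ρ r1 r2 r3 => by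
    have hn := (c2.odd (hi ψ r2)).1
    have r4 : p2 (ψ ρ) * p2 (ψ ρ) = 1 := by rw [← c2.mul _ hn _ hn, hs ψ r1, c2.one]
    have r5 := c2.comm hn (c2.mN g2) (hc ψ r3)
    rw [γ2] at r5
    refine c2.fix_cj hn (YR j) ?_
    rw [pY, conj_c3, fix_of_comm t2 r4 (c2.comm hn (c2.mN a2) (h.ψa ρ)) (sa j),
      fix_of_comm (three_c3 mP mQ PQ) r4 r5 (x := P) (by rw [c3_apply_two]; exact PQ.symm),
      fix_of_comm (three_c3 mP mQ PQ) r4 r5 (x := Q) (by rw [c3_apply_three mQ PQ]; exact mQ)]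
  have Yτ : ∀ j, ψ (dt 0 1 3 4) * Y j * (ψ (dt 0 1 3 4))⁻¹ = (Y j)⁻¹ := fun j =>
    c2.inv_cj n2 (YR j) (by
      rw [τ2, pY, conj_c3, c3_inv, swap_apply_left, swap_apply_right,
        swap_apply_of_ne_of_ne (sP j) (sQ j)])
  have hX : ∀ i : Fin 9, i ≠ 0 → i ≠ 1 → i ≠ 2 → ψ (bc3 i 0 1) ^ 3 = 1 ∧
      (ψ (bc3 i 0 1) * ψ (bc3 2 0 1)) ^ 2 = 1 ∧ ψ (bc3 i 0 1) * ψ (bc3 2 0 1) ≠ 1 :=
    fun i i0 i1 i2 => ⟨by rw [← map_pow, bc3_cube _ (by decide), map_one],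
      by rw [← map_mul, ← map_pow, bc3_sq i0 i1 (by decide) (by decide) (by decide) i2, map_one],
      by rw [← map_mul, Ne, map_eq_one_iff _ h.inj]; clear * - i0 i1 i2; revert i; decide⟩
  have hY : ∀ (i : Fin 9) (j : Fin 3), i ≠ 0 → i ≠ 1 → (ψ (bc3 i 0 1) * Y j) ^ 2 = 1 := by
    intro i j i0 i1
    by_cases i2 : i = 2
    · exact i2 ▸ mul_sq_comm (Yγ j)
    obtain ⟨x1, x2, x3⟩ := hX i i0 i1 i2
    by_cases i6 : 6 ≤ i
    · obtain ⟨r1, i', r2, r3, r4⟩ := c2.carm n2 τ2 PQ g2 γ2 mP mQ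
        (hc ψ (by clear * - i6; revert i; decide)) x1 x2 x3
        (hi ψ (by clear * - i6; revert i; decide))
      exact c2.rel PQ r1 (YR j) r2 r3 (sP j) (sQ j) r4 (pY j) (Ya j _)
    · obtain ⟨r1, i', r2, r3, r4⟩ := c3'.carm n3 τ3 PQ' g3 γ3 mP' mQ'
        (hc ψ (by clear * - i6; revert i; decide)) x1 x2 x3
        (hi ψ (by clear * - i0 i1 i6; revert i; decide))
      have ρ1 := Yρ j (dt 3 4 6 7) (by decide) (by decide) (by decide)
      have ρ2 := Yρ j (dt 3 4 7 8) (by decide) (by decide) (by decide)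
      obtain ⟨r5, j', r6, r7, r8⟩ := c3'.carm n3 τ3 PQ' g3 γ3 mP' mQ' (x := Y j)
        (by rw [show bc3 6 7 8 = dt 3 4 6 7 * dt 3 4 7 8 by decide, map_mul, ← mul_assoc, ← ρ1,
          mul_assoc, ← ρ2, mul_assoc]) (Y3 j) (Yγ j) (Yγ' j)
        (by rw [show dt 0 1 6 7 = dt 0 1 3 4 * dt 3 4 6 7 by decide, map_mul, mul_assoc (ψ _), ρ1,
          ← Yτ j]; group)
      exact c3'.rel PQ' r1 r5 r2 r3 r6 r7 r4 r8 (Ya j _)
  let X : Fin (9 + 3) → G := Fin.addCases (fun i => ψ (bc3 i 0 1)) Y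
  obtain ⟨ν, hν⟩ := exists_hom_carm (Ω := Fin 12) 0 1 (by decide) X
    (fun i _ _ => by
      induction i using Fin.addCases (m := 9) (n := 3) with
      | left i => simp only [X, Fin.addCases_left]; rw [← map_pow, bc3_cube i (by decide), map_one]
      | right i => simp only [X, Fin.addCases_right, Y3])
    (fun i j i4 i5 j4 j5 ij => by
      induction i using Fin.addCases (m := 9) (n := 3) with
      | left i =>
        induction j using Fin.addCases (m := 9) (n := 3) with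
        | left j =>
          simp only [X, Fin.addCases_left]
          rw [← map_mul, ← map_pow, bc3_sq (i := i) (j := j) (α := 0) (β := 1)
            (fun e => i4 (e ▸ rfl)) (fun e => i5 (e ▸ rfl)) (by decide) (fun e => j4 (e ▸ rfl))
            (fun e => j5 (e ▸ rfl)) (fun e => ij (congrArg _ e)), map_one]
        | right j =>
          simp only [X, Fin.addCases_left, Fin.addCases_right]
          exact hY i j (fun e => i4 (e ▸ rfl)) fun e => i5 (e ▸ rfl)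
      | right i =>
        induction j using Fin.addCases (m := 9) (n := 3) with
        | left j =>
          simp only [X, Fin.addCases_left, Fin.addCases_right]
          exact mul_sq_comm (hY j i (fun e => j4 (e ▸ rfl)) fun e => j5 (e ▸ rfl))
        | right j =>
          simp only [X, Fin.addCases_right]
          exact c2.rel PQ (YR i) (YR j) (sP i) (sQ i) (sP j) (sQ j) (pY i) (pY j) fun e =>
            AltC.Bld.c3_ne (sP i) (sQ i) PQ (sQ j) (si fun e => ij (congrArg _ e))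
              (by rw [← pY, ← pY, e]))
  have hν' : ∀ i, i ≠ 0 → i ≠ 1 → ν (bc3 i 0 1) = X i := fun i h1 h2 => by rw [bc3_eq h1 h2, hν]
  refine ⟨ν, hom_ext_ac3 (α := 0) (β := 1) (by decide) fun i h1 h2 => ?_, ?_⟩
  · have : ∀ i : Fin 9, lowA 9 3 (bc3 i 0 1) = bc3 (Fin.castAdd 3 i) 0 1 := by decide +kernel
    rw [← bc3_eq, MonoidHom.comp_apply, this, hν' _ (by clear * - h1; revert i; decide)
      (by clear * - h2; revert i; decide)]
    simp only [X, Fin.addCases_left]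
  · have e : a0 = (bc3 11 0 1)⁻¹ * (bc3 10 0 1 * (bc3 9 0 1)⁻¹) * bc3 11 0 1 := by decide
    rw [e, map_mul, map_mul, map_mul, map_inv, map_inv, hν' _ (by decide) (by decide),
      hν' _ (by decide) (by decide), hν' _ (by decide) (by decide)]
    change (Y 2)⁻¹ * (Y 1 * (Y 0)⁻¹) * Y 2 = a
    have k := fun j => c2.mN (YR j)
    refine c2.ext (mul_mem (mul_mem (inv_mem (YR 2)) (mul_mem (YR 1) (inv_mem (YR 0)))) (YR 2))
      a2 ?_
    rw [c2.mul _ (mul_mem (inv_mem (k 2)) (mul_mem (k 1) (inv_mem (k 0)))) _ (k 2),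
      c2.mul _ (inv_mem (k 2)) _ (mul_mem (k 1) (inv_mem (k 0))),
      c2.mul _ (k 1) _ (inv_mem (k 0)), c2.inv (k 2), c2.inv (k 0), pY, pY, pY, ← hg]
    refine (c3_word ?_).symm
    simp only [List.nodup_cons, List.mem_cons, List.not_mem_nil, or_false, not_or, List.nodup_nil,
      and_true, not_false_eq_true]
    exact ⟨⟨si (by decide), si (by decide), sP _, sQ _⟩, ⟨si (by decide), sP _, sQ _⟩,
      ⟨sP _, sQ _⟩, PQ⟩

theorem card_adj {A : Subgroup G} {x : G} (hx : orderOf x = 3) (hc : ∀ y ∈ A, x * y = y * x)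
    (hn : x ∉ A) : Nat.card (A ⊔ zpowers x : Subgroup G) = Nat.card A * 3 := by
  have h1 := Local.CD.card_sup_mul_card_inf_of_le_centralizer (H := A) (K := zpowers x)
    fun y hy w hw => (comm_zp (hc y hy).symm hw).symm
  have h2 : A ⊓ zpowers x = ⊥ := eq_bot_iff.2 fun y hy => by
    rcases (mem_zp3 hx).1 hy.2 with e | e | e
    · exact e
    · exact absurd (e ▸ hy.1) hn
    · exact absurd (by simpa [e] using hy.1) hn
  rwa [h2, card_bot, mul_one, Nat.card_zpowers, hx] at h1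

theorem comm_adj {A : Subgroup G} {x w : G} (h1 : ∀ y ∈ A, w * y = y * w) (h2 : w * x = x * w) :
    ∀ y ∈ A ⊔ zpowers x, w * y = y * w := fun y hy =>
  (mem_centralizer_singleton_iff.1 ((sup_le (fun y hy => mem_centralizer_singleton_iff.2
    (h1 y hy).symm) (zpowers_le.2 (mem_centralizer_singleton_iff.2 h2.symm)) :
      A ⊔ zpowers x ≤ centralizer {w}) hy)).symm

theorem ab_adj {A : Subgroup G} {x : G} (h1 : ∀ y ∈ A, ∀ w ∈ A, w * y = y * w)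
    (h2 : ∀ y ∈ A, x * y = y * x) : ∀ y ∈ A ⊔ zpowers x, ∀ w ∈ A ⊔ zpowers x, w * y = y * w :=
  fun y hy w hw => (comm_adj (fun v hv => (comm_adj (fun u hu => h1 u hu v hv) (h2 v hv).symm y hy).symm)
    (comm_adj h2 rfl y hy).symm w hw).symm

theorem exists_27 : ∃ E : Subgroup A9, Nat.card E = 27 ∧ (∀ y ∈ E, ∀ w ∈ E, w * y = y * w) ∧
    bc3 3 4 5 ∈ E ∧ bc3 6 7 8 ∈ E := by
  have : Fact (Nat.Prime 3) := ⟨Nat.prime_three⟩
  have o : ∀ {x : A9}, x ^ 3 = 1 → x ≠ 1 → orderOf x = 3 := orderOf_eq_prime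
  have b : ∀ x : A9, ∀ y ∈ (⊥ : Subgroup A9), x * y = y * x := fun x y hy => by
    rw [mem_bot.1 hy]; simp
  have st : ∀ (i : Fin 9) (x : A9), x.1 i = i → zpowers x ≤ MulAction.stabilizer A9 i :=
    fun i x e => zpowers_le.2 e
  have k2 := comm_adj (x := bc3 2 0 1) (b (bc3 3 4 5)) (by decide)
  have k3 := comm_adj (x := bc3 3 4 5) (comm_adj (x := bc3 2 0 1) (b (bc3 6 7 8)) (by decide))
    (by decide)
  refine ⟨((⊥ ⊔ zpowers (bc3 2 0 1)) ⊔ zpowers (bc3 3 4 5)) ⊔ zpowers (bc3 6 7 8), ?_,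
    ab_adj (ab_adj (ab_adj (fun y hy w _ => b w y hy) (b _)) k2) k3,
    mem_sup_left (mem_sup_right (mem_zpowers _)), mem_sup_right (mem_zpowers _)⟩
  rw [card_adj (o (by decide) (by decide)) k3, card_adj (o (by decide) (by decide)) k2,
    card_adj (o (by decide) (by decide)) (b _) (by rw [mem_bot]; decide), card_bot]
  · intro e
    have : (bc3 3 4 5 : A9).1 3 = 3 := sup_le bot_le (st 3 _ (by decide)) e
    exact absurd this (by decide)
  · intro e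
    have : (bc3 6 7 8 : A9).1 6 = 6 :=
      sup_le (sup_le bot_le (st 6 _ (by decide))) (st 6 _ (by decide)) e
    exact absurd this (by decide)

end Glue

open Glue

variable {G : Type*} [Group G] [Finite G]

theorem JD.four (D : JD G) {x u v : G} (hx : IsConj D.z x) (uu : u * u = 1) (vv : v * v = 1)
    (ux : u * x = x * u) (vx : v * x = x * v) (uv : u * v = v * u) : u = 1 ∨ v = 1 ∨ u = v := by
  obtain ⟨g, rfl⟩ := isConj_iff.1 hx
  have key : ∀ w : G, w * (g * D.z * g⁻¹) = g * D.z * g⁻¹ * w → g⁻¹ * w * g ∈ centralizer {D.z} :=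
    fun w e => mem_centralizer_singleton_iff.2 (by
      calc g⁻¹ * w * g * D.z = g⁻¹ * (w * (g * D.z * g⁻¹)) * g := by group
        _ = _ := by rw [e]; group)
  have k1 : ∀ w : G, w * w = 1 → g⁻¹ * w * g ∈ D.Q → w = 1 := fun w e hw => by
    have := D.l.cube _ hw
    rw [show (g⁻¹ * w * g) ^ 3 = g⁻¹ * (w * (w * w)) * g by simp only [pow_three]; group, e] at this
    calc w = g * (g⁻¹ * (w * 1) * g) * g⁻¹ := by group
      _ = 1 := by rw [this]; group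
  have k2 : ∀ w : G, w * w = 1 → (hw : g⁻¹ * w * g ∈ centralizer {D.z}) →
      w = 1 ∨ D.pL (g⁻¹ * w * g) = -1 := fun w e hw =>
    (SL25_sq _ (by
      rw [← D.l.map_mul _ hw _ hw, show g⁻¹ * w * g * (g⁻¹ * w * g) = g⁻¹ * (w * w) * g by group,
        e, mul_one, inv_mul_cancel, D.l.map_one])).imp_left fun h => k1 w e ((D.l.ker _ hw).1 h)
  have hu := key u ux
  have hv := key v vx
  rcases k2 u uu hu with e | e
  · exact .inl e
  rcases k2 v vv hv with e' | e'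
  · exact .inr (.inl e')
  refine .inr (.inr ?_)
  have := k1 (u * v) (by rw [mul_assoc, ← mul_assoc v, ← uv, mul_assoc, vv, mul_one, uu]) (by
    rw [show g⁻¹ * (u * v) * g = g⁻¹ * u * g * (g⁻¹ * v * g) by group,
      ← D.l.ker _ (mul_mem hu hv), D.l.map_mul _ hu _ hv, e, e']; simp)
  rw [eq_inv_of_mul_eq_one_left this, inv_eq_of_mul_eq_one_right vv]

theorem JD.cls81 (D : JD G) {E : Subgroup G} (hc : ∀ y ∈ E, ∀ w ∈ E, w * y = y * w)
    (h81 : Nat.card E = 81) {x : G} (hx : x ∈ E) (h1 : x ≠ 1) : IsConj D.z x ∨ IsConj D.a x := by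
  have : Fact (Nat.Prime 3) := ⟨Nat.prime_three⟩
  obtain ⟨g, -, hg⟩ := (Trans.isSylowIn_top D.S).exists_cj_le (Q := E)
    (IsPGroup.of_card (n := 4) h81) le_top
  have e := D.l.unique D.JS D.Jc D.cardJ hg (fun a ha b hb => by
    have := hc _ (Trans.mem_cj.1 hb) _ (Trans.mem_cj.1 ha)
    calc a * b = g * (g⁻¹ * a * g * (g⁻¹ * b * g)) * g⁻¹ := by group
      _ = _ := by rw [this]; group) (by rw [Trans.card_cj, h81])
  have k : IsConj (g * x * g⁻¹) x := (isConj_iff.2 ⟨g, rfl⟩).symm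
  exact (D.cls _ (e ▸ Trans.conj_mem_cj.2 hx) (by simpa using h1)).imp (·.trans k) (·.trans k)

theorem ND.ch {a z : G} {π : normalizer (zpowers a : Set G) →* Perm (Fin 9)} {ψ : A9 →* G}
    (h : ND a z π ψ) : ∃ p, Ch z a p ψ := by
  classical
  let p : G → Perm (Fin 9) := fun g => if hg : g ∈ NZ a then π ⟨g, hg⟩ else 1
  have hp : ∀ g (hg : g ∈ NZ a), p g = π ⟨g, hg⟩ := fun g hg => dif_pos hg
  have c : Ch0 a p ψ := by
    refine ⟨h.a3, fun x hx y hy => ?_, fun σ => ?_, fun n hn => ?_, fun n hn => ?_, h.ψa,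
      fun σ => ?_⟩
    · rw [hp _ hx, hp _ hy, hp _ (mul_mem hx hy), ← map_mul]; rfl
    · obtain ⟨n, rfl⟩ := h.surj σ
      exact ⟨n, n.2, hp _ _⟩
    · rw [hp _ hn, h.ker]
    · rw [hp _ hn, h.even]
    · rw [hp _ (mem_nz_of_comm (h.ψa σ))]; exact h.πψ σ _ rfl
  refine ⟨p, c, fun x hx e => ?_⟩
  obtain ⟨ζ, rfl, e'⟩ := h.hz
  obtain ⟨g, hg⟩ := isConj_iff.1 (e'.symm.trans e)
  obtain ⟨n, hn, rfl⟩ := c.surj g
  exact isConj_iff.2 ⟨n, c.ext (c.nrm hn ⟨_, rfl⟩) hx (by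
    rw [c.cj hn (c.mN ⟨_, rfl⟩), c.pψ, hg])⟩

theorem JD.exists_nu (D : JD G) {π : normalizer (zpowers D.a : Set G) →* Perm (Fin 9)}
    {ψ : A9 →* G} (h : ND D.a D.z π ψ) : ∃ ν : A12 →* G, Function.Injective ν ∧
      ν (a0 * b0) = D.z ∧ ∀ g, g * ν a0 = ν a0 * g → g ∈ ν.range := by
  obtain ⟨p, c⟩ := h.ch
  have nz : ∀ {x : G} (u v : A9), u * u = 1 → v * v = 1 → u * v = v * u → u ≠ 1 → v ≠ 1 → u ≠ v →
      ψ u * x = x * ψ u → ψ v * x = x * ψ v → ¬ IsConj D.z x := fun u v h1 h2 h3 h4 h5 h6 h7 h8 e => by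
    rcases D.four e (hs ψ h1) (hs ψ h2) h7 h8 (hc ψ h3) with e | e | e
    · exact h4 ((map_eq_one_iff _ c.inj).1 e)
    · exact h5 ((map_eq_one_iff _ c.inj).1 e)
    · exact h6 (c.inj e)
  obtain ⟨E, e27, eab, e2, e3⟩ := exists_27
  have ea : ∀ y ∈ E.map ψ, D.a * y = y * D.a := by
    rintro _ ⟨σ, -, rfl⟩; exact (c.ψa σ).symm
  have cl : ∀ σ ∈ E, σ ≠ 1 → ¬ IsConj D.z (ψ σ) → IsConj D.a (ψ σ) := fun σ hσ h1 h2 =>
    (D.cls81 (E := E.map ψ ⊔ zpowers D.a) (ab_adj (by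
      rintro _ ⟨σ, h1, rfl⟩ _ ⟨τ, h2, rfl⟩; exact hc ψ (eab _ h1 _ h2)) ea) (by
      rw [card_adj c.a3 ea fun e => c.a_ne (c.eq_one (mem_zpowers _) (map_le_range _ _ e)),
        card_map_of_injective c.inj, e27]) (mem_sup_left ⟨σ, hσ, rfl⟩)
      (by rwa [Ne, map_eq_one_iff _ c.inj])).resolve_left h2
  have ka : ∀ u σ : A9, u * σ = σ * u → ψ u * (D.a * ψ σ) = D.a * ψ σ * ψ u := fun u σ e => by
    rw [← mul_assoc, c.ψa, mul_assoc, hc ψ e, mul_assoc]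
  obtain ⟨ν, h1, h2⟩ := c.glue
    (cl _ e2 (by decide) (nz (dt 0 1 2 6) (dt 0 2 1 6) (by decide) (by decide) (by decide)
      (by decide) (by decide) (by decide) (hc ψ (by decide)) (hc ψ (by decide))))
    (cl _ e3 (by decide) (nz (dt 0 1 2 3) (dt 0 2 1 3) (by decide) (by decide) (by decide)
      (by decide) (by decide) (by decide) (hc ψ (by decide)) (hc ψ (by decide))))
    (nz (dt 3 4 5 6) (dt 3 5 4 6) (by decide) (by decide) (by decide)
      (by decide) (by decide) (by decide) (ka _ _ (by decide)) (ka _ _ (by decide)))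
  have hinj : Function.Injective ν := by
    have := alternatingGroup.isSimpleGroup (α := Fin 12) (by simp)
    rcases (MonoidHom.normal_ker ν).eq_bot_or_eq_top with e | e
    · exact (MonoidHom.ker_eq_bot_iff ν).1 e
    · exact absurd (h2 ▸ (e.ge (mem_top a0) : ν a0 = 1)) c.a_ne
  obtain ⟨ζ, e1, e2⟩ := h.hz
  have k : IsConj (a0 * b0) (lowA 9 3 ζ) := by
    refine alternatingGroup.isConj_of (IsConj.trans (b := sbs 9 3 (z9, 1)) ?_
      (((sbs 9 3).comp (MonoidHom.inl _ _)).map_isConj e2)) (by decide)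
    exact conj_of_supp (by decide) (by decide +kernel) (by decide) (by decide +kernel)
  obtain ⟨w, hw⟩ := isConj_iff.1 k
  refine ⟨ν.comp (MulAut.conj w).toMonoidHom, hinj.comp (MulAut.conj w).injective, ?_,
    fun g hg => ?_⟩
  · change ν (w * (a0 * b0) * w⁻¹) = _
    rw [hw, ← e1, ← h1]; rfl
  · change g * ν (w * a0 * w⁻¹) = ν (w * a0 * w⁻¹) * g at hg
    rw [map_mul, map_mul, map_inv, h2] at hg
    obtain ⟨x, ⟨k, rfl⟩, _, ⟨σ, rfl⟩, e⟩ := c.dec (g := (ν w)⁻¹ * g * ν w) (by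
      calc (ν w)⁻¹ * g * ν w * D.a = (ν w)⁻¹ * (g * (ν w * D.a * (ν w)⁻¹)) * ν w := by group
        _ = _ := by rw [hg]; group)
    refine ⟨a0 ^ k * lowA 9 3 σ, ?_⟩
    change ν (w * (a0 ^ k * lowA 9 3 σ) * w⁻¹) = g
    rw [map_mul, map_mul, map_mul, map_inv, map_zpow, h2, ← MonoidHom.comp_apply ν (lowA 9 3), h1]
    change (ν w)⁻¹ * g * ν w = D.a ^ k * ψ σ at e
    rw [← e]; group

end Cfsg.Lib.HN3
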