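import Cfsg.Agent.HN3.GlueP

/-!
Charts `N(⟨α⟩) → S₉` for the gluing of the alternating group of degree twelve.
-/

set_option autoImplicit false
set_option linter.unusedSectionVars false

namespace Cfsg.Lib.HN3.Glue

open Subgroup Equiv Equiv.Perm Cfsg.Lib.Known
open Cfsg.Lib.Mc3 (mem_nz mem_nz_of_comm nz_cases comm_zp conj_zp mem_zp3)

theorem five5 : (c3 3 4 5 * c3 5 6 7 : Perm (Fin 9)) ^ 5 = 1 ∧
    (c3 3 4 5 * c3 5 6 7 : Perm (Fin 9)) * c3 0 1 2 * (c3 3 4 5 * c3 5 6 7)⁻¹ = c3 0 1 2 ∧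
    (c3 3 4 5 * c3 5 6 7 : Perm (Fin 9)) ≠ 1 := by decide

variable {G : Type*} [Group G] [Finite G]

/-- The normaliser of a cyclic subgroup. -/
abbrev NZ (α : G) : Subgroup G := normalizer (zpowers α : Set G)

/-- A chart. -/
structure Ch0 (α : G) (p : G → Perm (Fin 9)) (ψ : A9 →* G) : Prop where
  a3 : orderOf α = 3
  mul : ∀ x ∈ NZ α, ∀ y ∈ NZ α, p (x * y) = p x * p y
  surj : ∀ σ, ∃ n ∈ NZ α, p n = σ
  ker : ∀ n ∈ NZ α, p n = 1 ↔ n ∈ zpowers α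
  even : ∀ n ∈ NZ α, sign (p n) = 1 ↔ n * α = α * n
  ψa : ∀ σ, ψ σ * α = α * ψ σ
  pψ : ∀ σ, p (ψ σ) = σ.1

namespace Ch0

variable {α : G} {p : G → Perm (Fin 9)} {ψ : A9 →* G} (h : Ch0 α p ψ)
include h

theorem Ra {x : G} (hx : x ∈ ψ.range) : x * α = α * x := by
  obtain ⟨σ, rfl⟩ := hx
  exact h.ψa σ

theorem mN {x : G} (hx : x ∈ ψ.range) : x ∈ NZ α := mem_nz_of_comm (h.Ra hx)

theorem one : p 1 = 1 := (h.ker 1 (one_mem _)).2 (one_mem _)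

theorem inv {x : G} (hx : x ∈ NZ α) : p x⁻¹ = (p x)⁻¹ := by
  rw [eq_inv_iff_mul_eq_one, ← h.mul _ (inv_mem hx) _ hx, inv_mul_cancel, h.one]

theorem pow {x : G} (hx : x ∈ NZ α) (n : ℕ) : p (x ^ n) = p x ^ n := by
  induction n with
  | zero => simpa using h.one
  | succ n ih => rw [pow_succ, h.mul _ (pow_mem hx n) _ hx, ih, pow_succ]

theorem cj {x y : G} (hx : x ∈ NZ α) (hy : y ∈ NZ α) :
    p (x * y * x⁻¹) = p x * p y * (p x)⁻¹ := by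
  rw [h.mul _ (mul_mem hx hy) _ (inv_mem hx), h.mul _ hx _ hy, h.inv hx]

theorem comm {x y : G} (hx : x ∈ NZ α) (hy : y ∈ NZ α) (e : x * y = y * x) :
    p x * p y = p y * p x := by rw [← h.mul _ hx _ hy, e, h.mul _ hy _ hx]

theorem ext {x y : G} (hx : x ∈ ψ.range) (hy : y ∈ ψ.range) (e : p x = p y) : x = y := by
  obtain ⟨σ, rfl⟩ := hx
  obtain ⟨τ, rfl⟩ := hy
  rw [h.pψ, h.pψ] at e
  rw [Subtype.ext e]

theorem inj : Function.Injective ψ := fun σ τ e =>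
  Subtype.ext (by rw [← h.pψ, ← h.pψ, e])

theorem a_cube : α ^ 3 = 1 := h.a3 ▸ pow_orderOf_eq_one α

theorem zp_cube {c : G} (hc : c ∈ zpowers α) : c ^ 3 = 1 := by
  obtain ⟨k, rfl⟩ := hc
  change (α ^ k) ^ 3 = 1
  rw [← zpow_natCast, ← zpow_mul, mul_comm, zpow_mul, zpow_natCast, h.a_cube, one_zpow]

theorem a_ne : α ≠ 1 := fun e => by have := h.a3; rw [e, orderOf_one] at this; omega

theorem eq_one {c : G} (hc : c ∈ zpowers α) (hr : c ∈ ψ.range) : c = 1 :=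
  h.ext hr (one_mem _) (by rw [h.one, h.ker _ (h.mN hr)]; exact hc)

theorem dec {g : G} (hg : g * α = α * g) : ∃ c ∈ zpowers α, ∃ y ∈ ψ.range, g = c * y := by
  have hN := mem_nz_of_comm hg
  let σ : A9 := ⟨p g, (h.even g hN).2 hg⟩
  have hy : ψ σ ∈ ψ.range := ⟨σ, rfl⟩
  refine ⟨g * (ψ σ)⁻¹, ?_, ψ σ, hy, by group⟩
  rw [← h.ker _ (mul_mem hN (inv_mem (h.mN hy))), h.mul _ hN _ (inv_mem (h.mN hy)),
    h.inv (h.mN hy), h.pψ, mul_inv_cancel]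

theorem of_cop {g : G} (hg : g * α = α * g) {k : ℕ} (hk : g ^ k = 1) (h3 : Nat.gcd k 3 = 1) :
    g ∈ ψ.range := by
  obtain ⟨c, hc, y, hy, rfl⟩ := h.dec hg
  have e : Commute c y := (comm_zp (h.Ra hy) hc).symm
  rw [e.mul_pow] at hk
  have h1 : c ^ k = 1 := h.eq_one (pow_mem hc k) (by
    rw [eq_inv_of_mul_eq_one_left hk]; exact inv_mem (pow_mem hy k))
  have := pow_gcd_eq_one.2 ⟨h1, h.zp_cube hc⟩
  rw [h3, pow_one] at this
  rw [this, one_mul]; exact hy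

theorem of_sq {g : G} (hg : g * α = α * g) (hk : g * g = 1) : g ∈ ψ.range :=
  h.of_cop hg (k := 2) (by rw [pow_two, hk]) rfl

theorem cent_cj {n g : G} (hn : n ∈ NZ α) (hg : g * α = α * g) :
    n * g * n⁻¹ * α = α * (n * g * n⁻¹) := by
  have := comm_zp hg (conj_zp (inv_mem hn) (mem_zpowers α))
  calc n * g * n⁻¹ * α = n * (g * (n⁻¹ * α * n⁻¹⁻¹)) * n⁻¹ := by group
    _ = _ := by rw [this]; group

theorem nrm {n x : G} (hn : n ∈ NZ α) (hx : x ∈ ψ.range) : n * x * n⁻¹ ∈ ψ.range := by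
  obtain ⟨σ, rfl⟩ := hx
  have key : ∀ u : A9, u * u = 1 → u ∈ ψ.range.comap ((MulAut.conj n).toMonoidHom.comp ψ) :=
    fun u hu => h.of_sq (h.cent_cj hn (h.ψa u)) (by
      change n * ψ u * n⁻¹ * (n * ψ u * n⁻¹) = 1
      rw [conj_mul, ← map_mul, hu]; simp)
  have h1 : ∀ i : Fin 9, i ≠ 0 → i ≠ 1 → ∃ j : Fin 9, ∃ k : Fin 9,
      [i, 0, 1, j, k].Nodup := by decide
  refine HN.map_mem_of_ac3 (α := (0 : Fin 9)) (β := 1) (by decide)
    ((MulAut.conj n).toMonoidHom.comp ψ) (fun i i0 i1 => ?_) σ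
  obtain ⟨j, k, hjk⟩ := h1 i i0 i1
  simp only [List.nodup_cons, List.mem_cons, List.not_mem_nil, or_false, not_or, List.nodup_nil,
    and_true, not_false_eq_true] at hjk
  have n1 : [i, 1, j, k].Nodup := by rw [AltC.Bld.nodup4]; tauto
  have n2 : [i, 0, j, k].Nodup := by rw [AltC.Bld.nodup4]; tauto
  have := mul_mem (key ⟨_, AltC.Bld.sign_dt n1⟩ (Subtype.ext (AltC.Bld.dt_sq n1)))
    (key ⟨_, AltC.Bld.sign_dt n2⟩ (Subtype.ext (AltC.Bld.dt_sq n2)))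
  convert this using 1
  refine iff_of_eq (congrArg (fun s : A9 => s ∈ ψ.range.comap _) (Subtype.ext ?_))
  change c3 i 0 1 = swap i 1 * swap j k * (swap i 0 * swap j k)
  rw [AltC.Bld.dt_comm n2, mul_assoc, swap_mul_self_mul]; rfl

theorem odd {n : G} (e : n * α * n⁻¹ = α⁻¹) : n ∈ NZ α ∧ sign (p n) ≠ 1 := by
  have hn : n ∈ NZ α := mem_nz (e ▸ inv_mem (mem_zpowers α))
  refine ⟨hn, fun hs => h.a_ne ?_⟩
  rw [(h.even n hn).1 hs, mul_inv_cancel_right] at e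
  have := h.a_cube
  rwa [pow_three, show α * α = 1 from mul_eq_one_iff_eq_inv.2 e, mul_one] at this

theorem conj (g : G) : Ch0 (g * α * g⁻¹) (fun x => p (g⁻¹ * x * g))
    ((MulAut.conj g).toMonoidHom.comp ψ) := by
  have hz : ∀ x, x ∈ zpowers (g * α * g⁻¹) ↔ g⁻¹ * x * g ∈ zpowers α := fun x => by
    constructor
    · rintro ⟨k, rfl⟩
      exact ⟨k, by simp only [conj_zpow]; group⟩
    · rintro ⟨k, hk⟩
      exact ⟨k, by simp only [conj_zpow] at hk ⊢; rw [hk]; group⟩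
  have hN : ∀ x, x ∈ NZ (g * α * g⁻¹) ↔ g⁻¹ * x * g ∈ NZ α := fun x => by
    constructor
    · intro hx
      refine mem_nz ?_
      have := (hz _).1 (conj_zp hx (mem_zpowers _))
      convert this using 1
      group
    · intro hx
      refine mem_nz ((hz _).2 ?_)
      have := conj_zp hx (mem_zpowers α)
      convert this using 1
      group
  refine ⟨?_, fun x hx y hy => ?_, fun σ => ?_, fun n hn => ?_, fun n hn => ?_, fun σ => ?_,
    fun σ => ?_⟩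
  · rw [← h.a3]; exact (orderOf_injective (MulAut.conj g).toMonoidHom (MulAut.conj g).injective α)
  · rw [← h.mul _ ((hN _).1 hx) _ ((hN _).1 hy)]; congr 1; group
  · obtain ⟨n, hn, e⟩ := h.surj σ
    exact ⟨g * n * g⁻¹, (hN _).2 (by simpa [mul_assoc] using hn), by simpa [mul_assoc] using e⟩
  · rw [h.ker _ ((hN _).1 hn), hz]
  · rw [h.even _ ((hN _).1 hn)]
    constructor
    · intro e
      calc n * (g * α * g⁻¹) = g * (g⁻¹ * n * g * α) * g⁻¹ := by group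
        _ = _ := by rw [e]; group
    · intro e
      calc g⁻¹ * n * g * α = g⁻¹ * (n * (g * α * g⁻¹)) * g := by group
        _ = _ := by rw [e]; group
  · change g * ψ σ * g⁻¹ * _ = _ * (g * ψ σ * g⁻¹)
    rw [conj_mul, conj_mul, h.ψa]
  · change p (g⁻¹ * (g * ψ σ * g⁻¹) * g) = _
    rw [← h.pψ]; congr 1; group

theorem fix_cj {n y : G} (hn : n ∈ NZ α) (hy : y ∈ ψ.range)
    (e : p n * p y * (p n)⁻¹ = p y) : n * y = y * n := by
  have := h.ext (h.nrm hn hy) hy (by rw [h.cj hn (h.mN hy), e])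
  exact mul_inv_eq_iff_eq_mul.1 this

theorem inv_cj {n y : G} (hn : n ∈ NZ α) (hy : y ∈ ψ.range)
    (e : p n * p y * (p n)⁻¹ = (p y)⁻¹) : n * y * n⁻¹ = y⁻¹ :=
  h.ext (h.nrm hn hy) (inv_mem hy) (by rw [h.cj hn (h.mN hy), e, h.inv (h.mN hy)])

/-- If `β` is a three-cycle for `α` then `α` is a three-cycle for `β`. -/
theorem tri {β : G} {p' : G → Perm (Fin 9)} {ψ' : A9 →* G} (h' : Ch0 β p' ψ')
    (hβ : β ∈ ψ.range) (h3 : (p β).IsThreeCycle) : α ∈ ψ'.range ∧ (p' α).IsThreeCycle := by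
  obtain ⟨g, hg⟩ := exists_label h3
  obtain ⟨n, hn, e⟩ := h.surj (g * swap 3 4 * g⁻¹)
  have n1 : n * β = β * n := h.fix_cj hn hβ (by
    rw [e, ← hg, conj_inv, conj_mul, conj_mul]
    congr 2
    decide)
  have n2 : n * α * n⁻¹ = α⁻¹ := (nz_cases h.a3 hn).resolve_left fun hc => by
    have := (h.even n hn).2 hc
    rw [e, map_mul, map_mul, map_inv, mul_right_comm, mul_inv_cancel, one_mul] at this
    exact absurd this (by decide)
  have hαβ : α * β = β * α := (h.Ra hβ).symm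
  have hα : α ∈ ψ'.range := by
    obtain ⟨c, hc, y, hy, rfl⟩ := h'.dec hαβ
    have h1 : n * c * n⁻¹ = c := by rw [comm_zp n1 hc]; group
    have h2 : c * y = y * c := (comm_zp (h'.Ra hy) hc).symm
    have h4 : c * c = y⁻¹ * (n * y * n⁻¹)⁻¹ := by
      rw [← conj_mul, h1, h2, mul_inv_rev] at n2
      have : n * y * n⁻¹ = c⁻¹ * c⁻¹ * y⁻¹ := by rw [mul_assoc c⁻¹, ← n2]; group
      rw [this]; simp only [mul_inv_rev, inv_inv, inv_mul_cancel_left]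
    have h5 := h'.eq_one (mul_mem hc hc)
      (h4 ▸ mul_mem (inv_mem hy) (inv_mem (h'.nrm (mem_nz_of_comm n1) hy)))
    have h6 := h'.zp_cube hc
    rw [pow_three, h5, mul_one] at h6
    rw [h6, one_mul]; exact hy
  refine ⟨hα, ?_⟩
  obtain ⟨ε, hε⟩ : ∃ ε : A9, ε.1 = g * (c3 3 4 5 * c3 5 6 7) * g⁻¹ :=
    ⟨MulAut.conjNormal g ⟨c3 3 4 5 * c3 5 6 7, mem_alternatingGroup.2 (by decide)⟩, rfl⟩
  have e5 : ψ ε ^ 5 = 1 := by
    rw [← map_pow, show ε ^ 5 = 1 from Subtype.ext (by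
      rw [Subgroup.coe_pow, hε, conj_pow, five5.1]; simp), map_one]
  have e1 : ψ ε * β = β * ψ ε := h.fix_cj (h.mN ⟨_, rfl⟩) hβ (by
    rw [h.pψ, hε, ← hg, conj_inv, conj_mul, conj_mul, five5.2.1])
  have e2 := h'.of_cop e1 e5 rfl
  refine three_of_five (ε := p' (ψ ε)) (by rw [← h'.pow (h'.mN hα), h.a_cube, h'.one])
    (fun e => h.a_ne (h'.ext hα (one_mem _) (e.trans h'.one.symm)))
    (by rw [← h'.pow (h'.mN e2), e5, h'.one]) (fun e => ?_)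
    (h'.comm (h'.mN hα) (h'.mN e2) (h.ψa ε).symm)
  have := congrArg Subtype.val
    (h.inj ((h'.ext e2 (one_mem _) (e.trans h'.one.symm)).trans ψ.map_one.symm))
  rw [hε, Subgroup.coe_one, conj_eq_one_iff] at this
  exact five5.2.2 this

/-- The Carmichael generators in a chart. -/
theorem carm {τ γ x : G} {P Q m : Fin 9} (hτ : τ ∈ NZ α) (pτ : p τ = swap P Q) (hPQ : P ≠ Q)
    (hγ : γ ∈ ψ.range) (pγ : p γ = c3 m P Q) (hP : m ≠ P) (hQ : m ≠ Q) (xa : x * α = α * x)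
    (x3 : x ^ 3 = 1) (x2 : (x * γ) ^ 2 = 1) (x1 : x * γ ≠ 1) (xτ : τ * x * τ⁻¹ = x⁻¹) :
    x ∈ ψ.range ∧ ∃ i, i ≠ P ∧ i ≠ Q ∧ p x = c3 i P Q := by
  have h1 : x * γ ∈ ψ.range := h.of_cop (by rw [mul_assoc, h.Ra hγ, ← mul_assoc, xa, mul_assoc])
    x2 rfl
  have hx : x ∈ ψ.range := by simpa using mul_mem h1 (inv_mem hγ)
  have h2 : (p x * c3 m P Q) ^ 2 = 1 := by
    rw [← pγ, ← h.mul _ (h.mN hx) _ (h.mN hγ), ← h.pow (h.mN h1), x2, h.one]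
  have h3 : p x * c3 m P Q ≠ 1 := fun e => x1 (h.ext h1 (one_mem _) (by
    rw [h.mul _ (h.mN hx) _ (h.mN hγ), pγ, e, h.one]))
  have h4 : p x ≠ 1 := fun e => by
    rw [e, one_mul] at h2 h3
    have := c3_pow_three hP hQ hPQ
    rw [pow_succ, h2, one_mul] at this
    exact h3 this
  obtain ⟨i, i1, i2, e⟩ := AltC.Bld.c3_of_inv (ξ := p x) hPQ
    (by rw [← h.pow (h.mN hx), x3, h.one]) h4 (by
      rw [← h.inv (h.mN hx), ← xτ, h.cj hτ (h.mN hx), pτ, swap_inv])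
  refine ⟨hx, i, i1, i2, e.resolve_right fun e => ?_⟩
  rw [e] at h2 h3
  by_cases hi : i = m
  · exact h3 (by rw [hi, ← c3_inv, inv_mul_cancel])
  · have := congrArg (fun f : Perm (Fin 9) => f m) h2
    simp only [pow_two, c3, Perm.mul_apply, swap_apply_def, Perm.one_apply] at this
    grind

theorem rel {x y : G} {P Q i j : Fin 9} (hPQ : P ≠ Q) (hx : x ∈ ψ.range) (hy : y ∈ ψ.range)
    (i1 : i ≠ P) (i2 : i ≠ Q) (j1 : j ≠ P) (j2 : j ≠ Q) (px : p x = c3 i P Q)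
    (py : p y = c3 j P Q) (hne : x ≠ y) : (x * y) ^ 2 = 1 := by
  have hij : i ≠ j := fun e => hne (h.ext hx hy (by rw [px, py, e]))
  refine h.ext (pow_mem (mul_mem hx hy) 2) (one_mem _) ?_
  rw [h.pow (h.mN (mul_mem hx hy)), h.mul _ (h.mN hx) _ (h.mN hy), px, py, h.one]
  exact c3_mul_sq i1 i2 hPQ j1 j2 hij

end Ch0

/-- A chart knowing the class of the elements of cycle type `3³`. -/
structure Ch (z α : G) (p : G → Perm (Fin 9)) (ψ : A9 →* G) : Prop extends Ch0 α p ψ where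
  hz : ∀ x ∈ ψ.range, IsConj z9 (p x) → IsConj z x

namespace Ch

variable {z α : G} {p : G → Perm (Fin 9)} {ψ : A9 →* G} (h : Ch z α p ψ)
include h

theorem conj (g : G) : Ch z (g * α * g⁻¹) (fun x => p (g⁻¹ * x * g))
    ((MulAut.conj g).toMonoidHom.comp ψ) :=
  ⟨h.toCh0.conj g, by
    rintro _ ⟨σ, rfl⟩ e
    change IsConj z9 (p (g⁻¹ * (g * ψ σ * g⁻¹) * g)) at e
    rw [show g⁻¹ * (g * ψ σ * g⁻¹) * g = ψ σ by group] at e
    exact (h.hz _ ⟨σ, rfl⟩ e).trans (isConj_iff.2 ⟨g, rfl⟩)⟩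

theorem exists_of {β : G} (e : IsConj α β) : ∃ p' ψ', Ch z β p' ψ' := by
  obtain ⟨g, rfl⟩ := isConj_iff.1 e
  exact ⟨_, _, h.conj g⟩

theorem frame {a u v τ : G} (ha : a ∈ ψ.range) (a3 : (p a).IsThreeCycle) (uu : u * u = 1)
    (vv : v * v = 1) (uα : u * α = α * u) (vα : v * α = α * v) (ua : u * a = a * u)
    (va : v * a = a * v) (γ3 : (u * v) ^ 3 = 1) (γ1 : u * v ≠ 1) (hz : ¬ IsConj z (a * (u * v)))
    (ττ : τ * τ = 1) (τα : τ * α * τ⁻¹ = α⁻¹) (τa : τ * a = a * τ)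
    (τγ : τ * (u * v) * τ⁻¹ = (u * v)⁻¹) :
    u * v ∈ ψ.range ∧ ∃ P Q m, P ≠ Q ∧ m ≠ P ∧ m ≠ Q ∧ p τ = swap P Q ∧ p (u * v) = c3 m P Q ∧
      p a P = P ∧ p a Q = Q ∧ p a m = m := by
  have hu := h.of_sq uα uu
  have hv := h.of_sq vα vv
  have hγ := mul_mem hu hv
  have hs : ∀ w ∈ NZ α, w * w = 1 → p w * p w = 1 := fun w hw e => by
    rw [← h.mul _ hw _ hw, e, h.one]
  have hd : ∀ x, p a x ≠ x → p (u * v) x = x := fun x hx => by
    rw [h.mul _ (h.mN hu) _ (h.mN hv), Perm.mul_apply,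
      fix_of_comm a3 (hs v (h.mN hv) vv) (h.comm (h.mN hv) (h.mN ha) va) hx,
      fix_of_comm a3 (hs u (h.mN hu) uu) (h.comm (h.mN hu) (h.mN ha) ua) hx]
  have p3 : p (u * v) ^ 3 = 1 := by rw [← h.pow (h.mN hγ), γ3, h.one]
  have p1 : p (u * v) ≠ 1 := fun e => γ1 (h.ext hγ (one_mem _) (e.trans h.one.symm))
  have h3 := (three_or a3 p3 p1 hd).resolve_right fun e =>
    hz (h.hz _ (mul_mem ha hγ) (by rwa [h.mul _ (h.mN ha) _ (h.mN hγ)]))
  obtain ⟨hτ, sτ⟩ := h.odd τα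
  have hi : p τ * p (u * v) * (p τ)⁻¹ = (p (u * v))⁻¹ := by
    rw [← h.cj hτ (h.mN hγ), τγ, h.inv (h.mN hγ)]
  obtain ⟨P, Q, hPQ, e⟩ := swap_of a3 h3 hd (hs τ hτ ττ) sτ (h.comm hτ (h.mN ha) τa) hi
  rw [e, swap_inv] at hi
  have key : ∀ P Q m : Fin 9, P ≠ Q → m ≠ P → m ≠ Q → p (u * v) = c3 m P Q →
      p a P = P ∧ p a Q = Q ∧ p a m = m := fun P Q m h1 h2 h3 h4 => by
    refine ⟨by_contra fun e => h1 ?_, by_contra fun e => h3 ?_, by_contra fun e => h2 ?_⟩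
    · rw [← hd _ e, h4, c3_apply_two]
    · rw [← hd _ e, h4, c3_apply_three h3 h1]
    · rw [← hd _ e, h4, c3_apply_one h2 h1]
  obtain ⟨m, m1, m2, e' | e'⟩ := AltC.Bld.c3_of_inv hPQ p3 p1 hi
  · exact ⟨hγ, P, Q, m, hPQ, m1, m2, e, e', key _ _ _ hPQ m1 m2 e'⟩
  · exact ⟨hγ, Q, P, m, hPQ.symm, m2, m1, e.trans (swap_comm _ _), e', key _ _ _ hPQ.symm m2 m1 e'⟩

end Ch

end Cfsg.Lib.HN3.Glue
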