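import Cfsg.Agent.HN3.FinDefs
import Cfsg.Agent.AltC.EndPerm

/-!
Permutation lemmas for the gluing of the alternating group of degree twelve.
-/

set_option autoImplicit false

namespace Cfsg.Lib.HN3.Glue

open Subgroup Equiv Equiv.Perm Cfsg.Lib.Known

section

variable {Ω : Type*} [Fintype Ω] [DecidableEq Ω]

theorem cube3 {A : Perm Ω} (hA : A.IsThreeCycle) : A ^ 3 = 1 := by
  rw [← hA.orderOf, pow_orderOf_eq_one]

/-- An involution commuting with a three-cycle fixes its support. -/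
theorem fix_of_comm {u A : Perm Ω} (hA : A.IsThreeCycle) (hu : u * u = 1) (h : u * A = A * u)
    {x : Ω} (hx : A x ≠ x) : u x = x := by
  have h1 : A (u x) ≠ u x := fun e => hx (u.injective (by
    rw [← Perm.mul_apply, h, Perm.mul_apply, e]))
  obtain ⟨i, hi⟩ := hA.isCycle.exists_pow_eq hx h1
  have hc : Commute u (A ^ i) := Commute.pow_right h i
  have h2 : (A ^ i) ((A ^ i) x) = x := by
    rw [hi, ← Perm.mul_apply, ← hc.eq, Perm.mul_apply, hi, ← Perm.mul_apply, hu, Perm.one_apply]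
  have h3 : (A ^ i) ^ 3 = 1 := by rw [← pow_mul, mul_comm, pow_mul, cube3 hA, one_pow]
  have h4 := congrArg (fun f : Perm Ω => f x) h3
  simp only [pow_three, Perm.mul_apply, h2, Perm.one_apply] at h4
  rw [← hi, h4]

/-- An element inverting a three-cycle fixes a point of its support. -/
theorem fix_of_inv {u C : Perm Ω} (hC : C.IsThreeCycle) (h : u * C * u⁻¹ = C⁻¹) :
    ∃ x, C x ≠ x ∧ u x = x := by
  obtain ⟨x, hx⟩ : ∃ x, C x ≠ x := by
    by_contra hn
    push Not at hn
    exact hC.ne_one (Equiv.ext hn)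
  have h0 : C * u * C = u := by
    rw [mul_assoc, show u * C = C⁻¹ * u by rw [← h]; group]; group
  have h1 : C (u x) ≠ u x := fun e => hx (u.injective (C.injective (by
    rw [e, ← Perm.mul_apply, ← Perm.mul_apply, h0])))
  obtain ⟨i, hi⟩ := hC.isCycle.exists_pow_eq hx h1
  have h2 : u * C ^ (2 * i) = (C ^ (2 * i))⁻¹ * u := by
    rw [← inv_pow, ← h, conj_pow]; group
  have h3 : C ^ (2 * i) * C ^ (2 * i) = C ^ i := by
    rw [← pow_add, show 2 * i + 2 * i = 3 * i + i by ring, pow_add, pow_mul, cube3 hC, one_pow,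
      one_mul]
  refine ⟨(C ^ (2 * i)) x, fun e => hx ((C ^ (2 * i)).injective ?_), ?_⟩
  · rw [← Perm.mul_apply, ← pow_succ, pow_succ', Perm.mul_apply, e]
  · rw [← Perm.mul_apply, h2, Perm.mul_apply, ← hi, ← h3, Perm.mul_apply]
    simp

theorem supp_prime {σ : Perm Ω} {p : ℕ} (hp : p.Prime) (h : σ ^ p = 1) (h1 : σ ≠ 1) :
    ∃ n, σ.cycleType = Multiset.replicate (n + 1) p ∧ σ.support.card = (n + 1) * p := by
  have := Fact.mk hp
  have ho : orderOf σ = p := orderOf_eq_prime h h1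
  obtain ⟨n, hn⟩ := cycleType_prime_order (σ := σ) (ho ▸ hp)
  rw [ho] at hn
  exact ⟨n, hn, by rw [← sum_cycleType, hn, Multiset.sum_replicate, smul_eq_mul]⟩

theorem isSwap_of {τ : Perm Ω} (h2 : τ * τ = 1) (hs : sign τ ≠ 1) (hc : τ.support.card ≤ 5) :
    τ.IsSwap := by
  obtain ⟨n, h1, h3⟩ := supp_prime Nat.prime_two (by rw [pow_two, h2]) (fun e => hs (by simp [e]))
  have : n = 0 ∨ n = 1 := by omega
  rcases this with rfl | rfl
  · exact card_support_eq_two.1 h3
  · exact absurd (by rw [sign_of_cycleType, h1]; decide) hs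

theorem conj_of_supp {σ τ : Perm Ω} (h1 : σ ^ 3 = 1) (h2 : τ ^ 3 = 1) (h3 : σ ≠ 1)
    (h : σ.support.card = τ.support.card) : IsConj σ τ := by
  obtain ⟨n, e1, e2⟩ := supp_prime Nat.prime_three h1 h3
  obtain ⟨m, f1, f2⟩ := supp_prime Nat.prime_three h2 (fun e => by
    rw [e2, e] at h; simp at h)
  have : n = m := by omega
  rw [isConj_iff_cycleType_eq, e1, f1, this]

omit [Fintype Ω] in
theorem c3_word {i j k p q : Ω} (h : [i, j, k, p, q].Nodup) :
    c3 j i k = (c3 k p q)⁻¹ * (c3 i p q * (c3 j p q)⁻¹) * c3 k p q := by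
  simp only [List.nodup_cons, List.mem_cons, List.not_mem_nil, or_false, not_or, List.nodup_nil,
    and_true, not_false_eq_true] at h
  rw [c3_inv, c3_inv]
  ext x
  simp only [c3, Perm.mul_apply, swap_apply_def]
  grind

theorem three_c3 {i j k : Ω} (h1 : i ≠ j) (h2 : i ≠ k) (h3 : j ≠ k) : (c3 i j k).IsThreeCycle :=
  isThreeCycle_swap_mul_swap_same h2 h1 h3.symm

end

theorem swap_of {τ A C : Perm (Fin 9)} (hA : A.IsThreeCycle) (hC : C.IsThreeCycle)
    (hd : ∀ x, A x ≠ x → C x = x) (h2 : τ * τ = 1) (hs : sign τ ≠ 1) (h1 : τ * A = A * τ)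
    (h3 : τ * C * τ⁻¹ = C⁻¹) : τ.IsSwap := by
  obtain ⟨y, hy, hy'⟩ := fix_of_inv hC h3
  refine isSwap_of h2 hs ?_
  have hn : y ∉ A.support := fun e => hy (hd y (mem_support.1 e))
  have hsub : τ.support ⊆ (insert y A.support)ᶜ := fun x hx => by
    rw [Finset.mem_compl, Finset.mem_insert]
    rintro (rfl | e)
    · exact mem_support.1 hx hy'
    · exact mem_support.1 hx (fix_of_comm hA h2 h1 (mem_support.1 e))
  have := Finset.card_le_card hsub
  rwa [Finset.card_compl, Finset.card_insert_of_notMem hn, hA.card_support] at this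

theorem three_of_five {σ ε : Perm (Fin 9)} (h3 : σ ^ 3 = 1) (h1 : σ ≠ 1) (h5 : ε ^ 5 = 1)
    (h1' : ε ≠ 1) (hc : Commute σ ε) : σ.IsThreeCycle := by
  have hd : Disjoint σ ε := fun x => by
    have hg : (σ * ε) ^ 15 = 1 := by
      rw [hc.mul_pow, show 15 = 3 * 5 from rfl, pow_mul, h3, mul_comm 3 5, pow_mul, h5]; simp
    have hp : ∀ n, Function.IsPeriodicPt (σ * ε) n x ↔ ((σ * ε) ^ n) x = x := fun n => by
      rw [Function.IsPeriodicPt, Function.IsFixedPt, Perm.iterate_eq_pow]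
    have h15 : Function.minimalPeriod (σ * ε) x ∣ 15 :=
      ((hp 15).2 (by rw [hg]; rfl)).minimalPeriod_dvd
    have h9 : Function.minimalPeriod (σ * ε) x ≤ 9 := Function.minimalPeriod_le_card.trans (by simp)
    have : Function.minimalPeriod (σ * ε) x ∣ 10 ∨ Function.minimalPeriod (σ * ε) x ∣ 6 := by
      generalize Function.minimalPeriod (σ * ε) x = n at h15 h9
      interval_cases n <;> simp_all
    rcases this with e | e
    · left
      have := (hp 10).1 (Function.isPeriodicPt_iff_minimalPeriod_dvd.2 e)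
      rwa [hc.mul_pow, show 10 = 3 * 3 + 1 from rfl, pow_succ σ, pow_mul, h3,
        show 3 * 3 + 1 = 5 * 2 from rfl, pow_mul, h5, one_pow, one_pow, one_mul, mul_one] at this
    · right
      have := (hp 6).1 (Function.isPeriodicPt_iff_minimalPeriod_dvd.2 e)
      rwa [hc.mul_pow, show 6 = 3 * 2 from rfl, pow_mul, h3,
        show 3 * 2 = 5 + 1 from rfl, pow_succ ε, h5, one_pow, one_mul, one_mul] at this
  obtain ⟨n, -, e2⟩ := supp_prime Nat.prime_three h3 h1
  obtain ⟨m, -, f2⟩ := supp_prime Nat.prime_five h5 h1'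
  have h9 : (σ * ε).support.card ≤ 9 := (Finset.card_le_univ _).trans (by simp)
  rw [hd.card_support_mul, e2, f2] at h9
  exact card_support_eq_three_iff.1 (by omega)

theorem three_or {A γ : Perm (Fin 9)} (hA : A.IsThreeCycle) (h3 : γ ^ 3 = 1) (h1 : γ ≠ 1)
    (hd : ∀ x, A x ≠ x → γ x = x) : γ.IsThreeCycle ∨ IsConj z9 (A * γ) := by
  have hd' : Disjoint A γ := fun x => (em (A x = x)).imp_right (hd x)
  obtain ⟨n, -, e2⟩ := supp_prime Nat.prime_three h3 h1
  have h9 : (A * γ).support.card ≤ 9 := (Finset.card_le_univ _).trans (by simp)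
  have hs := hd'.card_support_mul
  rw [hA.card_support, e2] at hs
  have : n = 0 ∨ n = 1 := by omega
  rcases this with rfl | rfl
  · exact .inl (card_support_eq_three_iff.1 e2)
  · refine .inr (conj_of_supp (by decide) ?_ (by decide) (by rw [hs]; decide))
    rw [hd'.commute.mul_pow, cube3 hA, h3, one_mul]

theorem exists_label {A : Perm (Fin 9)} (hA : A.IsThreeCycle) :
    ∃ g : Perm (Fin 9), g * c3 0 1 2 * g⁻¹ = A :=
  isConj_iff.1 (isConj_iff_cycleType_eq.2
    ((three_c3 (i := (0 : Fin 9)) (j := 1) (k := 2) (by decide) (by decide) (by decide)).trans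
      hA.symm))

end Cfsg.Lib.HN3.Glue
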