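import Cfsg.Agent.HN3.BaseB

/-!
Involutions and elementary abelian subgroups of a wreath product `A₅ ≀ 2`.
-/

set_option autoImplicit false

namespace Cfsg.Lib.HN3.F1

open Subgroup Cfsg.Lib.Perm Cfsg.Lib.Mc3

theorem conj4 : ∀ x : SL25, x * x = -1 → ∃ c : SL25, c * x * c⁻¹ = f5 := by
  simp only [forall_sl2, exists_sl2]
  decide +kernel

theorem conj44 {x y : SL25} (hx : x * x = -1) (hy : y * y = -1) : ∃ c, c * x * c⁻¹ = y := by
  obtain ⟨c, hc⟩ := conj4 x hx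
  obtain ⟨d, hd⟩ := conj4 y hy
  exact ⟨d⁻¹ * c, by rw [← mul_left_inj d⁻¹, ← mul_right_inj d, ← mul_assoc d y, hd, ← hc]; group⟩

/-- The central elements. -/
abbrev Pm (x : SL25) : Prop := x = 1 ∨ x = -1

theorem pm_conj {c x : SL25} (h : Pm (c⁻¹ * x * c)) : Pm x :=
  h.imp (fun e => by rw [show x = c * (c⁻¹ * x * c) * c⁻¹ by group, e]; simp) fun e => by
    rw [show x = c * (c⁻¹ * x * c) * c⁻¹ by group, e]; simp

theorem not_pm_s : ¬ Pm s5 := by decide +kernel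
theorem not_pm_ss : ¬ Pm (s5 * s5) := by decide +kernel
theorem fs_sq : f5⁻¹ * s5 * (f5⁻¹ * s5) = -1 := by decide +kernel

theorem no8 : ∀ x : SL25, x * x * (x * x) ≠ -1 := by
  simp only [forall_sl2]
  decide +kernel

theorem sq_of {x : SL25} (h : Pm (x * x)) (h' : ¬ Pm x) : x * x = -1 :=
  h.resolve_left fun e => h' (SL25_sq x e)

theorem card_map_mul {A B : Type*} [Group A] [Group B] (f : A →* B) (K : Subgroup A) :
    Nat.card (K.map f) * Nat.card (f.ker ⊓ K : Subgroup A) = Nat.card K := by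
  rw [← relIndex_ker, ← inf_relIndex_right, relIndex, mul_comm,
    ← Nat.card_congr (subgroupOfEquivOfLe (inf_le_right : f.ker ⊓ K ≤ K)).toEquiv, card_mul_index]

theorem card_split {A B C : Type*} [Group A] [Group B] [Group C] (f : A →* B) (i : C →* A)
    (hi : Function.Injective i) (h : i.range = f.ker) (K : Subgroup A) :
    Nat.card (K.map f) * Nat.card (K.comap i) = Nat.card K := by
  rw [← card_map_mul f K, ← h, ← map_comap_eq, card_map_of_injective hi]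

theorem card_le8 {K : Subgroup SL25} (h : ∀ x ∈ K, Pm (x * x)) : Nat.card K ≤ 8 := by
  obtain ⟨n, hn⟩ := (IsPGroup.iff_card (p := 2) (G := K)).1 fun x => ⟨2, Subtype.ext (by
    rw [coe_pow, pow_two 2, pow_mul, sq, sq]
    rcases h x x.2 with e | e <;> simp [e])⟩
  have := card_subgroup_dvd_card K
  rw [card_SL25, hn] at this
  exact hn ▸ Nat.le_of_dvd (by decide)
    ((Nat.Coprime.pow_left n (by decide : Nat.Coprime 2 15)).dvd_of_dvd_mul_right this)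

theorem card_z : Nat.card (zpowers (-1 : SL25)) = 2 := by
  rw [Nat.card_zpowers, orderOf_eq_prime (p := 2) (by simp) SL25_neg_one_ne]

theorem exists_four {K : Subgroup SL25} (h : ∀ x ∈ K, Pm (x * x)) (h2 : 2 < Nat.card K) :
    ∃ x ∈ K, x * x = -1 := by
  by_contra! h3
  refine h2.not_ge ((card_le_of_le fun x hx => (mem_zp2 (by simp)).2 ?_).trans card_z.le)
  exact by_contra fun e => h3 x hx (sq_of (h x hx) e)

variable {A : Type*} [Group A]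

/-- A wreath product of `A₅` with a group of order two, possibly degenerate. -/
structure SW (φ : SL25 × SL25 →* A) (x0 : A) : Prop where
  ker : ∀ x y, φ (x, y) = 1 ↔ Pm x ∧ Pm y
  gen : ∀ a, ∃ x y, a = φ (x, y) ∨ a = φ (x, y) * x0
  xx : x0 * x0 = 1
  sw : ∀ x, ∃ y, x0 * φ (x, 1) * x0⁻¹ = φ (1, y)
  sw' : ∀ y, ∃ x, x0 * φ (1, y) * x0⁻¹ = φ (x, 1)

theorem conj_phi (φ : SL25 × SL25 →* A) (c d x y : SL25) :
    φ (c, d) * φ (x, y) * (φ (c, d))⁻¹ = φ (c * x * c⁻¹, d * y * d⁻¹) := by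
  rw [← map_inv, ← map_mul, ← map_mul]; rfl

theorem split_phi (φ : SL25 × SL25 →* A) (x y : SL25) : φ (x, y) = φ (1, y) * φ (x, 1) := by
  rw [← map_mul]; simp

namespace SW

variable {φ : SL25 × SL25 →* A} {x0 : A} (h : SW φ x0)
include h

theorem odd {x y : SL25} (h2 : φ (x, y) * x0 * (φ (x, y) * x0) = 1) :
    φ (x, y) * x0 = φ (1, y) * x0 * (φ (1, y))⁻¹ := by
  obtain ⟨y', e⟩ := h.sw x
  obtain ⟨x', e'⟩ := h.sw' y
  have e1 : φ (x * x', y * y') = 1 := by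
    rw [← h2, show (x * x', y * y') = (x, y) * (x', 1) * (1, y') by simp, map_mul, map_mul, ← e,
      ← e', split_phi φ x y]
    simp [mul_assoc, inv_eq_of_mul_eq_one_right h.xx, ← mul_assoc x0 x0, h.xx]
  have e2 := (h.ker (x * x') 1).2 ⟨((h.ker _ _).1 e1).1, .inl rfl⟩
  rw [show (x * x', (1 : SL25)) = (x, 1) * (x', 1) by simp, map_mul, ← e'] at e2
  rw [split_phi, eq_inv_of_mul_eq_one_left e2]; group

theorem sq {x y : SL25} (h2 : φ (x, y) * φ (x, y) = 1) : Pm (x * x) ∧ Pm (y * y) :=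
  (h.ker _ _).1 (h2 ▸ map_mul φ (x, y) (x, y))

theorem cls {a : A} (h1 : a ≠ 1) (h2 : a * a = 1) {r1 r2 r3 r4 : SL25} (e1 : r1 * r1 = -1)
    (e2 : r2 * r2 = -1) (e3 : r3 * r3 = -1) (e4 : r4 * r4 = -1) : IsConj a (φ (r1, 1)) ∨
      IsConj a (φ (1, r2)) ∨ IsConj a (φ (r3, r4)) ∨ IsConj a x0 := by
  obtain ⟨x, y, rfl | rfl⟩ := h.gen a
  · have h3 := h.sq h2
    by_cases hx : Pm x <;> by_cases hy : Pm y
    · exact absurd ((h.ker x y).2 ⟨hx, hy⟩) h1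
    · obtain ⟨c, rfl⟩ := conj44 (sq_of h3.2 hy) e2
      refine .inr (.inl (isConj_iff.2 ⟨φ (1, c), ?_⟩))
      rw [split_phi φ x, (h.ker x 1).2 ⟨hx, .inl rfl⟩, mul_one, conj_phi]; simp
    · obtain ⟨c, rfl⟩ := conj44 (sq_of h3.1 hx) e1
      refine .inl (isConj_iff.2 ⟨φ (c, 1), ?_⟩)
      rw [split_phi φ x, (h.ker 1 y).2 ⟨.inl rfl, hy⟩, one_mul, conj_phi]; simp
    · obtain ⟨c, rfl⟩ := conj44 (sq_of h3.1 hx) e3
      obtain ⟨d, rfl⟩ := conj44 (sq_of h3.2 hy) e4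
      exact .inr (.inr (.inl (isConj_iff.2 ⟨_, conj_phi φ c d x y⟩)))
  · exact .inr (.inr (.inr (isConj_iff.2 ⟨_, (h.odd h2).symm⟩).symm))

theorem uform {u : A} (h0 : u * u = 1) (h1 : u * φ (s5, 1) * u⁻¹ * φ (s5, 1) = 1)
    (h2 : u * φ (1, s5) * u⁻¹ * φ (1, s5) = 1) :
    ∃ x y, x * x = -1 ∧ y * y = -1 ∧ u = φ (x, y) := by
  obtain ⟨x, y, rfl | rfl⟩ := h.gen u
  · rw [conj_phi, ← map_mul] at h1 h2
    have k : ∀ x : SL25, Pm (x * s5 * x⁻¹ * s5) → ¬ Pm x := by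
      rintro x e (rfl | rfl) <;> exact not_pm_ss (by simpa using e)
    exact ⟨x, y, sq_of (h.sq h0).1 (k x ((h.ker _ _).1 h1).1),
      sq_of (h.sq h0).2 (k y ((h.ker _ _).1 h2).2), rfl⟩
  · obtain ⟨y', e⟩ := h.sw s5
    rw [show φ (x, y) * x0 * φ (s5, 1) * (φ (x, y) * x0)⁻¹ =
      φ (x, y) * (x0 * φ (s5, 1) * x0⁻¹) * (φ (x, y))⁻¹ by group, e, conj_phi, ← map_mul] at h1
    exact absurd (by simpa using ((h.ker _ _).1 h1).1) not_pm_s

theorem big [Finite A] {E : Subgroup A} (h2 : ∀ d ∈ E, d * d = 1) (hc : 16 ≤ Nat.card E) :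
    Nat.card E ≤ 16 ∧ (∃ x, x * x = -1 ∧ φ (x, 1) ∈ E) ∧ ∃ y, y * y = -1 ∧ φ (1, y) ∈ E := by
  have c0 := card_map_mul φ (E.comap φ)
  have c1 := card_split (.fst SL25 SL25) (.inr _ _) (fun _ _ e => (Prod.ext_iff.1 e).2)
    (by ext ⟨x, y⟩; simp [eq_comm, mem_prod]) (E.comap φ)
  have c2 := card_split (.snd SL25 SL25) (.inl _ _) (fun _ _ e => (Prod.ext_iff.1 e).1)
    (by ext ⟨x, y⟩; simp [eq_comm, mem_prod]) (E.comap φ)
  have c3 : 2 * 2 ≤ Nat.card (φ.ker ⊓ E.comap φ : Subgroup _) := by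
    refine (congrArg₂ (· * ·) card_z card_z).ge.trans ?_
    rw [inf_eq_left.2 (ker_le_comap _ _), ← Nat.card_prod, ← Nat.card_congr (prodEquiv _ _).toEquiv]
    exact card_le_of_le fun p hp =>
      (h.ker p.1 p.2).2 ⟨(mem_zp2 (by simp)).1 hp.1, (mem_zp2 (by simp)).1 hp.2⟩
  have c4 : Nat.card E ≤ 2 * Nat.card (φ.range ⊓ E : Subgroup A) := by
    rw [← card_mul_index (φ.range.subgroupOf E), mul_comm, ← inf_subgroupOf_right,
      Nat.card_congr (subgroupOfEquivOfLe inf_le_right).toEquiv, inf_subgroupOf_right]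
    refine Nat.mul_le_mul_right _ ((relIndex_le_of_le_right le_top index_ne_zero_of_finite).trans ?_)
    rw [relIndex_top_right]
    refine Nat.le_of_dvd two_pos (index_dvd_two_iff.2 ⟨x0, fun b => ?_⟩)
    obtain ⟨x, y, rfl | rfl⟩ := h.gen b
    exacts [.inr ⟨_, rfl⟩, .inl ⟨(x, y), by rw [mul_assoc, h.xx, mul_one]⟩]
  rw [map_comap_eq] at c0
  have a1 : Nat.card ((E.comap φ).map (.fst SL25 SL25)) ≤ 8 :=
    card_le8 (by rintro _ ⟨⟨x, y⟩, hp, rfl⟩; exact (h.sq (h2 _ hp)).1)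
  have a2 : Nat.card ((E.comap φ).map (.snd SL25 SL25)) ≤ 8 :=
    card_le8 (by rintro _ ⟨⟨x, y⟩, hp, rfl⟩; exact (h.sq (h2 _ hp)).2)
  have b1 : ∀ y ∈ (E.comap φ).comap (.inr SL25 SL25), Pm (y * y) := fun y hy => (h.sq (h2 _ hy)).2
  have b2 : ∀ y ∈ (E.comap φ).comap (.inl SL25 SL25), Pm (y * y) := fun y hy => (h.sq (h2 _ hy)).1
  obtain ⟨y, hy, ey⟩ := exists_four b1 (by nlinarith)
  obtain ⟨x, hx, ex⟩ := exists_four b2 (by nlinarith)
  refine ⟨?_, ⟨x, ex, hx⟩, y, ey, hy⟩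
  have a3 := card_le8 b1
  suffices E ≤ φ.range by rw [inf_eq_right.2 this] at c0; nlinarith
  intro d hd
  obtain ⟨x', y', rfl | rfl⟩ := h.gen d
  · exact ⟨_, rfl⟩
  obtain ⟨x'', e⟩ := h.sw' (y'⁻¹ * y * y')
  have cm := h2 _ (mul_mem hd hy)
  rw [mul_eq_one_iff_eq_inv, mul_inv_rev, inv_eq_of_mul_eq_one_right (h2 _ hd),
    inv_eq_of_mul_eq_one_right (h2 _ hy), h.odd (h2 _ hd)] at cm
  have e3 : φ (1, y'⁻¹ * y * y') = (φ (1, y'))⁻¹ * φ (1, y) * φ (1, y') := by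
    rw [← map_inv, ← map_mul, ← map_mul]; simp
  have e2 : (φ (x'', 1))⁻¹ * φ (1, y'⁻¹ * y * y') = 1 := by
    rw [inv_mul_eq_one, ← e, e3, mul_inv_eq_iff_eq_mul, ← mul_left_inj (φ (1, y'))⁻¹,
      ← mul_right_inj (φ (1, y'))]
    simpa [mul_assoc] using cm
  rw [← map_inv, ← map_mul] at e2
  rcases pm_conj (by simpa using ((h.ker _ _).1 e2).2) with rfl | rfl
  exacts [absurd ey (by decide +kernel), absurd ey (by decide +kernel)]

end SW

end Cfsg.Lib.HN3.F1
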