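import Cfsg.Agent.HN3.Base
import Cfsg.Agent.HN3.InvA

/-!
The involutions of the normaliser of `Q` modulo `Q`, and weak closure of `Q`.
-/

set_option autoImplicit false
set_option linter.unusedSectionVars false

namespace Cfsg.Lib.HN3

open Subgroup Cfsg.Lib.Perm
open scoped commutatorElement

namespace F1

variable {G : Type*} [Group G] [Finite G] {D : TD G}

instance normalQ (D : TD G) : (D.Q.subgroupOf D.N).Normal := normal_in_normalizer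

/-- The projection to `N / Q`. -/
abbrev pr (D : TD G) : D.N →* D.N ⧸ D.Q.subgroupOf D.N := QuotientGroup.mk' _

theorem pr_eq {x y : D.N} : pr D x = pr D y ↔ (x : G) * (y : G)⁻¹ ∈ D.Q :=
  QuotientGroup.eq_iff_div_mem.trans (by rw [div_eq_mul_inv]; rfl)

theorem pr_one {x : D.N} : pr D x = 1 ↔ (x : G) ∈ D.Q := QuotientGroup.eq_one_iff x

theorem of_isConj {x y : D.N} (h : IsConj (pr D x) (pr D y)) :
    ∃ n ∈ D.N, n * x * n⁻¹ * (y : G)⁻¹ ∈ D.Q := by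
  obtain ⟨c, hc⟩ := isConj_iff.1 h
  obtain ⟨n, rfl⟩ := QuotientGroup.mk'_surjective _ c
  exact ⟨n, n.2, (pr_eq (x := n * x * n⁻¹)).1 (by rw [← hc, map_mul, map_mul, map_inv])⟩

theorem exists_sw (q : D.QD) (m : D.M0) : ∃ φ, SW φ (pr D ⟨D.x0, D.x0N⟩) ∧
    (∀ x y, φ (x, y) = pr D ⟨D.κ x * D.κ' y, mul_mem (q.nK x) (q.nK' y)⟩) ∧
    (∀ x, φ (x, 1) = pr D ⟨D.κ x, q.nK x⟩) ∧ ∀ y, φ (1, y) = pr D ⟨D.κ' y, q.nK' y⟩ := by
  obtain ⟨φ, h⟩ := q.exists_hom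
  have h1 : ∀ x, φ (x, 1) = pr D ⟨D.κ x, q.nK x⟩ := fun x =>
    (h x 1).trans (congrArg (pr D) (Subtype.ext (by simp)))
  have h2 : ∀ x, φ (1, x) = pr D ⟨D.κ' x, q.nK' x⟩ := fun x =>
    (h 1 x).trans (congrArg (pr D) (Subtype.ext (by simp)))
  refine ⟨φ, ⟨fun x y => ?_, fun a => ?_, ?_, fun x => ?_, fun x => ?_⟩, h, h1, h2⟩
  · rw [h]
    exact pr_one.trans ⟨q.inj, fun e =>
      mul_mem ((TD.κ_mem_Q q.comm).2 e.1) ((TD.κ'_mem_Q q.comm).2 e.2)⟩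
  · obtain ⟨n, rfl⟩ := QuotientGroup.mk'_surjective _ a
    obtain ⟨e, he, x, y, e1⟩ := m.gen n n.2
    refine ⟨x, y, e1.imp (fun e1 => ?_) fun e1 => ?_⟩
    · exact (pr_eq.2 (by simpa [e1, mul_assoc] using he)).trans (h x y).symm
    · rw [h]
      exact (pr_eq (y := ⟨_, mul_mem (q.nK x) (q.nK' y)⟩ * ⟨_, D.x0N⟩)).2
        (show (n : G) * _ ∈ _ by simpa [e1, mul_assoc] using he)
  · rw [← map_mul]
    exact pr_one.2 (D.xx ▸ one_mem D.Q :)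
  · obtain ⟨y, e⟩ := D.x0_κ x
    exact ⟨y, by rw [h1, h2, ← map_inv, ← map_mul, ← map_mul]; exact congrArg _ (Subtype.ext e)⟩
  · obtain ⟨y, e⟩ := D.x0_κ' x
    exact ⟨y, by rw [h1, h2, ← map_inv, ← map_mul, ← map_mul]; exact congrArg _ (Subtype.ext e)⟩

theorem u_form (q : D.QD) {φ : SL25 × SL25 →* _} (h : SW φ (pr D ⟨D.x0, D.x0N⟩))
    (h1 : ∀ x, φ (x, 1) = pr D ⟨D.κ x, q.nK x⟩) (h2 : ∀ y, φ (1, y) = pr D ⟨D.κ' y, q.nK' y⟩) :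
    ∃ x y, x * x = -1 ∧ y * y = -1 ∧ pr D ⟨D.u, D.uN⟩ = φ (x, y) := by
  refine h.uform ?_ ?_ ?_
  · rw [← map_mul]; exact pr_one.2 (D.uu ▸ one_mem D.Q :)
  · rw [h1, ← map_inv, ← map_mul, ← map_mul, ← map_mul]
    exact pr_one.2 (by simp [D.κs, D.us])
  · rw [h2, ← map_inv, ← map_mul, ← map_mul, ← map_mul]
    exact pr_one.2 (by simp [D.κ's, D.uz])

theorem cls (q : D.QD) (m : D.M0) {y : G} (hy : y ∈ D.N) (h1 : y ∉ D.Q) (h2 : y * y ∈ D.Q) :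
    ∃ n ∈ D.N, ∃ c, (c = D.f ∨ c = D.w ∨ c = D.u ∨ c = D.x0) ∧ n * y * n⁻¹ * c⁻¹ ∈ D.Q := by
  obtain ⟨φ, h, -, e1, e2⟩ := exists_sw q m
  obtain ⟨x, x', hx, hx', eu⟩ := u_form q h e1 e2
  obtain ⟨f', ew, -, hf⟩ := D.exists_f'
  rcases h.cls (a := pr D ⟨y, hy⟩) (mt pr_one.1 h1) (by rw [← map_mul]; exact pr_one.2 h2)
    f5_sq hf hx hx' with c | c | c | c
  · obtain ⟨n, hn, e⟩ := of_isConj (e1 _ ▸ c)
    exact ⟨n, hn, _, .inl D.κf, e⟩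
  · obtain ⟨n, hn, e⟩ := of_isConj (e2 _ ▸ c)
    exact ⟨n, hn, _, .inr (.inl ew), e⟩
  · obtain ⟨n, hn, e⟩ := of_isConj (eu ▸ c)
    exact ⟨n, hn, _, .inr (.inr (.inl rfl)), e⟩
  · obtain ⟨n, hn, e⟩ := of_isConj c
    exact ⟨n, hn, _, .inr (.inr (.inr rfl)), e⟩

theorem Cq_congr (q : D.QD) {n n' : G} (hn : n ∈ D.N) (h : n * n'⁻¹ ∈ D.Q) : D.Cq n = D.Cq n' :=
  Subgroup.ext fun _ => and_congr_right (TD.fx_congr q.comm hn h)

theorem card_le (q : D.QD) (m : D.M0) {y : G} (hy : y ∈ D.N) (h1 : y ∉ D.Q) (h2 : y * y ∈ D.Q) :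
    Nat.card (D.Cq y) ≤ 32 := by
  obtain ⟨n, hn, c, hc, e⟩ := cls q m hy h1 h2
  have e1 : Nat.card (D.Cq y) = Nat.card (D.Cq (n * y * n⁻¹)) := card_sub_conj n fun x =>
    and_congr (mem_normalizer_iff.1 hn x) (D.fx_conj (TD.N_t q.comm hn)).symm
  rw [e1, Cq_congr q (mul_mem (mul_mem hn hy) (inv_mem hn)) e]
  have z := mul_mem D.aN D.bN
  rcases hc with rfl | rfl | rfl | rfl
  · exact TD.card_Cq_le q.comm D.fN (mul_mem D.aN (inv_mem D.bN)) (D.s3' ▸ one_mem _)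
      (by simp [D.fs]) fun x => TD.fx_s q.comm
  · exact TD.card_Cq_le q.comm D.wN z (D.z3' ▸ one_mem _) (by simp [D.wz]) fun x => TD.fx_z q.comm
  · exact TD.card_Cq_le q.comm D.uN z (D.z3' ▸ one_mem _) (by simp [D.uz]) fun x => TD.fx_z q.comm
  · exact TD.card_Cq_x0 q.comm

theorem inv0 (q : D.QD) (m : D.M0) {y c : G} (hy : y ∈ D.N) (h1 : y ∉ D.Q)
    (h2 : y * y ∈ zpowers D.t) (c2 : c * c ∈ zpowers D.t) (e : y * c⁻¹ ∈ D.Q) :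
    ∃ k ∈ D.Q, k * y * k⁻¹ * c⁻¹ ∈ zpowers D.t := by
  obtain ⟨k, hk, e2⟩ := (TD.free_of_le q.comm hy (D.zt_le h2)
    (card_le q m hy h1 (D.zt_le h2))).2.1 (y * c⁻¹)⁻¹ ⟨inv_mem e, by
      have h3 := mul_mem c2 (inv_mem h2)
      rw [TD.Fx, show ⁅y, (y * c⁻¹)⁻¹⁆ = y * c⁻¹ * (c * c * (y * y)⁻¹) * (y * c⁻¹) by
        group, D.comm_zt (D.Q_t e) h3, mul_assoc]
      exact mul_mem h3 (TD.sqQ q.comm _ e)⟩
  exact ⟨k, hk, by simpa [commutatorElement_def, mul_assoc] using e2⟩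

theorem inv (q : D.QD) (m : D.M0) {y : G} (hy : y ∈ D.N) (h1 : y ∉ D.Q)
    (h2 : y * y ∈ zpowers D.t) : ∃ n ∈ D.N, ∃ c,
    (c = D.f ∨ c = D.w ∨ c = D.u ∨ c = D.x0) ∧ n * y * n⁻¹ * c⁻¹ ∈ zpowers D.t := by
  obtain ⟨n, hn, c, hc, e⟩ := cls q m hy h1 (D.zt_le h2)
  obtain ⟨k, hk, e2⟩ := inv0 q m (mul_mem (mul_mem hn hy) (inv_mem hn))
    (fun h => h1 ((mem_normalizer_iff.1 hn y).2 h))
    (by rwa [conj_mul, D.conj_zt (TD.N_t q.comm hn) h2])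
    (by rcases hc with rfl | rfl | rfl | rfl <;> simp [D.ff, D.ww, D.uu, D.xx]) e
  exact ⟨k * n, mul_mem (D.Q_le_N hk) hn, c, hc, by simpa [mul_assoc] using e2⟩

theorem uU (q : D.QD) (m : D.M0) : ∃ n ∈ D.N, ∀ x ∈ D.U, D.Fx (n * D.u * n⁻¹) x := by
  obtain ⟨φ, h, e0, e1, e2⟩ := exists_sw q m
  obtain ⟨x, x', hx, hx', eu⟩ := u_form q h e1 e2
  obtain ⟨R, c8, -, hR⟩ := q.R
  obtain ⟨ρ, hρ, ρ2⟩ := exists_four (K := R) (fun y hy => by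
    have := congrArg Subtype.val (pow_card_eq_one' (x := (⟨y, hy⟩ : R)))
    rw [c8] at this
    exact SL25_sq _ ((SL25_sq (y * y * (y * y)) (by
      simpa [pow_succ, mul_assoc] using this)).resolve_right (no8 y))) (by omega)
  obtain ⟨c, hc⟩ := conj44 hx ρ2
  obtain ⟨d, hd⟩ := conj44 hx' ρ2
  obtain ⟨n, hn, e⟩ := of_isConj (x := ⟨D.u, D.uN⟩) (y := ⟨_, mul_mem (q.nK ρ) (q.nK' ρ)⟩)
    (isConj_iff.2 ⟨φ (c, d), by rw [eu, conj_phi, hc, hd, e0]⟩)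
  refine ⟨n, hn, fun y hy => (TD.fx_congr q.comm (mul_mem (mul_mem hn D.uN) (inv_mem hn)) e
    (D.Ea_le (D.UE hy))).2 (D.fx_of_comm (Commute.mul_left (hR ρ hρ y hy) ?_))⟩
  change D.h * _ * _ * _ = _ * (D.h * _ * _)
  simpa [mul_assoc] using comm_conj' D.h (hR ρ hρ _ (conj_of_norm' D.hU hy))

theorem wc (q : D.QD) (m : D.M0) {g : G} (hg : g * D.t = D.t * g)
    (h : ∀ e ∈ D.Q, g * e * g⁻¹ ∈ D.N) : g ∈ D.N := by
  by_contra hN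
  obtain ⟨φ, s, -, e1, e2⟩ := exists_sw q m
  let j : D.Q →* D.N := ((MulAut.conj g).toMonoidHom.comp D.Q.subtype).codRestrict _
    fun e => h e e.2
  let P := ((pr D).comp j).ker.map (D.N.subtype.comp j)
  have sq : ∀ e : D.Q, (j e : G) * j e ∈ D.Q := fun e => D.zt_le (by
    change g * e * g⁻¹ * (g * e * g⁻¹) ∈ _
    rw [conj_mul, D.conj_zt hg (TD.sqQ q.comm _ e.2)]; exact TD.sqQ q.comm _ e.2)
  have le : ∀ e : D.Q, P ≤ D.Cq (j e) := by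
    rintro e _ ⟨x, hx, rfl⟩
    exact ⟨pr_one.1 hx, (D.fx_conj hg).2 (TD.cQ q.comm _ e.2 _ x.2)⟩
  have cP : Nat.card ((pr D).comp j).range * Nat.card P = 512 := by
    rw [← TD.cardQ q.comm, ← index_ker, mul_comm, card_map_of_injective
      ((MulAut.conj g).injective.comp Subtype.val_injective), card_mul_index]
  obtain ⟨e, he⟩ : ∃ e : D.Q, (j e : G) ∉ D.Q :=
    not_forall.1 fun a => hN (mem_norm_of fun x hx => a ⟨x, hx⟩)
  have c1 := (card_le_of_le (le e)).trans (card_le q m (j e).2 he (sq e))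
  obtain ⟨c2, ⟨x, hx, d, ed⟩, y, hy, d', ed'⟩ := s.big (E := ((pr D).comp j).range) (by
    rintro _ ⟨e, rfl⟩
    rw [← map_mul]; exact pr_one.2 (by simpa using sq e)) (by nlinarith)
  have k : ∀ (d : D.Q) (n : D.N), pr D (j d) = pr D n → (n : G) ∉ D.Q → P = D.Cq n :=
    fun d n e hn => by
      rw [← Cq_congr q (j d).2 (pr_eq.1 e)]
      exact eq_of_le_of_card_ge (le d) ((card_le q m (j d).2
        (fun a => hn (pr_one.1 (e ▸ pr_one.2 a))) (sq d)).trans (by nlinarith))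
  have n4 : ∀ x : SL25, x * x = -1 → ¬ Pm x := by
    rintro _ e (rfl | rfl) <;> exact absurd e (by decide +kernel)
  have p1 : P = D.Cq (D.κ x) := k d _ (ed.trans (e1 x)) (mt (TD.κ_mem_Q q.comm).1 (n4 x hx))
  have p2 : P = D.Cq (D.κ' y) := k d' _ (ed'.trans (e2 y)) (mt (TD.κ'_mem_Q q.comm).1 (n4 y hy))
  have k2 : ∀ e ∈ P, ∀ z, z * z = -1 → D.κ' z ∈ D.St e := fun e he z hz => by
    obtain ⟨c, rfl⟩ := conj44 hy hz
    have a1 : (D.κ' c)⁻¹ * e * (D.κ' c)⁻¹⁻¹ ∈ D.Cq (D.κ' y) := by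
      rw [← p2, p1, ← Cq_congr q (n := (D.κ' c)⁻¹ * D.κ x * (D.κ' c)⁻¹⁻¹) (by
        simpa using mul_mem (mul_mem (inv_mem (q.nK' c)) (q.nK x)) (q.nK' c)) (by
          simpa [commutatorElement_def, mul_assoc] using inv_mem (q.KK x c⁻¹))]
      rw [p1] at he
      exact ⟨D.conj_Q (inv_mem (q.nK' c)) he.1,
        (D.fx_conj (Commute.inv_left (D.κ'_t c))).2 he.2⟩
    exact ⟨D.κ'_t _, by simpa [mul_assoc] using (D.fx_conj (D.κ'_t c)).2 a1.2⟩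
  have c3 : P ≤ zpowers D.t := fun e he => TD.fx_z q.comm (le 1 he).1 (by
    have := mul_mem (k2 e he _ f5_sq) (k2 e he _ fs_sq)
    rw [← map_mul, mul_inv_cancel_left, D.κ's] at this
    exact this.2)
  have c4 := card_le_of_le c3
  rw [Nat.card_zpowers, orderOf_eq_prime (p := 2) (by rw [pow_two, D.tt]) D.t1] at c4
  nlinarith

end F1

open F1 in
theorem TD.QD.m1 {G : Type*} [Group G] [Finite G] {D : TD G} (q : D.QD) (m : D.M0) : D.M1 :=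
  have k := fun y hy h1 h2 => TD.free_of_le (y := y) q.comm hy h2 (card_le q m hy h1 h2)
  ⟨fun y hy h1 h2 => (k y hy h1 h2).1, fun y hy h1 h2 e he h => (k y hy h1 h2).2.1 e ⟨he, h⟩,
    fun y hy h1 h2 e he e' he' h h' => (k y hy h1 h2).2.2 e ⟨he, h⟩ e' ⟨he', h'⟩,
    fun _ => inv q m, uU q m, fun _ => wc q m⟩

end Cfsg.Lib.HN3
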