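import Cfsg.Agent.HN3.Base
import Cfsg.Agent.Solv.PGroupNormal

/-!
The first layer of the `3`-local data: the elementary abelian subgroup of order `81`.
-/

set_option autoImplicit false
set_option linter.unusedSectionVars false

namespace Cfsg.Lib.HN3

open Subgroup Cfsg.Lib.Perm Cfsg.Lib.Local
open Cfsg.Lib.Mc3 (LS)
open scoped commutatorElement

/-- The first layer of the `3`-local data. -/
structure J1 (G : Type*) [Group G] where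
  S : Sylow 3 G
  Q : Subgroup G
  J : Subgroup G
  z : G
  t : G
  s : G
  f : G
  pL : G → SL25
  κ : SL25 →* G
  l : LS S Q (centralizer {z}) z pL
  JS : J ≤ S
  Jc : ∀ x ∈ J, ∀ y ∈ J, x * y = y * x
  J3 : ∀ x ∈ J, x ^ 3 = 1
  cardJ : Nat.card J = 81
  cJ : ∀ g, (∀ x ∈ J, g * x = x * g) → g ∈ J
  fus : ∀ x ∈ J, ∀ y ∈ J, IsConj x y → ∃ n ∈ normalizer (J : Set G), n * x * n⁻¹ = y
  tt : t * t = 1
  κt : κ (-1) = t
  κz : ∀ x, κ x * z = z * κ x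
  pκ : ∀ x, pL (κ x) = x
  czt : ∀ g, g * z = z * g → g * t = t * g → ∃ c ∈ zpowers z, ∃ x, g = c * κ x
  κs : κ (pL s) = s
  sJ : s ∈ J
  sQ : s ∉ Q
  κf : κ (pL f) = f
  fs : f * s * f⁻¹ = s⁻¹
  ff : f * f = t
  nJz : ∀ g, g * z = z * g → (g ∈ normalizer (J : Set G) ↔ g ∈ (S : Subgroup G) ⊔ zpowers f)
  cardSf : Nat.card ((S : Subgroup G) ⊔ zpowers f : Subgroup G) = 2916
  stab : ∀ x ∈ J, x ∈ Q → x ∉ zpowers z → ∀ g, g * z = z * g → ⁅g, x⁆ ∈ zpowers z →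
    g ∈ (S : Subgroup G)

namespace J1

variable {G : Type*} [Group G] [Finite G] (D : J1 G)

theorem ZJ : zpowers D.z ≤ D.J := D.l.Z_le_J D.JS D.Jc D.cardJ
theorem zJ : D.z ∈ D.J := D.ZJ (mem_zpowers _)
theorem κL (x : SL25) : D.κ x ∈ centralizer {D.z} := mem_centralizer_singleton_iff.2 (D.κz x)
theorem tL : D.t ∈ centralizer {D.z} := D.κt ▸ D.κL _
theorem fL : D.f ∈ centralizer {D.z} := D.κf ▸ D.κL _
theorem pt : D.pL D.t = -1 := by rw [← D.κt, D.pκ]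
theorem tz : D.t * D.z = D.z * D.t := D.l.Lz _ D.tL
theorem fz : D.f * D.z = D.z * D.f := D.l.Lz _ D.fL
theorem t_inv : D.t⁻¹ = D.t := inv_eq_of_mul_eq_one_right D.tt
theorem ts : D.t * D.s = D.s * D.t := by
  rw [← D.κt, ← D.κs, ← map_mul, ← map_mul, neg_one_comm]
theorem ft : D.f * D.t = D.t * D.f := by rw [← D.ff, mul_assoc]
theorem SN : (D.S : Subgroup G) ≤ normalizer (D.J : Set G) := D.l.S_le_NJ D.JS D.Jc D.cardJ
theorem QN : D.Q ≤ normalizer (D.J : Set G) := D.l.QS.trans D.SN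
theorem fN : D.f ∈ normalizer (D.J : Set G) := (D.nJz _ D.fz).2 (mem_sup_right (mem_zpowers _))
theorem tN : D.t ∈ normalizer (D.J : Set G) := D.ff ▸ mul_mem D.fN D.fN
theorem conjQ {g x : G} (h : g * D.z = D.z * g) (hx : x ∈ D.Q) : g * x * g⁻¹ ∈ D.Q :=
  D.l.nQ g (Mc3.mem_nz_of_comm h) x hx
theorem Jz {x : G} (h : x ∈ D.J) : x * D.z = D.z * x := D.Jc x h _ D.zJ
theorem cardA : Nat.card (D.J ⊓ D.Q : Subgroup G) = 27 := D.l.card_JQ D.JS D.Jc D.cardJ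
theorem ZA : zpowers D.z ≤ D.J ⊓ D.Q := le_inf D.ZJ D.l.ZQ
theorem ord3 {x : G} (h : x ∈ D.J) (h1 : x ≠ 1) : orderOf x = 3 :=
  orderOf_eq_prime (hp := ⟨Nat.prime_three⟩) (D.J3 x h) h1
theorem eq_one_of_inv {x : G} (h : x ∈ D.J) (e : x⁻¹ = x) : x = 1 := by
  have := D.J3 x h
  rwa [pow_succ, pow_two, show x * x = 1 by nth_rw 1 [← e]; exact inv_mul_cancel x, one_mul] at this
/-- `[Q, J] ≤ J ∩ Q` -/
theorem br_mem {q j : G} (hq : q ∈ D.Q) (hj : j ∈ D.J) : ⁅q, j⁆ ∈ D.J ⊓ D.Q :=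
  mem_inf.2 ⟨mul_mem (conj_of_norm (D.QN hq) hj) (inv_mem hj), by
    rw [commutatorElement_def, mul_assoc, mul_assoc, ← mul_assoc j]
    exact mul_mem hq (D.conjQ (D.Jz hj) (inv_mem hq))⟩
/-- an element of `Q` fixed modulo `Z` by an element of `S` outside `Q` lies in `J` -/
theorem mem_J_of_br {q j : G} (hq : q ∈ D.Q) (hj : j ∈ (D.S : Subgroup G)) (hjQ : j ∉ D.Q)
    (h : ⁅j, q⁆ ∈ zpowers D.z) : q ∈ D.J :=
  ((D.l.W_eq D.JS D.Jc D.cardJ hj hjQ).le ⟨hq, h⟩).1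
theorem cent_A {q : G} (hq : q ∈ D.Q) (h : ∀ w ∈ D.J, w ∈ D.Q → q * w = w * q) : q ∈ D.J :=
  D.l.cent_JQ D.JS D.Jc D.cardJ hq h
theorem S_eq {g : G} (hg : g ∈ (D.S : Subgroup G)) : ∃ j ∈ D.J, ∃ q ∈ D.Q, g = q * j :=
  D.l.S_eq_mul D.JS D.Jc D.cardJ hg
/-- the elements of a coset of `Z` in `Q` are conjugate under `Q` -/
theorem conj_z {x c : G} (hx : x ∈ D.Q) (hZ : x ∉ zpowers D.z) (hc : c ∈ zpowers D.z) :
    ∃ q ∈ D.Q, q * x * q⁻¹ = c * x := by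
  obtain ⟨q, hq, h⟩ : ∃ q ∈ D.Q, ⁅q, x⁆ ≠ 1 := by
    by_contra! h
    exact hZ (D.l.cent x fun q hq => (commutatorElement_eq_one_iff_mul_comm.1 (h q hq)).symm)
  have k : ∀ q ∈ D.Q, q * x * q⁻¹ = ⁅q, x⁆ * x := fun q _ => by group
  have k' : ⁅q⁻¹, x⁆ = ⁅q, x⁆⁻¹ := by
    rw [← Mc3.conj_zp_eq (D.l.Qz (inv_mem hq)) (inv_mem (D.l.comm q hq x hx))]; group
  rcases (Mc3.mem_zp3 D.l.z3).1 hc with rfl | rfl | rfl
  · exact ⟨1, one_mem _, by group⟩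
  all_goals rcases (Mc3.mem_zp3 D.l.z3).1 (D.l.comm q hq x hx) with e | e | e
  · exact absurd e h
  · exact ⟨q, hq, by rw [k q hq, e]⟩
  · exact ⟨q⁻¹, inv_mem hq, by rw [k _ (inv_mem hq), k', e, inv_inv]⟩
  · exact absurd e h
  · exact ⟨q⁻¹, inv_mem hq, by rw [k _ (inv_mem hq), k', e]⟩
  · exact ⟨q, hq, by rw [k q hq, e]⟩
/-- `f` normalises no cyclic subgroup of `Q / Z` -/
theorem not_fix {x : G} (hx : x ∈ D.Q) (h : D.f * x * D.f⁻¹ ∈ zpowers D.z ⊔ zpowers x) :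
    x ∈ zpowers D.z := by
  by_contra hZ
  obtain ⟨c, hc, y, hy, e⟩ := (mem_sup_comm fun c hc y hy =>
    (Mc3.comm_zp (D.l.Qz (zpowers_le.2 hx hy)) hc).symm).1 h
  have k := fun h => hZ (D.l.mem_Z_of_St D.tL D.tt D.pt hx ⟨D.l.LN D.tL, h⟩)
  rcases (Mc3.mem_zp3 (orderOf_eq_prime (hp := ⟨Nat.prime_three⟩) (D.l.cube x hx)
    fun e => hZ (e ▸ one_mem _))).1 hy with rfl | rfl | rfl
  · rw [mul_one] at e
    rw [← e] at hc
    exact hZ (by simpa [mul_assoc] using Mc3.conj_zp (inv_mem (D.l.LN D.fL)) hc)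
  · refine k ?_
    rw [← D.ff, show ⁅D.f * D.f, y⁆ = D.f * (D.f * y * D.f⁻¹) * D.f⁻¹ * y⁻¹ by group, e, ← conj_mul,
      Mc3.conj_zp_eq D.fz hc, e]
    simpa [mul_assoc] using mul_mem hc hc
  · refine k ?_
    rw [← D.ff, show ⁅D.f * D.f, x⁆ = D.f * (D.f * x * D.f⁻¹) * D.f⁻¹ * x⁻¹ by group, e, ← conj_mul,
      Mc3.conj_zp_eq D.fz hc, ← conj_inv, e, mul_inv_rev, inv_inv,
      Mc3.comm_zp (D.l.Qz hx) (inv_mem hc)]
    simp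

end J1

end Cfsg.Lib.HN3
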