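import Cfsg.Agent.HN3.FinDefs
import Cfsg.Agent.Trans.CentralTransfer

/-!
The centraliser of the involution `t` inside the `3`-centraliser.
-/

set_option autoImplicit false
set_option linter.unusedSectionVars false

namespace Cfsg.Lib.HN3.D2

open Subgroup Equiv Cfsg.Lib.Perm Cfsg.Lib.Known Cfsg.Lib.Trans
open Cfsg.Lib.Mc3 (LS mem_zp3 mem_nz mem_nz_of_comm comm_zp conj33)
open scoped commutatorElement

variable {G : Type*} [Group G]

/-- `y` centralises a four-group. -/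
def NF (y : G) : Prop :=
  ∃ p q : G, p * p = 1 ∧ q * q = 1 ∧ p ≠ 1 ∧ q ≠ 1 ∧ p ≠ q ∧ p * q = q * p ∧ p * y = y * p ∧
    q * y = y * q

theorem NF_eq_1' : type_of% @NF.eq_1 := @NF.eq_1

theorem NF.map {H : Type*} [Group H] {y : G} (h : NF y) {f : G →* H} (hf : Function.Injective f) :
    NF (f y) := by
  obtain ⟨p, q, h1, h2, h3, h4, h5, h6, h7, h8⟩ := h
  refine ⟨f p, f q, ?_, ?_, (map_ne_one_iff f hf).2 h3, (map_ne_one_iff f hf).2 h4, hf.ne h5,
    ?_, ?_, ?_⟩ <;> simp only [← map_mul, h1, h2, h6, h7, h8, map_one]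

theorem NF.conj {y : G} (h : NF y) (g : G) : NF (g * y * g⁻¹) :=
  h.map (f := (MulAut.conj g).toMonoidHom) (MulAut.conj g).injective

theorem NF.of_conj {y y' : G} (h : NF y) (e : IsConj y y') : NF y' := by
  obtain ⟨g, rfl⟩ := isConj_iff.1 e
  exact h.conj g

theorem NF.zp {y y' : G} (h : NF y) (e : y' ∈ zpowers y) : NF y' := by
  obtain ⟨p, q, h1, h2, h3, h4, h5, h6, h7, h8⟩ := h
  exact ⟨p, q, h1, h2, h3, h4, h5, h6, comm_zp h7 e, comm_zp h8 e⟩

theorem mem_pair {a b y : G} (h : a * b = b * a) (hy : y ∈ closure {a, b}) :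
    ∃ p ∈ zpowers a, ∃ q ∈ zpowers b, y = p * q := by
  have c : ∀ p ∈ zpowers a, ∀ q ∈ zpowers b, q * p = p * q := fun p hp q hq =>
    comm_zp (comm_zp h hq).symm hp
  induction hy using closure_induction with
  | mem x hx =>
    rcases hx with rfl | rfl
    · exact ⟨_, mem_zpowers _, 1, one_mem _, (mul_one _).symm⟩
    · exact ⟨1, one_mem _, _, mem_zpowers _, (one_mul _).symm⟩
  | one => exact ⟨1, one_mem _, 1, one_mem _, (one_mul _).symm⟩
  | mul x y _ _ h1 h2 =>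
    obtain ⟨p, hp, q, hq, rfl⟩ := h1
    obtain ⟨p', hp', q', hq', rfl⟩ := h2
    exact ⟨_, mul_mem hp hp', _, mul_mem hq hq', by
      rw [mul_assoc, ← mul_assoc q, c p' hp' q hq, mul_assoc, mul_assoc]⟩
  | inv x _ h1 =>
    obtain ⟨p, hp, q, hq, rfl⟩ := h1
    exact ⟨_, inv_mem hp, _, inv_mem hq, by rw [← c p hp q hq, mul_inv_rev]⟩

theorem pair_cases {a b y : G} (a3 : orderOf a = 3) (b3 : orderOf b = 3) (h : a * b = b * a)
    (hy : y ∈ closure {a, b}) :
    y ∈ zpowers a ∨ y ∈ zpowers b ∨ y ∈ zpowers (a * b) ∨ y ∈ zpowers (a * b⁻¹) := by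
  obtain ⟨p, hp, q, hq, rfl⟩ := mem_pair h hy
  have h1 : a⁻¹ * b⁻¹ = (a * b)⁻¹ := by rw [h, mul_inv_rev]
  have h2 : a⁻¹ * b = (a * b⁻¹)⁻¹ := by
    rw [mul_inv_rev, inv_inv]; exact (show Commute a b from h).inv_left.eq
  rcases (mem_zp3 a3).1 hp with e | e | e <;> rcases (mem_zp3 b3).1 hq with f | f | f <;>
    simp [e, f, h1, h2, -mul_inv_rev]

theorem mem_pair' {a c d : G} (c3 : orderOf c = 3) (h : a * c = c * a) (hd : d ∈ closure {a, c})
    (hn : d ∉ zpowers a) : closure {a, c} ≤ closure {a, d} := by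
  have ha : a ∈ closure {a, d} := subset_closure (by simp)
  obtain ⟨p, hp, q, hq, rfl⟩ := mem_pair h hd
  have h1 : q ∈ closure {a, p * q} := (mul_mem_cancel_left (zpowers_le.2 ha hp)).1
    (subset_closure (by simp))
  rw [closure_le, Set.pair_subset_iff]
  rcases (mem_zp3 c3).1 hq with rfl | rfl | rfl
  · exact absurd (by simpa using hp) hn
  · exact ⟨ha, h1⟩
  · exact ⟨ha, inv_mem_iff.1 h1⟩

theorem comm_central {p q x y : G} (h1 : Commute p x) (h2 : Commute p y) (h3 : Commute p q)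
    (h4 : Commute q x) (h5 : Commute q y) : ⁅p * x, q * y⁆ = ⁅x, y⁆ := by
  have e1 := ((h1.mul_right (h3.mul_right h2)).mul_right h1.inv_right).eq
  have e2 := (((h4.mul_right h5).mul_right h4.inv_right).mul_right h5.inv_right).eq
  calc ⁅p * x, q * y⁆ = p * (x * (q * y) * x⁻¹) * p⁻¹ * y⁻¹ * q⁻¹ := by
        rw [commutatorElement_def]; group
    _ = q * (x * y * x⁻¹ * y⁻¹) * q⁻¹ := by
        rw [e1, mul_inv_cancel_right, ← mul_assoc x, ← h4.eq]; group
    _ = _ := by rw [e2, mul_inv_cancel_right, commutatorElement_def]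

theorem comm_of_four {g z s : G} (hz : z ∉ zpowers s) (hs : s ∉ zpowers z)
    (h1 : g * z * g⁻¹ = z ∨ g * z * g⁻¹ = z⁻¹ ∨ g * z * g⁻¹ = s ∨ g * z * g⁻¹ = s⁻¹)
    (h2 : g * s * g⁻¹ = z ∨ g * s * g⁻¹ = z⁻¹ ∨ g * s * g⁻¹ = s ∨ g * s * g⁻¹ = s⁻¹) :
    g ^ 4 * z = z * g ^ 4 := by
  rw [← mul_inv_eq_iff_eq_mul, ← MulAut.conj_apply, map_pow]
  simp only [← MulAut.conj_apply] at h1 h2
  generalize MulAut.conj g = φ at h1 h2
  have n1 : φ z ≠ φ s := fun e => hz (φ.injective e ▸ mem_zpowers _)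
  have n2 : φ z ≠ (φ s)⁻¹ := fun e => hz (φ.injective (e.trans (map_inv φ s).symm) ▸
    inv_mem (mem_zpowers _))
  rcases h1 with e | e | e | e <;> rcases h2 with f | f | f | f <;>
    simp [pow_succ, e, f] at n1 n2 ⊢

set_option synthInstance.maxSize 2000 in
theorem cent_s5 : ∀ x : SL25, x * s5 = s5 * x → x ^ 3 = -1 ∨ x = 1 ∨ x = s5 ∨ x = s5⁻¹ := by
  simp only [forall_sl2]
  decide +kernel

theorem s5_facts : s5 * s5 * s5 = 1 ∧ s5 ≠ 1 ∧ f5 * s5 * f5⁻¹ = s5⁻¹ := by decide +kernel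

/-- A complement to `⟨z⟩` in the centraliser of `z` and `t`. -/
structure KL (z t : G) (κ : SL25 →* G) : Prop where
  cz : ∀ x, κ x * z = z * κ x
  ct : ∀ x, κ x * t = t * κ x
  inj : Function.Injective κ
  neg : κ (-1) = t
  zκ : ∀ x, κ x ∈ zpowers z → x = 1
  czt : ∀ g, g * z = z * g → g * t = t * g → ∃ c ∈ zpowers z, ∃ x, g = c * κ x

theorem KL.conj {z t : G} {κ : SL25 →* G} (h : KL z t κ) (d : SL25) :
    KL z t (κ.comp (MulAut.conj d).toMonoidHom) :=
  ⟨fun _ => h.cz _, fun _ => h.ct _, h.inj.comp (MulAut.conj d).injective, by simpa using h.neg,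
    fun x hx => by simpa using h.zκ _ hx, fun g h1 h2 => by
      obtain ⟨c, hc, x, rfl⟩ := h.czt g h1 h2
      exact ⟨c, hc, d⁻¹ * x * d, by simp [mul_assoc]⟩⟩

variable [Finite G] {S : Sylow 3 G} {Q : Subgroup G} {z t : G} {pL : G → SL25}

theorem eq_one_of_Q (l : LS S Q (centralizer {z}) z pL) {x : G} (hx : x ∈ Q) (h : x * x = 1) :
    x = 1 := by
  have := l.cube x hx
  rwa [pow_succ, sq, h, one_mul] at this

theorem pL_inv (l : LS S Q (centralizer {z}) z pL) (tz : t * z = z * t) (tt : t * t = 1)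
    (t1 : t ≠ 1) : pL t = -1 := by
  have ht := mem_centralizer_singleton_iff.2 tz
  refine (SL25_sq _ (by rw [← l.map_mul _ ht _ ht, tt, l.map_one])).resolve_left fun e => ?_
  exact t1 (eq_one_of_Q l ((l.ker _ ht).1 e) tt)

theorem not_NF (l : LS S Q (centralizer {z}) z pL) : ¬ NF z := by
  rintro ⟨p, q, h1, h2, h3, h4, h5, h6, h7, h8⟩
  refine h5 (mul_inv_eq_one.1 (eq_one_of_Q l ((l.eq_iff (mem_centralizer_singleton_iff.2 h7)
    (mem_centralizer_singleton_iff.2 h8)).1 (by rw [pL_inv l h7 h1 h3, pL_inv l h8 h2 h4])) ?_))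
  rw [inv_eq_of_mul_eq_one_right h2, mul_assoc, ← mul_assoc q, ← h6, mul_assoc, h2, mul_one, h1]

theorem exists_kl (l : LS S Q (centralizer {z}) z pL) (tz : t * z = z * t) (tt : t * t = 1)
    (t1 : t ≠ 1) : ∃ κ, KL z t κ := by
  have ht := mem_centralizer_singleton_iff.2 tz
  have pt := pL_inv l tz tt t1
  have hZ : ∀ {q}, q ∈ Q → q * t = t * q → q ∈ zpowers z := l.mem_Z_of_comm_t ht tt pt
  let N : Subgroup G := centralizer {z} ⊓ centralizer {t}
  let φ : N →* SL25 := l.hom.comp (inclusion inf_le_left)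
  have hφ : Function.Surjective φ := fun x => by
    obtain ⟨y, hy, rfl⟩ := l.surj x
    obtain ⟨q, hq, e⟩ := l.exists_adjust ht tt pt (l.LN hy)
    exact ⟨⟨q * y, mul_mem (l.QL hq) hy, mem_centralizer_singleton_iff.2 e⟩,
      (l.eq_iff (mul_mem (l.QL hq) hy) hy).2 (by rwa [mul_inv_cancel_right])⟩
  have hk : ∀ n : N, φ n = 1 → (n : G) ∈ zpowers z := fun n e =>
    hZ ((l.ker _ n.2.1).1 e) (mem_centralizer_singleton_iff.1 n.2.2)
  have hzN : zpowers z ≤ N := zpowers_le.2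
    ⟨mem_centralizer_singleton_iff.2 rfl, mem_centralizer_singleton_iff.2 tz.symm⟩
  have hN : Nat.card N = 3 ^ 2 * 40 := by
    have h1 : φ.ker = (zpowers z).subgroupOf N :=
      Subgroup.ext fun n => ⟨hk n, fun e => (l.ker _ n.2.1).2 (l.ZQ e)⟩
    have h3 := φ.ker.card_mul_index
    rw [index_ker, MonoidHom.range_eq_top.2 hφ, h1,
      Nat.card_congr (subgroupOfEquivOfLe hzN).toEquiv, l.cardZ, card_top, card_SL25] at h3
    exact h3.symm
  obtain ⟨P⟩ : Nonempty (Sylow 3 N) := inferInstance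
  have h1 := not_dvd_card_center_inf_commutator P
    (IsPGroup.isMulCommutative_of_card_eq_prime_sq (p := 3) (by
      rw [P.card_eq_multiplicity, hN, Nat.factorization_mul (by norm_num) (by norm_num),
        Finsupp.add_apply, Nat.Prime.factorization_pow Nat.prime_three, Finsupp.single_eq_same,
        Nat.factorization_eq_zero_of_not_dvd (by norm_num)]))
  let e : commutator N ≃* SL25 := MulEquiv.ofBijective (φ.comp (commutator N).subtype) ⟨by
    refine (injective_iff_map_eq_one _).2 fun x hx => by_contra fun h2 => h1 ?_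
    have h3 := hk _ hx
    have h4 : orderOf (x : N) = 3 := orderOf_eq_prime (Subtype.ext (l.cube _ (l.ZQ h3)))
      fun e => h2 (Subtype.ext e)
    exact h4 ▸ orderOf_dvd_natCard _ ⟨mem_center_iff.2 fun g => Subtype.ext
      (comm_zp (mem_centralizer_singleton_iff.1 g.2.1) h3), x.2⟩, fun x => by
    have h2 : (commutator N).map φ = ⊤ := by
      rw [map_commutator_eq, MonoidHom.range_eq_top.2 hφ]; exact isPerfect_SL25.commutator_eq_top
    obtain ⟨y, hy, rfl⟩ := h2.ge (mem_top x)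
    exact ⟨⟨y, hy⟩, rfl⟩⟩
  let κ := (N.subtype.comp (commutator N).subtype).comp e.symm.toMonoidHom
  have k1 : ∀ x, κ x ∈ centralizer {z} := fun x => (e.symm x).1.2.1
  have k2 : ∀ x, κ x * t = t * κ x := fun x => mem_centralizer_singleton_iff.1 (e.symm x).1.2.2
  have k3 : ∀ x, pL (κ x) = x := fun x => e.apply_symm_apply x
  have k4 : ∀ g, g * z = z * g → g * t = t * g → g * (κ (pL g))⁻¹ ∈ zpowers z := fun g g1 g2 =>
    hZ ((l.eq_iff (mem_centralizer_singleton_iff.2 g1) (k1 _)).1 (k3 _).symm)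
      ((show Commute g t from g2).mul_left (show Commute _ t from k2 _).inv_left)
  refine ⟨κ, fun x => mem_centralizer_singleton_iff.1 (k1 x), k2,
    fun x y e => by rw [← k3 x, e, k3], ?_, fun x hx => by rw [← k3 x, (l.ker _ (k1 x)).2 (l.ZQ hx)],
    fun g g1 g2 => ⟨_, k4 g g1 g2, pL g, by simp⟩⟩
  have := k4 t tz rfl
  rw [pt, ← map_inv, show (-1 : SL25)⁻¹ = -1 by simp] at this
  have := eq_one_of_Q l (l.ZQ this) (by
    rw [mul_assoc, ← mul_assoc (κ _), k2, ← mul_assoc, ← mul_assoc, tt, one_mul, ← map_mul]; simp)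
  rw [← inv_eq_of_mul_eq_one_right this, inv_eq_of_mul_eq_one_right tt]

theorem step {A : Subgroup G} {x : G} (x3 : orderOf x = 3) (hc : A ≤ centralizer {x}) (hx : x ∉ A)
    (hA : IsMulCommutative A) : Nat.card (A ⊔ zpowers x : Subgroup G) = Nat.card A * 3 ∧
      IsMulCommutative (A ⊔ zpowers x : Subgroup G) := by
  have h1 : A ≤ centralizer (zpowers x : Set G) := fun g hg y hy =>
    (comm_zp (mem_centralizer_singleton_iff.1 (hc hg)) hy).symm
  have h2 := Local.CD.card_sup_mul_card_inf_of_le_centralizer h1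
  have h3 : A ⊓ zpowers x = ⊥ := eq_bot_iff.2 fun y hy => by
    rcases (mem_zp3 x3).1 hy.2 with e | e | e
    · exact e
    · exact absurd (e ▸ hy.1) hx
    · exact absurd (inv_mem_iff.1 (e ▸ hy.1 : x⁻¹ ∈ A)) hx
  rw [h3, card_bot, mul_one, Nat.card_zpowers, x3] at h2
  exact ⟨h2, Local.CD.isMulCommutative_sup hA inferInstance h1⟩

theorem ord3 {x : A12} (h : x ^ 3 = 1 ∧ x ≠ 1) : orderOf x = 3 := orderOf_eq_prime h.1 h.2

theorem exists_J0 : ∃ J : Subgroup A12, J ≤ centralizer {a0 * b0} ∧ Nat.card J = 81 ∧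
    IsMulCommutative J := by
  have n : ∀ {A : Subgroup A12} {x : A12} (p : Fin 12), A ≤ MulAction.stabilizer A12 p →
      x • p ≠ p → x ∉ A := fun p h1 h2 h3 => h2 (h1 h3)
  obtain ⟨h1, h2⟩ := step (A := zpowers c1) (x := c2) (ord3 (by decide +kernel))
    (by simp only [zpowers_le, mem_centralizer_singleton_iff]; decide +kernel)
    (n 1 (by simp only [zpowers_le, MulAction.mem_stabilizer_iff]; decide +kernel)
      (by decide +kernel)) inferInstance
  obtain ⟨h3, h4⟩ := step (x := c4) (ord3 (by decide +kernel))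
    (by simp only [sup_le_iff, zpowers_le, mem_centralizer_singleton_iff]; decide +kernel)
    (n 6 (by simp only [sup_le_iff, zpowers_le, MulAction.mem_stabilizer_iff]; decide +kernel)
      (by decide +kernel)) h2
  obtain ⟨h5, h6⟩ := step (x := a0) (ord3 (by decide +kernel))
    (by simp only [sup_le_iff, zpowers_le, mem_centralizer_singleton_iff]; decide +kernel)
    (n 9 (by simp only [sup_le_iff, zpowers_le, MulAction.mem_stabilizer_iff]; decide +kernel)
      (by decide +kernel)) h4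
  refine ⟨_, ?_, ?_, h6⟩
  · simp only [sup_le_iff, zpowers_le, mem_centralizer_singleton_iff]; decide +kernel
  · rw [h5, h3, h1, Nat.card_zpowers, ord3 (x := c1) (by decide +kernel)]

theorem KL.exists_w {κ : SL25 →* G} (h : KL z t κ) (l : LS S Q (centralizer {z}) z pL)
    (tz : t * z = z * t) (tt : t * t = 1) (t1 : t ≠ 1) {c : G} (h1 : c * z * c⁻¹ = z⁻¹)
    (h2 : ∀ x, x * z = z * x → ⁅c, x⁆ ∈ Q) {J : Subgroup G} (hJ : J ≤ centralizer {z})
    (hc : Nat.card J = 81) (hm : IsMulCommutative J) :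
    ∃ w, w * w = t ∧ (∀ x, w * κ x = κ x * w) ∧ w * z * w⁻¹ = z⁻¹ := by
  obtain ⟨n, -, hn⟩ := (isSylowIn_of_le S l.SL).exists_cj_le (IsPGroup.of_card (n := 4) hc) hJ
  have hm' : ∀ a ∈ cj n J, ∀ b ∈ cj n J, a * b = b * a := by
    rintro _ ⟨a, ha, rfl⟩ _ ⟨b, hb, rfl⟩
    rw [← map_mul, Local.CD.isMulCommutative_iff.1 hm a ha b hb, map_mul]
  replace hn := @LS.sq_mul_mem_of_inv _ _ _ _ _ _ _ l _ _ hn hm' (by rw [card_cj, hc])
  have ht := mem_centralizer_singleton_iff.2 tz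
  have pt := pL_inv l tz tt t1
  obtain ⟨q, hq, e⟩ := l.exists_adjust ht tt pt (mem_nz (h1 ▸ inv_mem (mem_zpowers z)))
  have h3 : q * c * z * (q * c)⁻¹ = z⁻¹ := by
    rw [show q * c * z * (q * c)⁻¹ = q * (c * z * c⁻¹) * q⁻¹ by group, h1,
      comm_zp (l.Qz hq) (inv_mem (mem_zpowers z)), mul_inv_cancel_right]
  have h4 : ∀ x ∈ centralizer {z}, ⁅q * c, x⁆ ∈ Q := fun x hx => by
    rw [Mc3.comm_mul_left]
    refine mul_mem (mul_mem (mul_mem hq (h2 x (mem_centralizer_singleton_iff.1 hx))) (inv_mem hq)) ?_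
    rw [commutatorElement_def, mul_assoc, mul_assoc, ← mul_assoc x]
    exact mul_mem hq (l.nQ x (l.LN hx) _ (inv_mem hq))
  generalize q * c = w at e h3 h4
  have wt : Commute w t := e
  refine ⟨w, ?_, fun x => ?_, h3⟩
  · have h5 := l.mem_Z_of_comm_t ht tt pt (hn (mem_nz (h3 ▸ inv_mem (mem_zpowers z)))
      h4 ht tt pt h3) ((wt.mul_left wt).mul_left (Commute.refl t))
    have h6 := Mc3.conj_zp_inv h3 h5
    rw [(((Commute.refl w).mul_right (Commute.refl w)).mul_right wt).eq, mul_inv_cancel_right] at h6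
    have := eq_one_of_Q l (l.ZQ h5) (mul_eq_one_iff_eq_inv.2 h6)
    rw [eq_inv_of_mul_eq_one_left this, inv_eq_of_mul_eq_one_right tt]
  · have h5 : ∀ y, ⁅w, κ y⁆ ∈ zpowers z := fun y => l.mem_Z_of_comm_t ht tt pt
      (h4 _ (mem_centralizer_singleton_iff.2 (h.cz y))) (by
        have : Commute (κ y) t := h.ct y
        exact (((wt.mul_left this).mul_left wt.inv_left).mul_left this.inv_left).eq)
    have h6 : ∀ y, w * κ y * w⁻¹ = ⁅w, κ y⁆ * κ y := fun y => by rw [commutatorElement_def]; group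
    have h7 : ∀ y y', Commute ⁅w, κ y⁆ (κ y') := fun y y' => (comm_zp (h.cz y') (h5 y)).symm
    have h8 : commutator SL25 ≤ (centralizer {w}).comap κ := commutator_le.2 fun a _ b _ => by
      rw [mem_comap, mem_centralizer_singleton_iff, eq_comm, ← mul_inv_eq_iff_eq_mul,
        map_commutatorElement, Mc3.conj_comm, h6, h6]
      exact comm_central (h7 _ _) (h7 _ _) (comm_zp (comm_zp rfl (h5 a)).symm (h5 b)) (h7 _ _)
        (h7 _ _)
    rw [isPerfect_SL25.commutator_eq_top] at h8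
    exact (mem_centralizer_singleton_iff.1 (h8 (mem_top x))).symm

/-- The configuration of two commuting elements of order three. -/
structure AB (a b t : G) : Prop where
  a3 : orderOf a = 3
  b3 : orderOf b = 3
  ab : a * b = b * a
  tt : t * t = 1
  t1 : t ≠ 1
  ta : a * t = t * a
  tb : b * t = t * b
  na : NF a
  nb : NF b
  nz : ¬ NF (a * b)
  ns : ¬ NF (a * b⁻¹)

namespace AB

variable {a b : G} (h : AB a b t)
include h

theorem cube_a : a ^ 3 = 1 := h.a3 ▸ pow_orderOf_eq_one a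

theorem cube_b : b ^ 3 = 1 := h.b3 ▸ pow_orderOf_eq_one b

theorem aa : a * a = a⁻¹ := eq_inv_of_mul_eq_one_left (by rw [← h.cube_a, pow_three'])

theorem bb : b * b = b⁻¹ := eq_inv_of_mul_eq_one_left (by rw [← h.cube_b, pow_three'])

theorem c : Commute a b := h.ab

theorem z3 : orderOf (a * b) = 3 := orderOf_eq_prime
  (by rw [h.c.mul_pow, h.cube_a, h.cube_b, one_mul]) fun e => h.nz (e ▸ h.na.zp (one_mem _))

theorem s3 : orderOf (a * b⁻¹) = 3 := orderOf_eq_prime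
  (by rw [h.c.inv_right.mul_pow, h.cube_a, inv_pow, h.cube_b, inv_one, one_mul])
    fun e => h.ns (e ▸ h.na.zp (one_mem _))

theorem zs : a * b * (a * b⁻¹) = a⁻¹ := by
  rw [mul_assoc, ← mul_assoc b, ← h.ab, mul_inv_cancel_right, h.aa]

theorem zs' : a * b * (a * b⁻¹)⁻¹ = b⁻¹ := by
  rw [mul_inv_rev, inv_inv, mul_assoc, ← mul_assoc b, h.bb, ← h.c.inv_right.inv_left.eq,
    mul_inv_cancel_left]

theorem nf_z {y : G} (hy : y ∈ zpowers (a * b)) (h1 : NF y) : y = 1 := by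
  rcases (mem_zp3 h.z3).1 hy with e | e | e
  · exact e
  · exact absurd (e ▸ h1) h.nz
  · exact absurd (h1.zp (e ▸ inv_mem_iff.1 (mem_zpowers _))) h.nz

theorem nf_s {y : G} (hy : y ∈ zpowers (a * b⁻¹)) (h1 : NF y) : y = 1 := by
  rcases (mem_zp3 h.s3).1 hy with e | e | e
  · exact e
  · exact absurd (e ▸ h1) h.ns
  · exact absurd (h1.zp (e ▸ inv_mem_iff.1 (mem_zpowers _))) h.ns

theorem a1 : a ≠ 1 := fun e => by simpa [e] using h.a3

theorem z_notMem : a * b ∉ zpowers (a * b⁻¹) := fun e => h.a1 (inv_eq_one.1 (h.nf_s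
  (h.zs ▸ mul_mem e (mem_zpowers _)) (h.na.zp (inv_mem (mem_zpowers _)))))

theorem s_notMem : a * b⁻¹ ∉ zpowers (a * b) := fun e => h.a1 (inv_eq_one.1 (h.nf_z
  (h.zs ▸ mul_mem (mem_zpowers _) e) (h.na.zp (inv_mem (mem_zpowers _)))))

theorem ba : b ∉ zpowers a := fun e => h.nz (h.na.zp (mul_mem (mem_zpowers _) e))

theorem nf_cases {y : G} (hy : y ∈ closure {a, b}) (h1 : NF y) : y ∈ zpowers a ∨ y ∈ zpowers b := by
  rcases pair_cases h.a3 h.b3 h.ab hy with e | e | e | e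
  · exact .inl e
  · exact .inr e
  · exact .inl (h.nf_z e h1 ▸ one_mem _)
  · exact .inl (h.nf_s e h1 ▸ one_mem _)

theorem nnf_cases {y : G} (hy : y ∈ closure {a, b}) (h1 : ¬ NF y) :
    y = a * b ∨ y = (a * b)⁻¹ ∨ y = a * b⁻¹ ∨ y = (a * b⁻¹)⁻¹ := by
  have h2 : y ≠ 1 := fun e => h1 (e ▸ h.na.zp (one_mem _))
  rcases pair_cases h.a3 h.b3 h.ab hy with e | e | e | e
  · exact absurd (h.na.zp e) h1
  · exact absurd (h.nb.zp e) h1
  · rcases (mem_zp3 h.z3).1 e with e | e | e <;> simp_all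
  · rcases (mem_zp3 h.s3).1 e with e | e | e <;> simp_all

theorem tz : t * (a * b) = a * b * t :=
  ((show Commute a t from h.ta).mul_left (show Commute b t from h.tb)).symm

theorem exists_s {κ : SL25 →* G} (k : KL (a * b) t κ) : ∃ κ, KL (a * b) t κ ∧ κ s5 = a * b⁻¹ := by
  obtain ⟨c, hc, x, e⟩ := k.czt (a * b⁻¹)
    (((Commute.refl a).mul_left h.c.symm.inv_left).mul_right
      (h.c.mul_left (Commute.refl b).inv_left))
    ((show Commute a t from h.ta).mul_left (show Commute b t from h.tb).inv_left)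
  have cx : Commute c (κ x) := (comm_zp (k.cz x) hc).symm
  have c3 : c ^ 3 = 1 := orderOf_dvd_iff_pow_eq_one.1 (h.z3 ▸ orderOf_dvd_of_mem_zpowers hc)
  have x3 : x * x * x = 1 := k.inj (by
    have := h.s3 ▸ pow_orderOf_eq_one (a * b⁻¹)
    rwa [e, cx.mul_pow, c3, one_mul, ← map_pow, pow_three', ← map_one κ] at this)
  have x1 : x ≠ 1 := fun f => h.s_notMem (by rw [e, f, map_one, mul_one]; exact hc)
  obtain ⟨d, hd⟩ := conj33 s5_facts.1 s5_facts.2.1 x3 x1
  obtain ⟨y, hy, -⟩ := Mc3.inv3 x x3 x1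
  have h1 : κ y * (a * b⁻¹) * (κ y)⁻¹ = c * c * (a * b⁻¹)⁻¹ := by
    rw [e, ← mul_assoc, comm_zp (k.cz y) hc, mul_assoc c, mul_assoc c, ← map_mul, ← map_inv,
      ← map_mul, hy, cx.eq, mul_inv_rev, map_inv]
    group
  have h2 : ¬ NF (c * c * (a * b⁻¹)⁻¹) := fun f => h.ns (by
    rw [← h1] at f; simpa [mul_assoc] using f.conj (κ y)⁻¹)
  have zz : a * b * (a * b) = (a * b)⁻¹ :=
    eq_inv_of_mul_eq_one_left (by rw [← pow_three', ← h.z3, pow_orderOf_eq_one])
  rcases (mem_zp3 h.z3).1 hc with rfl | rfl | rfl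
  · exact ⟨_, k.conj d, by simp [hd, e]⟩
  · rw [zz, ← mul_inv_rev, ← (show Commute (a * b) (a * b⁻¹) from
      ((Commute.refl a).mul_left h.c.symm).mul_right
        (h.c.inv_right.mul_left (Commute.refl b).inv_right)).eq, h.zs, inv_inv] at h2
    exact absurd h.na h2
  · rw [← mul_inv_rev, zz, inv_inv, h.zs'] at h2
    exact absurd (h.nb.zp (inv_mem (mem_zpowers _))) h2

variable {κ : SL25 →* G} (k : KL (a * b) t κ) (ks : κ s5 = a * b⁻¹)
include k ks

theorem fs : κ f5 * (a * b⁻¹) * (κ f5)⁻¹ = (a * b⁻¹)⁻¹ := by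
  rw [← ks, ← map_mul, ← map_inv, ← map_mul, s5_facts.2.2, map_inv]

theorem fa : κ f5 * a * (κ f5)⁻¹ = b := by
  have := congrArg (MulAut.conj (κ f5)) h.zs
  rw [map_mul, map_inv, MulAut.conj_apply, MulAut.conj_apply, MulAut.conj_apply, h.fs k ks, k.cz,
    mul_inv_cancel_right, h.zs'] at this
  exact (inv_injective this).symm

theorem fb : κ f5 * b * (κ f5)⁻¹ = a := by
  have := congrArg (MulAut.conj (κ f5)) h.zs'
  rw [map_mul, map_inv, map_inv, MulAut.conj_apply, MulAut.conj_apply, MulAut.conj_apply, h.fs k ks,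
    k.cz, mul_inv_cancel_right, inv_inv, h.zs] at this
  exact (inv_injective this).symm

omit k ks in
theorem P3 : IsPGroup 3 (closure {a, b} : Subgroup G) := fun ⟨y, hy⟩ => ⟨1, Subtype.ext (by
  change y ^ 3 = 1
  rw [← orderOf_dvd_iff_pow_eq_one]
  rcases pair_cases h.a3 h.b3 h.ab hy with e | e | e | e
  exacts [h.a3 ▸ orderOf_dvd_of_mem_zpowers e, h.b3 ▸ orderOf_dvd_of_mem_zpowers e,
    h.z3 ▸ orderOf_dvd_of_mem_zpowers e, h.s3 ▸ orderOf_dvd_of_mem_zpowers e])⟩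

theorem syl : IsSylowIn 3 (closure {a, b}) (centralizer {t}) := by
  have ha : a ∈ closure {a, b} := subset_closure (by simp)
  have hb : b ∈ closure {a, b} := subset_closure (by simp)
  have hz := mul_mem ha hb
  have hs := mul_mem ha (inv_mem hb)
  refine isSylowIn_of_maximal ((closure_le _).2 (Set.pair_subset_iff.2
    ⟨mem_centralizer_singleton_iff.2 h.ta, mem_centralizer_singleton_iff.2 h.tb⟩)) h.P3
    fun R hR h1 h2 => by_contra fun h3 => ?_
  obtain ⟨g, ⟨g1, g2⟩, g3⟩ := SetLike.exists_of_lt (lt_inf_normalizer hR (h1.lt_of_not_ge h3))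
  obtain ⟨j, hj⟩ := hR ⟨g, g1⟩
  replace hj : g ^ 3 ^ j = 1 := congrArg Subtype.val hj
  have h4 : ∀ y ∈ closure {a, b}, ¬ NF y → _ := fun y hy hn =>
    h.nnf_cases ((mem_normalizer_iff.1 g2 y).1 hy) fun f => hn (by simpa [mul_assoc] using f.conj g⁻¹)
  have h5 : g ∈ zpowers (g ^ 4) := mem_zpowers_pow_iff.2 (Nat.Coprime.coprime_dvd_right
    (orderOf_dvd_of_pow_eq_one hj) (Nat.Coprime.pow_right _ (by decide)))
  have h6 := comm_zp (comm_of_four h.z_notMem h.s_notMem (h4 _ hz h.nz) (h4 _ hs h.ns)).symm h5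
  have h7 := comm_zp (comm_of_four h.s_notMem h.z_notMem (by have := h4 _ hs h.ns; tauto)
    (by have := h4 _ hz h.nz; tauto)).symm h5
  obtain ⟨c, hc, x, rfl⟩ := k.czt g h6.symm (mem_centralizer_singleton_iff.1 (h2 g1))
  have hc' := zpowers_le.2 hz hc
  have cx : ∀ y, Commute c (κ y) := fun y => (comm_zp (k.cz y) hc).symm
  rw [← ks, ← mul_assoc, ← (cx _).eq, mul_assoc, mul_assoc, mul_right_inj, ← map_mul,
    ← map_mul] at h7
  rcases cent_s5 x (k.inj h7).symm with e | rfl | rfl | rfl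
  · have h8 : (c * κ x) ^ 3 = t := by
      rw [(cx x).mul_pow, ← map_pow, e, k.neg,
        orderOf_dvd_iff_pow_eq_one.1 (h.z3 ▸ orderOf_dvd_of_mem_zpowers hc), one_mul]
    have h9 : t ^ 3 ^ j = 1 := by rw [← h8, ← pow_mul, mul_comm, pow_mul, hj, one_pow]
    obtain ⟨i, hi⟩ : Odd (3 ^ j) := Odd.pow (by decide)
    rw [hi, pow_succ, pow_mul, sq, h.tt, one_pow, one_mul] at h9
    exact h.t1 h9
  · exact g3 (by simpa using hc')
  · exact g3 (mul_mem hc' (ks ▸ hs))
  · exact g3 (mul_mem hc' (by rw [map_inv, ks]; exact inv_mem hs))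

theorem not_conj {r c d : G} (c3 : orderOf c = 3) (d3 : orderOf d = 3) (cd : c * d = d * c)
    (hd : d ∉ zpowers c) (rc : c * r = r * c) (rd : d * r = r * d)
    (hn : ∀ y ∈ closure {c, d}, NF y) : ¬ IsConj t r := fun e => by
  obtain ⟨g, rfl⟩ := isConj_iff.1 e
  have h1 : IsPGroup 3 (closure {c, d} : Subgroup G) := fun ⟨y, hy⟩ => ⟨1, Subtype.ext (by
    change y ^ 3 = 1
    obtain ⟨p, hp, q, hq, rfl⟩ := mem_pair cd hy
    rw [(show Commute p q from comm_zp (comm_zp cd.symm hp).symm hq).mul_pow,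
      orderOf_dvd_iff_pow_eq_one.1 (c3 ▸ orderOf_dvd_of_mem_zpowers hp),
      orderOf_dvd_iff_pow_eq_one.1 (d3 ▸ orderOf_dvd_of_mem_zpowers hq), one_mul])⟩
  obtain ⟨x, -, hx⟩ := (h.syl k ks).exists_cj_le (Q := cj g⁻¹ (closure {c, d})) (isPGroup_cj h1 _)
    (cj_le_iff.2 fun y hy => mem_centralizer_singleton_iff.2 (by
      have : closure {c, d} ≤ centralizer {g * t * g⁻¹} := (closure_le _).2 (Set.pair_subset_iff.2
        ⟨mem_centralizer_singleton_iff.2 rc, mem_centralizer_singleton_iff.2 rd⟩)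
      have := mem_centralizer_singleton_iff.1 (this hy)
      calc g⁻¹ * y * g⁻¹⁻¹ * t = g⁻¹ * (y * (g * t * g⁻¹)) * g := by group
        _ = _ := by rw [this]; group))
  rw [cj_cj] at hx
  generalize x * g⁻¹ = n at hx
  have h2 : ∀ y ∈ closure {c, d}, MulAut.conj n y ∈ zpowers a ∨ MulAut.conj n y ∈ zpowers b :=
    fun y hy => h.nf_cases (hx (conj_mem_cj.2 hy)) ((hn y hy).conj n)
  have hc : c ∈ closure {c, d} := subset_closure (by simp)
  have hd' : d ∈ closure {c, d} := subset_closure (by simp)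
  have h3 : ∀ {e : G}, orderOf e = 3 → MulAut.conj n c ∈ zpowers e → MulAut.conj n d ∉ zpowers e :=
    fun {e} e3 f1 f2 => hd (by
      have : e ∈ zpowers (MulAut.conj n c) := by
        rcases (mem_zp3 e3).1 f1 with f | f | f
        · simp [(map_eq_one_iff _ (MulAut.conj n).injective).1 f] at c3
        · exact f ▸ mem_zpowers _
        · exact f ▸ inv_mem_iff.1 (mem_zpowers _)
      obtain ⟨i, hi⟩ := zpowers_le.2 this f2
      exact ⟨i, (MulAut.conj n).injective (by rw [map_zpow]; exact hi)⟩)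
  have h4 : ∀ {e : G}, orderOf e = 3 → MulAut.conj n d ∈ zpowers e →
      MulAut.conj n (c * d) ∉ zpowers e := fun e3 f1 f2 =>
    h3 e3 (by rwa [map_mul, mul_mem_cancel_right f1] at f2) f1
  have h5 : ∀ {e : G}, orderOf e = 3 → MulAut.conj n c ∈ zpowers e →
      MulAut.conj n (c * d) ∉ zpowers e := fun e3 f1 f2 =>
    h3 e3 f1 (by rwa [map_mul, mul_mem_cancel_left f1] at f2)
  have := h2 c hc
  have := h2 d hd'
  have := h2 _ (mul_mem hc hd')
  have := h3 h.a3
  have := h3 h.b3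
  have := h4 h.a3
  have := h4 h.b3
  have := h5 h.a3
  have := h5 h.b3
  tauto

end AB

end Cfsg.Lib.HN3.D2
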