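import Cfsg.Agent.HN3.Jd0
import Cfsg.Agent.HN3.TwoA
import Cfsg.Agent.Recog.Mc3B

/-!
Existence of the first layer of the `3`-local data.
-/

set_option autoImplicit false
set_option linter.unusedSectionVars false

namespace Cfsg.Lib.HN3

open Subgroup Cfsg.Lib.Perm Cfsg.Lib.Local Cfsg.Lib.Trans
open Cfsg.Lib.Mc3 (LS)
open scoped commutatorElement

namespace L1

set_option synthInstance.maxSize 2000 in
theorem even5 : ∀ x : SL25, x = 1 ∨ x = s5 ∨ x = s5⁻¹ ∨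
    ∃ i : Fin 3, ∃ j : Fin 3, ∃ k : Fin 6, (s5 ^ i.1 * x ^ j.1) ^ k.1 = -1 := by
  simp only [forall_sl2]
  decide +kernel

set_option synthInstance.maxSize 2000 in
theorem norm5 : ∀ x : SL25, (x * s5 * x⁻¹ = s5 ∨ x * s5 * x⁻¹ = s5⁻¹) →
    ∃ i : Fin 3, ∃ j : Fin 4, x = s5 ^ i.1 * f5 ^ j.1 := by
  simp only [forall_sl2]
  decide +kernel

variable {G : Type*} [Group G]

theorem br_comm {z m n e : G} (hm : m * z = z * m) (hn : n * z = z * n) (h1 : ⁅m, e⁆ ∈ zpowers z)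
    (h2 : ⁅n, e⁆ ∈ zpowers z) : ⁅m, n⁆ * e = e * ⁅m, n⁆ := by
  have h3 : Commute ⁅m, n⁆ z :=
    ((Commute.mul_left hm hn).mul_left (Commute.inv_left hm)).mul_left (Commute.inv_left hn)
  have h4 := Mc3.comm_mul_left ⁅m, n⁆ (n * m) e
  rw [show ⁅m, n⁆ * (n * m) = m * n by group, Mc3.comm_mul_left m, Mc3.comm_mul_left n,
    Mc3.conj_zp_eq hm h2, Mc3.conj_zp_eq hn h1, Mc3.conj_zp_eq h3 (mul_mem h1 h2),
    setLike_mul_comm h2 h1, left_eq_mul] at h4
  exact commutatorElement_eq_one_iff_mul_comm.1 h4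

variable [Finite G] {S : Sylow 3 G} {Q : Subgroup G} {z : G} {pL : G → SL25}

theorem conj_LS (l : LS S Q (centralizer {z}) z pL) (c : SL25) :
    LS S Q (centralizer {z}) z fun g => c * pL g * c⁻¹ :=
  { l with
    map_mul := fun a ha b hb => by rw [l.map_mul a ha b hb, conj_mul]
    ker := fun a ha => by rw [conj_eq_one_iff, l.ker a ha]
    surj := fun x => by
      obtain ⟨a, ha, e⟩ := l.surj (c⁻¹ * x * c)
      exact ⟨a, ha, by rw [e]; group⟩ }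

theorem exists_κ (l : LS S Q (centralizer {z}) z pL) : ∃ (t : G) (κ : SL25 →* G), t * t = 1 ∧
    κ (-1) = t ∧ (∀ x, κ x * z = z * κ x) ∧ (∀ x, pL (κ x) = x) ∧
      ∀ g, g * z = z * g → g * t = t * g → ∃ c ∈ zpowers z, ∃ x, g = c * κ x := by
  obtain ⟨t, h1, tt, pt⟩ := l.exists_t
  obtain ⟨κ, k⟩ := D2.exists_kl l (l.Lz t h1) tt fun e => l.t_notMem h1 pt (e ▸ one_mem _)
  have hL : ∀ x, κ x ∈ centralizer {z} := fun x => mem_centralizer_singleton_iff.2 (k.cz x)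
  have hi : Function.Injective (l.hom.comp (κ.codRestrict _ hL)) :=
    (injective_iff_map_eq_one _).2 fun x hx =>
      k.zκ x (l.mem_Z_of_comm_t h1 tt pt ((l.ker _ (hL x)).1 hx) (k.ct x))
  let e := MulEquiv.ofBijective _ (Finite.injective_iff_bijective.1 hi)
  refine ⟨t, κ.comp e.symm.toMonoidHom, tt, ?_, fun x => k.cz _, e.apply_symm_apply,
    fun g g1 g2 => ?_⟩
  · rw [← k.neg]
    exact congrArg κ (e.symm_apply_eq.2 (pt.symm.trans (congrArg pL k.neg.symm)))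
  · obtain ⟨c, hc, x, rfl⟩ := k.czt g g1 g2
    exact ⟨c, hc, e x, by simp⟩

variable (l : LS S Q (centralizer {z}) z pL) {t s f : G} (tt : t * t = 1) (pt : pL t = -1)
  (fz : f * z = z * f) (ff : f * f = t) (fs : f * s * f⁻¹ = s⁻¹) (sS : s ∈ (S : Subgroup G))
  (sQ : s ∉ Q)
include l tt pt fz ff

theorem not_fix {x : G} (hx : x ∈ Q) (h : f * x * f⁻¹ ∈ zpowers z ⊔ zpowers x) : x ∈ zpowers z := by
  by_contra hZ
  have fN := Mc3.mem_nz_of_comm fz
  have tL : t ∈ centralizer {z} := mem_centralizer_singleton_iff.2 (ff ▸ Commute.mul_left fz fz)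
  obtain ⟨c, hc, y, hy, e⟩ := (mem_sup_comm fun c hc y hy =>
    (Mc3.comm_zp (l.Qz (zpowers_le.2 hx hy)) hc).symm).1 h
  have k := fun h => hZ (l.mem_Z_of_St tL tt pt hx ⟨l.LN tL, h⟩)
  rcases (Mc3.mem_zp3 (orderOf_eq_prime (hp := ⟨Nat.prime_three⟩) (l.cube x hx)
    fun e => hZ (e ▸ one_mem _))).1 hy with rfl | rfl | rfl
  · rw [mul_one] at e
    rw [← e] at hc
    exact hZ (by simpa [mul_assoc] using Mc3.conj_zp (inv_mem fN) hc)
  · refine k ?_
    rw [← ff, show ⁅f * f, y⁆ = f * (f * y * f⁻¹) * f⁻¹ * y⁻¹ by group, e, ← conj_mul,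
      Mc3.conj_zp_eq fz hc, e]
    simpa [mul_assoc] using mul_mem hc hc
  · refine k ?_
    rw [← ff, show ⁅f * f, x⁆ = f * (f * x * f⁻¹) * f⁻¹ * x⁻¹ by group, e, ← conj_mul,
      Mc3.conj_zp_eq fz hc, ← conj_inv, e, mul_inv_rev, inv_inv, Mc3.comm_zp (l.Qz hx) (inv_mem hc)]
    simp

include fs sS sQ

theorem f_W {x : G} (hx : x ∈ l.W s) : f * x * f⁻¹ ∈ l.W s := by
  have := l.conj_mem_W (Mc3.mem_nz_of_comm fz) hx
  rwa [fs, l.W_inv (l.LN (l.SL sS))] at this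

theorem W_ab : Nat.card (l.W s) = 27 ∧ ∀ x ∈ l.W s, ∀ y ∈ l.W s, x * y = y * x := by
  have : Fact (Nat.Prime 3) := ⟨Nat.prime_three⟩
  have sL := l.SL sS
  have sN := l.LN sL
  have hQ3 := S.isPGroup'.to_le l.QS
  have nC : ∀ g, g ∈ normalizer (l.W s : Set G) → ∀ x ∈ centralizer (l.W s : Set G),
      g * x * g⁻¹ ∈ centralizer (l.W s : Set G) := fun g hg x hx =>
    conj_of_norm (CD.normalizer_le_normalizer_centralizer _ hg) hx
  have hZ : zpowers z ≤ Q ⊓ centralizer (l.W s : Set G) :=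
    le_inf l.ZQ fun c hc x hx => Mc3.comm_zp (l.Qz hx.1) hc
  obtain ⟨x, x1, x2, -, -, x3⟩ := Solv.PG.exists_step_elt (P := zpowers s) (M := zpowers z)
    (N := Q ⊓ centralizer (l.W s : Set G)) (S.isPGroup'.to_le (zpowers_le.2 sS))
    (hQ3.to_le inf_le_left) (zpowers_le.2 sN) (zpowers_le.2 (mem_norm_of fun x hx =>
      ⟨l.nQ s sN x hx.1, nC s (mem_norm_of fun y hy => by
        simpa using l.conj_mem_W sN hy) x hx.2⟩))
    (lt_of_le_of_ne hZ fun e => sQ (l.inner s fun q hq => e.ge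
      (mem_inf.2 ⟨mul_mem (l.nQ s sN q hq) (inv_mem hq), fun a ha =>
        (br_comm (l.Lz s sL) (l.Qz hq) ha.2 (l.comm q hq a ha.1)).symm⟩)))
  have x4 : x ∈ l.W s := ⟨x1.1, by
    simpa using inv_mem (x3 s (mem_sup_left (mem_zpowers s)))⟩
  have hA : IsPGroup 3 (l.W s ⊓ centralizer (l.W s : Set G) : Subgroup G) :=
    hQ3.to_le (inf_le_left.trans (l.W_le s))
  have h0 : zpowers z ⊔ zpowers x ≤ l.W s ⊓ centralizer (l.W s : Set G) :=
    sup_le (le_inf (l.Z_le_W sN) (hZ.trans inf_le_right)) (zpowers_le.2 ⟨x4, x1.2⟩)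
  have h1 := Solv.PG.prime_mul_card_le_of_lt (hA.to_le h0)
    (left_lt_sup.2 fun h => x2 (h (mem_zpowers x)))
  have h2 := Solv.PG.prime_mul_card_le_of_lt hA (lt_of_le_of_ne h0 fun e =>
    x2 (not_fix l tt pt fz ff x1.1 (e.ge ⟨f_W l tt pt fz ff fs sS sQ x4,
      nC f (mem_norm_of fun y => f_W l tt pt fz ff fs sS sQ) x x1.2⟩)))
  have h3 := l.card_W_le sL (l.cube_S sS) fun e => sQ ((l.ker s sL).1 e)
  have h4 := CD.card_le_of_le (inf_le_left : l.W s ⊓ centralizer (l.W s : Set G) ≤ _)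
  rw [l.cardZ] at h1
  have h5 := CD.eq_of_le_of_card_ge (inf_le_left : l.W s ⊓ centralizer (l.W s : Set G) ≤ _)
    (by omega)
  exact ⟨by omega, fun x hx y hy => (h5.ge hy).2 x hx⟩

theorem W_s {x : G} (hx : x ∈ l.W s) : s * x = x * s := by
  have tL : t ∈ centralizer {z} := mem_centralizer_singleton_iff.2 (ff ▸ Commute.mul_left fz fz)
  have ts : t * s * t⁻¹ = s := by
    rw [← ff, show f * f * s * (f * f)⁻¹ = f * (f * s * f⁻¹) * f⁻¹ by group, fs, ← conj_inv, fs,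
      inv_inv]
  have h1 := Mc3.comm_mul_right s (t * x * t⁻¹) x
  rw [commutatorElement_eq_one_iff_mul_comm.2 (Mc3.comm_zp (l.Lz s (l.SL sS)) (l.t_inv tL tt pt hx.1)),
    Mc3.conj_zp_eq (l.Qz (l.nQ t (l.LN tL) x hx.1)) hx.2] at h1
  nth_rw 1 [← ts] at h1
  rw [bracket_conj, Mc3.conj_zp_eq (l.Lz t tL) hx.2] at h1
  exact commutatorElement_eq_one_iff_mul_comm.1 (D2.eq_one_of_Q l (l.ZQ hx.2) h1.symm)

end L1

open L1

theorem exists_j1 {G : Type*} [Group G] [Finite G] {S : Sylow 3 G} {Q : Subgroup G} {z : G}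
    {pL : G → SL25} (l : LS S Q (centralizer {z}) z pL) : ∃ D : J1 G, D.Q = Q ∧ D.z = z := by
  have : Fact (Nat.Prime 3) := ⟨Nat.prime_three⟩
  obtain ⟨s0, h0, h0'⟩ := SetLike.not_le_iff_exists.1 (show ¬ (S : Subgroup G) ≤ Q from fun h => by
    have := CD.card_le_of_le h
    rw [l.cardS, l.cardQ] at this; omega)
  wlog h5 : pL s0 = s5
  · obtain ⟨c, hc⟩ := Mc3.conj33 (l.cube_S h0) (fun e => h0' ((l.ker _ (l.SL h0)).1 e)) s5_cube s5_ne
    exact this (conj_LS l c) ‹_› s0 h0 h0' hc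
  obtain ⟨t, κ, tt, κt, κz, pκ, czt⟩ := exists_κ l
  have κL : ∀ x, κ x ∈ centralizer {z} := fun x => mem_centralizer_singleton_iff.2 (κz x)
  have mS : ∀ {g a}, g * z = z * g → a ∈ (S : Subgroup G) → pL g = pL a → g ∈ (S : Subgroup G) :=
    fun g1 ha e => (mul_mem_cancel_right (inv_mem ha)).1 (l.QS
      ((l.eq_iff (mem_centralizer_singleton_iff.2 g1) (l.SL ha)).1 e))
  have sS : κ s5 ∈ (S : Subgroup G) := mS (κz _) h0 (by rw [pκ, h5])
  have sQ : κ s5 ∉ Q := fun h => s5_ne ((pκ _).symm.trans ((l.ker _ (κL _)).2 h))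
  have pt : pL t = -1 := by rw [← κt, pκ]
  have ff : κ f5 * κ f5 = t := by rw [← map_mul, f5_sq, κt]
  have fs : κ f5 * κ s5 * (κ f5)⁻¹ = (κ s5)⁻¹ := by rw [← map_inv, ← map_mul, ← map_mul, f5_s5, map_inv]
  have s3 : κ s5 ^ 3 = 1 := by rw [← map_pow, pow_three', s5_cube, map_one]
  obtain ⟨a1, a2⟩ := W_ab l tt pt (κz f5) ff fs sS sQ
  have a3 := fun x => W_s l tt pt (κz f5) ff fs sS sQ (x := x)
  obtain ⟨j1, j2⟩ := D2.step (A := l.W (κ s5)) (orderOf_eq_prime s3 fun e => sQ (e ▸ one_mem _))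
    (fun x hx => mem_centralizer_singleton_iff.2 (a3 x hx).symm) (fun h => sQ h.1)
    (CD.isMulCommutative_iff.2 a2)
  set J := l.W (κ s5) ⊔ zpowers (κ s5)
  rw [a1] at j1
  rw [CD.isMulCommutative_iff] at j2
  have JS : J ≤ S := sup_le ((l.W_le _).trans l.QS) (zpowers_le.2 sS)
  have sJ : κ s5 ∈ J := mem_sup_right (mem_zpowers _)
  have zJ := l.Z_le_J JS j2 j1 (mem_zpowers z)
  have fS := l.mem_NS (l.LN (κL f5)) sS sQ (fs ▸ inv_mem sS)
  have stab : ∀ x ∈ J, x ∈ Q → x ∉ zpowers z → ∀ g, g * z = z * g → ⁅g, x⁆ ∈ zpowers z →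
      g ∈ (S : Subgroup G) := fun x xJ xQ xZ g gz h => by
    have gL := mem_centralizer_singleton_iff.2 gz
    rcases even5 (pL g) with e | e | e | ⟨i, j, k, e⟩
    · exact l.QS ((l.ker g gL).1 e)
    · exact mS gz sS (by rw [pκ, e])
    · exact mS gz (inv_mem sS) (by rw [← map_inv, pκ, e])
    have h1 : κ s5 ∈ Mc3.St z x := ⟨l.LN (κL _), by
      rw [commutatorElement_eq_one_iff_mul_comm.2 (j2 _ sJ x xJ)]; exact one_mem _⟩
    have h2 : g ∈ Mc3.St z x := ⟨l.LN gL, h⟩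
    have h3 := mul_mem (pow_mem (κL s5) i.1) (pow_mem gL j.1)
    exact absurd (l.mem_Z_of_St (κt ▸ κL _) tt pt xQ (l.St_congr xQ ((l.eq_iff (κt ▸ κL _)
      (pow_mem h3 k.1)).1 (by rw [l.map_pow h3, l.map_mul _ (pow_mem (κL _) _) _ (pow_mem gL _),
        l.map_pow (κL _), l.map_pow gL, pκ, e, pt]))
      (pow_mem (mul_mem (pow_mem h1 _) (pow_mem h2 _)) _))) xZ
  refine ⟨⟨S, Q, J, z, t, κ s5, κ f5, pL, κ, l, JS, j2, fun x hx => ?_, j1, fun g hg => ?_,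
    fun x hx y hy h => ?_, tt, κt, κz, pκ, czt, by rw [pκ], sJ, sQ, by rw [pκ], fs, ff,
    fun g gz => ⟨fun hg => ?_, fun hg => l.NS_le_NJ JS j2 j1
      (sup_le le_normalizer (zpowers_le.2 fS) hg)⟩, ?_, stab⟩, rfl, rfl⟩
  · obtain ⟨a, ha, _, ⟨i, rfl⟩, rfl⟩ := (mem_sup_comm fun a ha b hb =>
      j2 a (mem_sup_left ha) b (mem_sup_right hb)).1 hx
    rw [(Commute.zpow_right (a3 a ha).symm i).mul_pow, l.cube a ha.1, one_mul, ← zpow_natCast,
      ← zpow_mul, mul_comm, zpow_mul, zpow_natCast, s3, one_zpow]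
  · obtain ⟨x, x1, x2⟩ := SetLike.not_le_iff_exists.1 (show ¬ J ⊓ Q ≤ zpowers z from fun h => by
      have := CD.card_le_of_le h
      rw [l.card_JQ JS j2 j1, l.cardZ] at this; omega)
    obtain ⟨j, hj, q, hq, rfl⟩ := l.S_eq_mul JS j2 j1 (stab x x1.1 x1.2 x2 g (hg z zJ) (by
      rw [commutatorElement_eq_one_iff_mul_comm.2 (hg x x1.1)]; exact one_mem _))
    refine mul_mem (l.cent_JQ JS j2 j1 hq fun w hw _ => mul_right_cancel (b := j) ?_) hj
    rw [mul_assoc, ← j2 j hj w hw, ← mul_assoc, hg w hw, mul_assoc]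
  · obtain ⟨g, rfl⟩ := isConj_iff.1 h
    have hJ := S.isPGroup'.to_le JS
    obtain ⟨R, hR, h1⟩ := exists_isSylowIn_ge hJ (H := centralizer {g * x * g⁻¹})
      fun a ha => mem_centralizer_singleton_iff.2 (j2 a ha _ hy)
    obtain ⟨c, hc, h2⟩ := hR.exists_cj_le (isPGroup_cj hJ g) (cj_le_iff.2 fun a ha =>
      mem_centralizer_singleton_iff.2 (comm_conj' g (j2 a ha x hx)))
    obtain ⟨d, -, h3⟩ := (isSylowIn_top S).exists_cj_le hR.isPGroup le_top
    have h4 := l.mem_nJ_of_le JS j2 j1 fun a ha => cj_le_iff.1 h3 a (h1 ha)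
    have h6 := l.mem_nJ_of_le JS j2 j1 (g := d * (c * g)) (cj_le_iff.1 (by
      rw [cj_mul, cj_mul]; exact (cj_mono d h2).trans h3))
    refine ⟨c * g, (mul_mem_cancel_left h4).1 h6, ?_⟩
    rw [← conj_eq_of_comm (mem_centralizer_singleton_iff.1 hc)]; group
  · have gL := mem_centralizer_singleton_iff.2 gz
    have h1 := mul_mem (mul_mem gL (κL s5)) (inv_mem gL)
    obtain ⟨i, j, e⟩ := norm5 (pL g) (by
      rw [← pκ s5, ← l.map_conj gL (κL _)]
      rcases l.S_cases sS sQ (JS (conj_of_norm hg sJ)) with e | e | e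
      · exact absurd ((mem_normalizer_iff.1 (l.nQ' (l.LN gL)) _).2 e) sQ
      · exact Or.inl ((l.eq_iff h1 (κL _)).2 e)
      · exact Or.inr (((l.eq_iff h1 (inv_mem (κL _))).2 (by rwa [inv_inv])).trans
          (l.map_inv (κL _))))
    refine (mul_mem_cancel_right (inv_mem (mul_mem (pow_mem (mem_sup_left sS) i.1)
      (pow_mem (mem_sup_right (mem_zpowers _)) j.1)))).1 (mem_sup_left (l.QS ?_))
    rw [← map_pow, ← map_pow, ← map_mul, ← l.eq_iff gL (κL _), pκ, ← e]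
  · have h1 := CD.card_sup_mul_card_inf_of_le_normalizer (zpowers_le.2 fS)
    have h2 : orderOf (κ f5) = 2 ^ 2 := orderOf_eq_prime_pow
      (by rw [pow_one, pow_two, ff]; exact fun e => l.t_notMem (κt ▸ κL _) pt (e ▸ one_mem _))
      (by rw [show 2 ^ (1 + 1) = 2 * 2 from rfl, pow_mul, pow_two, pow_two, ff, tt])
    rw [inf_eq_bot_of_coprime (by rw [Nat.card_zpowers, h2, l.cardS]; norm_num), card_bot,
      Nat.card_zpowers, h2, l.cardS, sup_comm] at h1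
    omega

end Cfsg.Lib.HN3
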