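import Cfsg.Agent.HN3.Jd0
import Cfsg.Agent.Recog.Mc3B

/-!
Conjugates of the central element inside the extraspecial group.
-/

set_option autoImplicit false
set_option linter.unusedSectionVars false

namespace Cfsg.Lib.HN3

open Subgroup Cfsg.Lib.Perm Cfsg.Lib.Local
open Cfsg.Lib.Mc3 (LS)
open scoped commutatorElement

namespace J1

variable {G : Type*} [Group G] [Finite G] (D : J1 G)

theorem three_mul_le {A B : Subgroup G} (h : A < B) (hB : B ≤ D.S) : 3 * Nat.card A ≤ Nat.card B :=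
  Solv.PG.prime_mul_card_le_of_lt (hp := ⟨Nat.prime_three⟩) (D.S.isPGroup'.to_le hB) h

theorem br_one {x y : G} (h : x * y = y * x) : ⁅x, y⁆ ∈ zpowers D.z := by
  rw [commutatorElement_eq_one_iff_mul_comm.2 h]; exact one_mem _

theorem cJq {x q y : G} (xJ : x ∈ D.J) (xQ : x ∈ D.Q) (xZ : x ∉ zpowers D.z) (hq : q ∈ D.Q)
    (qJ : q ∉ D.J) (qx : q * x = x * q) (yJ : y ∈ D.J) (qy : q * y = y * q) :
    y ∈ closure {D.z, x} := by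
  have yQ : y ∈ D.Q := by_contra fun h => qJ (D.mem_J_of_br hq (D.JS yJ) h (D.br_one qy.symm))
  have h1 : closure {D.z, x} ≤ D.J ⊓ D.Q ⊓ centralizer {q} := (closure_le _).2 (by
    rintro _ (rfl | rfl)
    exacts [⟨D.ZA (mem_zpowers _), mem_centralizer_singleton_iff.2 (D.l.Qz hq).symm⟩,
      ⟨⟨xJ, xQ⟩, mem_centralizer_singleton_iff.2 qx.symm⟩])
  have h2 := D.three_mul_le (lt_of_le_of_ne (inf_le_left : D.J ⊓ D.Q ⊓ centralizer {q} ≤ _)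
    fun e => qJ (D.cent_A hq fun w h h' =>
      (mem_centralizer_singleton_iff.1 (e.ge ⟨h, h'⟩).2).symm)) (inf_le_left.trans D.JS)
  have h3 := D.three_mul_le (lt_of_le_of_ne (zpowers_le.2 (subset_closure (by simp)) :
    zpowers D.z ≤ closure {D.z, x}) fun e => xZ (e.ge (subset_closure (by simp))))
    (h1.trans (inf_le_left.trans (inf_le_left.trans D.JS)))
  rw [D.cardA] at h2
  rw [D.l.cardZ] at h3
  exact (CD.eq_of_le_of_card_ge h1 (by omega)).ge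
    ⟨⟨yJ, yQ⟩, mem_centralizer_singleton_iff.2 qy.symm⟩

theorem card_CQ {x : G} (xQ : x ∈ D.Q) : 81 ≤ Nat.card (D.Q ⊓ centralizer {x} : Subgroup G) := by
  have := FT.BG4.card_le_card_mul_card_inf_centralizer (H := D.Q) (v := x)
    fun y hy => D.l.comm y hy x xQ
  rw [D.l.cardQ, D.l.cardZ] at this
  omega

theorem card_CQ' {x : G} (xZ : x ∉ zpowers D.z) :
    Nat.card (D.Q ⊓ centralizer {x} : Subgroup G) ≤ 81 := by
  have := D.three_mul_le (lt_of_le_of_ne (inf_le_left : D.Q ⊓ centralizer {x} ≤ _) fun e =>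
    xZ (D.l.cent x fun q hq => (mem_centralizer_singleton_iff.1 (e.ge hq).2).symm)) D.l.QS
  rw [D.l.cardQ] at this
  omega

theorem cent2 {x q g : G} (xJ : x ∈ D.J) (xQ : x ∈ D.Q) (xZ : x ∉ zpowers D.z) (hq : q ∈ D.Q)
    (qJ : q ∉ D.J) (qx : q * x = x * q) (gz : g * D.z = D.z * g) (gx : g * x = x * g) :
    g ∈ D.J ⊔ zpowers q := by
  obtain ⟨j, hj, r, hr, rfl⟩ := D.S_eq (D.stab x xJ xQ xZ g gz (D.br_one gx))
  have h1 : D.J ⊓ D.Q ⊔ zpowers q ≤ D.Q ⊓ centralizer {x} := sup_le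
    (fun a ha => ⟨ha.2, mem_centralizer_singleton_iff.2 (D.Jc a ha.1 x xJ)⟩)
    (zpowers_le.2 ⟨hq, mem_centralizer_singleton_iff.2 qx⟩)
  have h2 := D.three_mul_le (left_lt_sup.2 fun h : zpowers q ≤ D.J ⊓ D.Q => qJ (h (mem_zpowers q)).1)
    (h1.trans (inf_le_left.trans D.l.QS))
  have h3 := D.card_CQ' xZ
  rw [D.cardA] at h2
  refine mul_mem ((sup_le_sup_right (inf_le_left : D.J ⊓ D.Q ≤ _) _ : _ ≤ D.J ⊔ zpowers q)
    ((CD.eq_of_le_of_card_ge h1 (by omega)).ge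
    ⟨hr, mem_centralizer_singleton_iff.2 (mul_right_cancel (b := j) ?_)⟩)) (mem_sup_left hj)
  rw [mul_assoc, ← D.Jc j hj x xJ, ← mul_assoc, gx, mul_assoc]

theorem exists_q0 {x : G} (xQ : x ∈ D.Q) : ∃ q ∈ D.Q, q ∉ D.J ∧ q * x = x * q := by
  by_contra! h
  have h1 := CD.card_le_of_le (show D.Q ⊓ centralizer {x} ≤ D.J ⊓ D.Q from fun q hq =>
    ⟨by_contra fun e => h q hq.1 e (mem_centralizer_singleton_iff.1 hq.2), hq.1⟩)
  have h2 := D.card_CQ xQ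
  rw [D.cardA] at h1
  omega

theorem exists_q {x : G} (xQ : x ∈ D.Q) (tx : D.t * x * D.t⁻¹ = x⁻¹) :
    ∃ q ∈ D.Q, q ∉ D.J ∧ q * x = x * q ∧ D.t * q * D.t⁻¹ = q⁻¹ := by
  obtain ⟨q, hq, qJ, qx⟩ := D.exists_q0 xQ
  refine ⟨q * (D.t * q * D.t⁻¹)⁻¹, mul_mem hq (inv_mem (D.conjQ D.tz hq)), fun h => qJ ?_, ?_, ?_⟩
  · refine Mc3.mem_of_sq (D.l.cube q hq) ?_
    simpa [mul_assoc] using mul_mem h (D.ZJ (D.l.t_inv D.tL D.tt D.pt hq))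
  · have h1 := comm_conj' D.t qx
    rw [tx] at h1
    exact Commute.mul_left qx (Commute.inv_right_iff.1 h1).inv_left
  · calc _ = D.t * q * D.t⁻¹ * (D.t * D.t * q⁻¹ * (D.t * D.t)⁻¹) := by group
      _ = _ := by rw [D.tt]; group

theorem mem_S {u : G} (uz : u * D.z = D.z * u) (hu : u ∈ normalizer (D.J : Set G)) (u3 : u ^ 3 = 1) :
    u ∈ (D.S : Subgroup G) :=
  (D.S.is_maximal' (D.S.isPGroup'.to_sup_of_normal_left' (Solv.PG.isPGroup_zpowers (k := 1) u3)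
    (zpowers_le.2 (D.l.mem_NS (Mc3.mem_nz_of_comm uz) (D.JS D.sJ) D.sQ
      (D.JS (conj_of_norm hu D.sJ))))) le_sup_left).le (mem_sup_right (mem_zpowers u))

theorem br_S {u v : G} (hu : u ∈ (D.S : Subgroup G)) (hv : v ∈ (D.S : Subgroup G)) : ⁅u, v⁆ ∈ D.Q :=
  (Solv.PG.commutator_le_of_card_eq_prime_mul (hp := ⟨Nat.prime_three⟩) D.S.isPGroup' D.S.isPGroup'
    (fun _ h => D.l.nQ' (D.l.LN (D.l.SL h))) le_normalizer D.l.QS
    (by rw [D.l.cardS, D.l.cardQ])).1 (commutator_mem_commutator hu hv)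

theorem mem_of_zp {A : Subgroup G} {c : G} (hc : c ∈ zpowers D.z) (h1 : c ≠ 1) (h : c ∈ A) :
    D.z ∈ A := by
  rcases (Mc3.mem_zp3 D.l.z3).1 hc with e | e | e
  exacts [absurd e h1, e ▸ h, inv_mem_iff.1 (e ▸ h)]

theorem sym {x n : G} (xJ : x ∈ D.J) (xQ : x ∈ D.Q) (xZ : x ∉ zpowers D.z)
    (hn : n ∈ normalizer (D.J : Set G)) (e : n * D.z * n⁻¹ = x) :
    n⁻¹ * D.z * n ∈ D.Q ∧ (∃ g, g ^ 3 = 1 ∧ g * x = x * g ∧ g * D.z * g⁻¹ = D.z * x) ∧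
      (∃ q ∈ D.Q, q ∉ D.J ∧ q * x = x * q ∧ ∀ y ∈ D.J, ⁅q, y⁆ ∈ closure {D.z, x}) ∧
      ∃ y ∈ D.J, y ∈ D.Q ∧ n * y * n⁻¹ ∉ D.Q := by
  have h1 : n⁻¹ * D.z * n ∈ D.Q := by
    obtain ⟨u, hu, v, hv, h⟩ : ∃ u ∈ D.Q ⊓ centralizer {x}, ∃ v ∈ D.Q ⊓ centralizer {x},
        u * v ≠ v * u := by
      by_contra! h
      exact D.l.not_le_Q h (le_antisymm (D.card_CQ' xZ) (D.card_CQ xQ)) inf_le_left
    have k : ∀ u ∈ D.Q ⊓ centralizer {x}, n⁻¹ * u * n⁻¹⁻¹ ∈ (D.S : Subgroup G) := fun u hu =>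
      D.mem_S (by simpa [← e, mul_assoc] using comm_conj' n⁻¹ (mem_centralizer_singleton_iff.1 hu.2))
        (mul_mem (mul_mem (inv_mem hn) (D.QN hu.1)) (inv_mem (inv_mem hn)))
        (cube_conj _ (D.l.cube u hu.1))
    refine Trans.mem_cj.1 (D.mem_of_zp (D.l.comm u hu.1 v hv.1)
      (mt commutatorElement_eq_one_iff_mul_comm.1 h) (Trans.mem_cj.2 ?_))
    have := D.br_S (k u hu) (k v hv)
    rwa [bracket_conj, inv_inv] at this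
  have h2 : n⁻¹ * D.z * n ∉ zpowers D.z := fun h => xZ (e ▸ Mc3.conj_zp
    (inv_mem_iff.1 (Mc3.mem_nz (n := n⁻¹) (by rwa [inv_inv]))) (mem_zpowers _))
  obtain ⟨g, hg, h3⟩ := D.conj_z h1 h2 (mem_zpowers _)
  obtain ⟨r, hr, rJ, h4⟩ := D.exists_q0 h1
  have rx : n * r * n⁻¹ * x = x * (n * r * n⁻¹) := e ▸ comm_conj' n (D.l.Qz hr)
  obtain ⟨j, hj, q, hq, h5⟩ := D.S_eq (D.stab x xJ xQ xZ (n * r * n⁻¹)
    (by simpa [mul_assoc] using comm_conj' n h4) (D.br_one rx))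
  have qJ : q ∉ D.J := fun h => rJ ((mem_normalizer_iff.1 hn r).2 (h5 ▸ mul_mem h hj))
  have h6 : ∀ y ∈ D.J, ⁅q, y⁆ = n * ⁅r, n⁻¹ * y * n⁆ * n⁻¹ := fun y hy => by
    rw [← bracket_conj, h5, show n * (n⁻¹ * y * n) * n⁻¹ = y by group, Mc3.comm_mul_left,
      commutatorElement_eq_one_iff_mul_comm.2 (D.Jc j hj y hy)]; group
  have h7 : ∀ y ∈ D.J, y ∈ D.Q → n⁻¹ * y * n ∈ D.Q → q * y = y * q := fun y hy h h' => by
    by_contra h8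
    refine h2 (Trans.mem_cj.1 (D.mem_of_zp (D.l.comm q hq y h)
      (mt commutatorElement_eq_one_iff_mul_comm.1 h8) ?_))
    rw [h6 y hy]
    exact Trans.conj_mem_cj.2 (D.l.comm r hr _ h')
  have qx := h7 x xJ xQ (by simpa [← e, mul_assoc] using D.l.zQ)
  refine ⟨h1, ⟨n * g * n⁻¹, cube_conj _ (D.l.cube g hg), e ▸ comm_conj' n (D.l.Qz hg), ?_⟩,
    ⟨q, hq, qJ, qx, fun y hy => D.cJq xJ xQ xZ hq qJ qx (D.br_mem hq hy).1
      (h7 _ (D.br_mem hq hy).1 (D.br_mem hq hy).2 ?_)⟩, ?_⟩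
  · calc _ = n * (g * (n⁻¹ * D.z * n) * g⁻¹) * n⁻¹ := by group
      _ = _ := by rw [h3, ← D.Jz xJ, ← e]; group
  · simpa [h6 y hy, mul_assoc] using (D.br_mem hr (conj_of_norm' hn hy)).2
  · by_contra! h
    exact qJ (D.cent_A hq fun w h8 h9 => h7 w h8 h9 (conj_of_norm' (A := D.J ⊓ D.Q)
      (mem_norm_of fun y hy => ⟨conj_of_norm hn hy.1, h y hy.1 hy.2⟩) ⟨h8, h9⟩).2)

theorem exists_z1 (hz : ∃ g, g * D.z * g⁻¹ ∈ D.Q ∧ g * D.z * g⁻¹ ∉ zpowers D.z) :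
    ∃ x ∈ D.J, x ∈ D.Q ∧ x ∉ zpowers D.z ∧ D.t * x * D.t⁻¹ = x⁻¹ ∧ IsConj D.z x := by
  obtain ⟨g, h1, h2⟩ := hz
  obtain ⟨l, hl, h3⟩ := D.l.spread D.JS D.Jc D.cardJ h1
  have h4 : l⁻¹ * (g * D.z * g⁻¹) * l ∈ D.Q := conj_of_norm' (D.l.nQ' (D.l.LN hl)) h1
  have h5 : l⁻¹ * (g * D.z * g⁻¹) * l ∉ zpowers D.z := fun h =>
    h2 (by simpa [mul_assoc] using Mc3.conj_zp (D.l.LN hl) h)
  have h6 : IsConj D.z (l⁻¹ * (g * D.z * g⁻¹) * l) := isConj_iff.2 ⟨l⁻¹ * g, by group⟩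
  generalize l⁻¹ * (g * D.z * g⁻¹) * l = x at h3 h4 h5 h6
  have h7 := D.l.t_inv D.tL D.tt D.pt h4
  obtain ⟨q, hq, h8⟩ := D.conj_z h4 h5 h7
  set c := D.t * x * D.t⁻¹ * x with hc
  refine ⟨c * x, mul_mem (D.ZJ h7) h3, mul_mem (D.l.ZQ h7) h4,
    fun h => h5 ((mul_mem_cancel_left h7).1 h), ?_, h6.trans (isConj_iff.2 ⟨q, h8⟩)⟩
  rw [eq_inv_iff_mul_eq_one, ← D.l.cube c (D.l.ZQ h7), ← conj_mul, Mc3.conj_zp_eq D.tz h7,
    ← Mc3.comm_zp (D.l.Qz h4) h7, pow_three]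
  simp only [hc, mul_assoc]

end J1

end Cfsg.Lib.HN3
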