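import Cfsg.Agent.HN3.Jd2

/-!
The second class of elements of order three.
-/

set_option autoImplicit false

namespace Cfsg.Lib.HN3

open Subgroup Cfsg.Lib.Perm Cfsg.Lib.Local
open Cfsg.Lib.Mc3 (LS)
open scoped commutatorElement

namespace J1

variable {G : Type*} [Group G] [Finite G] (D : J1 G)

omit [Finite G] in
theorem br_left {a b c : G} (ha : a ∈ D.Q) (hb : b ∈ D.Q) (hc : c ∈ D.Q) :
    ⁅a * b, c⁆ = ⁅b, c⁆ * ⁅a, c⁆ := by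
  rw [Mc3.comm_mul_left, Mc3.conj_zp_eq (D.l.Qz ha) (D.l.comm b hb c hc)]

omit [Finite G] in
theorem br_right {a b c : G} (ha : a ∈ D.Q) (hb : b ∈ D.Q) (hc : c ∈ D.Q) :
    ⁅a, b * c⁆ = ⁅a, b⁆ * ⁅a, c⁆ := by
  rw [Mc3.comm_mul_right, Mc3.conj_zp_eq (D.l.Qz hb) (D.l.comm a ha c hc)]

theorem br_symm {p q : G} (hp : p ∈ D.Q) (hq : q ∈ D.Q) (h : Commute q ⁅p, D.s⁆) :
    Commute p ⁅q, D.s⁆ := by
  have hu := D.br_mem hq D.sJ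
  have hv := D.br_mem hp D.sJ
  have c : Commute ⁅q, D.s⁆ ⁅p, D.s⁆ := D.Jc _ hu.1 _ hv.1
  have e := Mc3.conj_comm D.s q p
  rw [Mc3.conj_zp_eq (D.Jz D.sJ) (D.l.comm q hq p hp),
    show D.s * q * D.s⁻¹ = ⁅q, D.s⁆⁻¹ * q by group, show D.s * p * D.s⁻¹ = ⁅p, D.s⁆⁻¹ * p by group,
    D.br_right (mul_mem (inv_mem hu.2) hq) (inv_mem hv.2) hp,
    commutatorElement_eq_one_iff_commute.2 (c.inv_left.mul_left h).inv_right, one_mul,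
    D.br_left (inv_mem hu.2) hq hp, left_eq_mul, commutatorElement_eq_one_iff_commute] at e
  exact (Commute.inv_left_iff.1 e).symm

theorem not_fix' {x : G} (hx : x ∈ D.Q) (h : D.f * x * D.f⁻¹ ∈ closure {D.z, x}) :
    x ∈ zpowers D.z :=
  D.not_fix hx ((closure_le _).2 (by
    rintro _ (rfl | rfl)
    exacts [mem_sup_left (mem_zpowers _), mem_sup_right (mem_zpowers _)]) h)

theorem br_ne {x q1 q : G} (xJ : x ∈ D.J) (xQ : x ∈ D.Q) (xZ : x ∉ zpowers D.z)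
    (tx : D.t * x * D.t⁻¹ = x⁻¹) (q1Q : q1 ∈ D.Q) (q1J : q1 ∉ D.J) (q1x : q1 * x = x * q1)
    (q1W : ∀ y ∈ D.J, ⁅q1, y⁆ ∈ closure {D.z, x}) (hq : q ∈ D.Q) (qJ : q ∉ D.J)
    (qa : q * (x * (D.f * x * D.f⁻¹)) = x * (D.f * x * D.f⁻¹) * q) : ⁅q, ⁅q, D.s⁆⁆ ≠ 1 := fun h => by
  have nZ : ∀ p ∈ D.Q, p ∉ D.J → ⁅p, D.s⁆ ∉ zpowers D.z := fun p hp hJ h =>
    hJ (D.mem_J_of_br hp (D.JS D.sJ) D.sQ (by simpa using inv_mem h))
  have x2J := conj_of_norm D.fN xJ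
  have x2Q := D.conjQ D.fz xQ
  have q2Q := D.conjQ D.fz q1Q
  have pQ := mul_mem q1Q (inv_mem q2Q)
  have aQ := mul_mem xQ x2Q
  have y2 := D.br_mem q2Q D.sJ
  have ZK : zpowers D.z ≤ centralizer {q} :=
    zpowers_le.2 (mem_centralizer_singleton_iff.2 (D.l.Qz hq).symm)
  have aK : x * (D.f * x * D.f⁻¹) ∈ centralizer {q} := mem_centralizer_singleton_iff.2 qa.symm
  have k1 : D.f * ⁅q1, D.s⁆ * D.f⁻¹ * ⁅q1, D.s⁆ ∈ centralizer {q} := by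
    obtain ⟨c, hc, d, hd, e⟩ := (mem_cl_pair (D.Jz xJ).symm).1 (q1W _ D.sJ)
    have dJ := zpowers_le.2 xJ hd
    rw [e, ← conj_mul, Mc3.conj_zp_eq D.fz hc, mul_assoc, ← mul_assoc _ c,
      D.Jc _ (conj_of_norm D.fN dJ) _ (D.ZJ hc), mul_assoc c]
    refine mul_mem (ZK hc) (mul_mem (ZK hc) ?_)
    rcases (Mc3.mem_zp3 (D.ord3 xJ fun e => xZ (e ▸ one_mem _))).1 hd with rfl | rfl | rfl
    · simp
    · exact D.Jc _ xJ _ x2J ▸ aK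
    · rw [← conj_inv, ← mul_inv_rev]; exact inv_mem aK
  have k2 : D.f * ⁅q1, D.s⁆ * D.f⁻¹ = ⁅D.f * q1 * D.f⁻¹, D.s⁆⁻¹ := by
    rw [Mc3.conj_comm, D.fs, ← conj_eq_of_comm (D.Jc _ (inv_mem D.sJ) _ (inv_mem y2.1))]
    group
  have k3 : Commute q ⁅q1 * (D.f * q1 * D.f⁻¹)⁻¹, D.s⁆ := by
    have := mul_mem (ZK (D.l.comm _ pQ _ (inv_mem y2.2))) (k2 ▸ k1)
    refine (mem_centralizer_singleton_iff.1 ?_).symm
    convert this using 1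
    generalize D.f * q1 * D.f⁻¹ = q2
    group
  have u := D.br_mem hq D.sJ
  have k4 := D.cent2 u.1 u.2 (nZ q hq qJ) hq qJ (commutatorElement_eq_one_iff_mul_comm.1 h)
    (D.l.Qz pQ) (D.br_symm pQ hq k3)
  have k5 := mem_centralizer_singleton_iff.1 ((sup_le
    (fun y hy => mem_centralizer_singleton_iff.2 (D.Jc y hy _ (mul_mem xJ x2J)))
    (zpowers_le.2 (mem_centralizer_singleton_iff.2 qa)) : _ ≤ centralizer {_}) k4)
  have k6 := D.br_left pQ q2Q aQ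
  have hζ := D.l.comm _ q1Q _ x2Q
  have k7 : ⁅D.f * q1 * D.f⁻¹, x⁻¹⁆ = ⁅q1, D.f * x * D.f⁻¹⁆ := by
    rw [← Mc3.conj_zp_eq D.fz hζ, Mc3.conj_comm, ← tx, ← D.ff]
    congr 1; group
  have k8 := D.br_right q2Q xQ (inv_mem xQ)
  rw [inv_mul_cancel_right, commutatorElement_eq_one_iff_mul_comm.2 k5, mul_one,
    D.br_right q1Q xQ x2Q, D.br_right q2Q xQ x2Q, commutatorElement_eq_one_iff_mul_comm.2 q1x,
    commutatorElement_eq_one_iff_mul_comm.2 (comm_conj' _ q1x), one_mul, mul_one] at k6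
  rw [mul_inv_cancel, commutatorElement_one_right, k7, ← k6] at k8
  exact xZ (D.not_fix' xQ (D.cJq xJ xQ xZ q1Q q1J q1x x2J (commutatorElement_eq_one_iff_mul_comm.1
    (D.eq_one_of_inv (D.ZJ hζ) (inv_eq_of_mul_eq_one_right k8.symm)))))

theorem not_conj {x : G} (xJ : x ∈ D.J) (xQ : x ∈ D.Q) (xZ : x ∉ zpowers D.z)
    (tx : D.t * x * D.t⁻¹ = x⁻¹) (zx : IsConj D.z x) :
    ¬ IsConj D.z (x * (D.f * x * D.f⁻¹)) := fun h => by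
  have aJ := mul_mem xJ (conj_of_norm D.fN xJ)
  have aQ := mul_mem xQ (D.conjQ D.fz xQ)
  have aZ : x * (D.f * x * D.f⁻¹) ∉ zpowers D.z := fun h1 => xZ (D.not_fix xQ
    ((mul_mem_cancel_left (mem_sup_right (mem_zpowers x))).1 (mem_sup_left h1)))
  obtain ⟨n, hn, e⟩ := D.fus _ D.zJ _ xJ zx
  obtain ⟨-, -, ⟨q1, h1, h2, h3, h4⟩, -⟩ := D.sym xJ xQ xZ hn e
  obtain ⟨m, hm, e'⟩ := D.fus _ D.zJ _ aJ h
  obtain ⟨-, -, ⟨q, k1, k2, k3, k4⟩, -⟩ := D.sym aJ aQ aZ hm e'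
  refine D.br_ne xJ xQ xZ tx h1 h2 h3 h4 k1 k2 k3 (commutatorElement_eq_one_iff_mul_comm.2
    (mem_centralizer_singleton_iff.1 ((closure_le (centralizer {q})).2 ?_ (k4 _ D.sJ))).symm)
  rintro _ (rfl | rfl)
  exacts [mem_centralizer_singleton_iff.2 (D.l.Qz k1).symm, mem_centralizer_singleton_iff.2 k3.symm]

end J1

end Cfsg.Lib.HN3
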