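import Cfsg.Agent.HN3.Jd2
import Cfsg.Agent.CIT.Conf

/-!
The conjugacy classes in the elementary abelian subgroup of order `81`.
-/

set_option autoImplicit false
set_option linter.unusedSectionVars false

namespace Cfsg.Lib.HN3

open Subgroup Cfsg.Lib.Perm Cfsg.Lib.Local
open Cfsg.Lib.Mc3 (LS)
open scoped commutatorElement

namespace J1

variable {G : Type*} [Group G] [Finite G] (D : J1 G)

/-- The normaliser of `J` in the centraliser of `z`. -/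
abbrev H : Subgroup G := normalizer (D.J : Set G) ⊓ centralizer {D.z}

theorem cardH : Nat.card D.H = 2916 := by
  rw [← D.cardSf, show D.H = (D.S : Subgroup G) ⊔ zpowers D.f from le_antisymm
    (fun g hg => (D.nJz g (mem_centralizer_singleton_iff.1 hg.2)).1 hg.1)
    (sup_le (le_inf D.SN D.l.SL) (zpowers_le.2 ⟨D.fN, D.fL⟩))]
theorem QH : D.Q ≤ D.H := le_inf D.QN D.l.QL
theorem JH : D.J ≤ D.H := le_inf le_normalizer (D.JS.trans D.l.SL)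
theorem fH : D.f ∈ D.H := ⟨D.fN, D.fL⟩
theorem tH : D.t ∈ D.H := ⟨D.tN, D.tL⟩
theorem conjA {g y : G} (hg : g ∈ D.H) (hy : y ∈ D.J ⊓ D.Q) : g * y * g⁻¹ ∈ D.J ⊓ D.Q :=
  ⟨conj_of_norm hg.1 hy.1, D.conjQ (mem_centralizer_singleton_iff.1 hg.2) hy.2⟩
theorem conjZ {g c : G} (hg : g ∈ D.H) (hc : c ∈ zpowers D.z) : g * c * g⁻¹ = c :=
  Mc3.conj_zp_eq (mem_centralizer_singleton_iff.1 hg.2) hc

theorem A_eq {y : G} (hy : y ∈ D.J ⊓ D.Q) (yZ : y ∉ zpowers D.z) :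
    zpowers D.z ⊔ zpowers y ⊔ zpowers (D.f * y * D.f⁻¹) = D.J ⊓ D.Q := by
  have h0 : zpowers D.z ⊔ zpowers y ⊔ zpowers (D.f * y * D.f⁻¹) ≤ D.J ⊓ D.Q :=
    sup_le (sup_le D.ZA (zpowers_le.2 hy)) (zpowers_le.2 (D.conjA D.fH hy))
  have h1 := D.three_mul_le (left_lt_sup.2 fun h : zpowers y ≤ zpowers D.z => yZ (h (mem_zpowers y)))
    (le_sup_left.trans (h0.trans (inf_le_left.trans D.JS)))
  have h2 := D.three_mul_le (left_lt_sup.2 fun h : zpowers (D.f * y * D.f⁻¹) ≤ _ =>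
    yZ (D.not_fix hy.2 (h (mem_zpowers _)))) (h0.trans (inf_le_left.trans D.JS))
  rw [D.l.cardZ] at h1
  exact CD.eq_of_le_of_card_ge h0 (by rw [D.cardA]; omega)

/-- the orbits outside `Q` -/
theorem orb_s {y : G} (yJ : y ∈ D.J) (yQ : y ∉ D.Q) :
    ∃ g ∈ D.H, ∃ c ∈ zpowers D.z, g * y * g⁻¹ = D.s * c := by
  have key : ∀ α ∈ D.J ⊓ D.Q, ∃ g ∈ D.H, ∃ c ∈ zpowers D.z, g * (α * D.s) * g⁻¹ = D.s * c := by
    intro α hα
    have e1 := relIndex_mul_card' (inf_le_right : D.J ⊓ D.Q ≤ D.Q)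
    have e2 := relIndex_mul_card' D.ZA
    rw [D.cardA, D.l.cardQ] at e1
    rw [D.cardA, D.l.cardZ] at e2
    obtain ⟨q, hq, h⟩ := (relIndex_le_of (Q := D.Q) (K := D.J ⊓ D.Q) (A := D.J ⊓ D.Q)
      (Z := zpowers D.z) (fun q => ⁅D.s, q⁆) (fun q hq => by
        simpa using inv_mem (D.br_mem hq D.sJ)) fun q hq q' hq' h => by
          have h1 := mul_mem (inv_mem hq) hq'
          refine ⟨D.mem_J_of_br h1 (D.JS D.sJ) D.sQ ?_, h1⟩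
          rw [← D.conjZ (inv_mem (D.QH hq)) h] at h
          convert h using 1; group).2 (by omega) α hα
    refine ⟨q, D.QH hq, _, mul_mem (D.l.comm q hq α hα.2) h, ?_⟩
    rw [D.Jc _ D.sJ _ (D.ZJ (mul_mem (D.l.comm q hq α hα.2) h)),
      D.Jc _ (by simpa using (D.br_mem hq D.sJ).1) α hα.1]
    group
  rcases D.l.S_cases (D.JS D.sJ) D.sQ (D.JS yJ) with e | e | e
  · exact absurd e yQ
  · simpa using key _ (mem_inf.2 ⟨mul_mem yJ (inv_mem D.sJ), e⟩)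
  · obtain ⟨g, hg, c, hc, h⟩ := key _ (D.conjA (inv_mem D.fH) ⟨mul_mem yJ D.sJ, e⟩)
    refine ⟨g * D.f⁻¹, mul_mem hg (inv_mem D.fH), c, hc, ?_⟩
    rw [← h, show D.f⁻¹ * (y * D.s) * D.f⁻¹⁻¹ * D.s = D.f⁻¹ * (y * D.s * (D.f * D.s * D.f⁻¹)) * D.f
      by group, D.fs]
    group

theorem orb_le {y : G} {K : Subgroup G} {n : ℕ} (h : K ≤ D.H ⊓ centralizer {y})
    (hn : 2916 ≤ n * Nat.card K) : {w | ∃ g ∈ D.H, g * y * g⁻¹ = w}.ncard ≤ n := by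
  have h1 := CIT.card_eq_ncard_mul D.H y
  have h2 := CD.card_le_of_le h
  have h3 : 0 < Nat.card K := Nat.card_pos
  rw [D.cardH] at h1
  nlinarith

theorem orb_A {y : G} (hy : y ∈ D.J ⊓ D.Q) : {w | ∃ g ∈ D.H, g * y * g⁻¹ = w}.ncard ≤ 12 := by
  obtain ⟨q, hq, qJ, h⟩ := D.exists_q0 hy.2
  have := D.three_mul_le (left_lt_sup.2 fun h : zpowers q ≤ D.J => qJ (h (mem_zpowers q)))
    (sup_le D.JS (zpowers_le.2 (D.l.QS hq)))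
  rw [D.cardJ] at this
  exact D.orb_le (K := D.J ⊔ zpowers q) (sup_le (fun j hj => ⟨D.JH hj,
    mem_centralizer_singleton_iff.2 (D.Jc j hj y hy.1)⟩)
    (zpowers_le.2 ⟨D.QH hq, mem_centralizer_singleton_iff.2 h⟩)) (by omega)

theorem orb_t {c : G} (hc : c ∈ zpowers D.z) :
    {w | ∃ g ∈ D.H, g * (D.s * c) * g⁻¹ = w}.ncard ≤ 18 := by
  have := two_mul_le_of_lt (left_lt_sup.2 fun h : zpowers D.t ≤ D.J =>
    D.l.t_notMem D.tL D.pt (D.eq_one_of_inv (h (mem_zpowers _)) D.t_inv ▸ one_mem _))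
  rw [D.cardJ] at this
  exact D.orb_le (K := D.J ⊔ zpowers D.t) (sup_le (fun j hj => ⟨D.JH hj,
    mem_centralizer_singleton_iff.2 (D.Jc j hj _ (mul_mem D.sJ (D.ZJ hc)))⟩) (zpowers_le.2 ⟨D.tH,
      mem_centralizer_singleton_iff.2 (Commute.mul_right D.ts (Mc3.comm_zp D.tz hc))⟩)) (by omega)

variable {x : G} (xA : x ∈ D.J ⊓ D.Q) (xZ : x ∉ zpowers D.z) (tx : D.t * x * D.t⁻¹ = x⁻¹)
include xA xZ tx

theorem f_x2 : D.f * (D.f * x * D.f⁻¹) * D.f⁻¹ = x⁻¹ := by rw [← tx, ← D.ff]; group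
theorem t_x2 : D.t * (D.f * x * D.f⁻¹) * D.t⁻¹ = (D.f * x * D.f⁻¹)⁻¹ := by
  rw [conj_inv, ← tx, ← D.ff]; group
theorem aA : x * (D.f * x * D.f⁻¹) ∈ D.J ⊓ D.Q := mul_mem xA (D.conjA D.fH xA)
theorem aZ : x * (D.f * x * D.f⁻¹) ∉ zpowers D.z := fun h => xZ (D.not_fix xA.2 (by
  rw [D.Jc _ xA.1 _ (D.conjA D.fH xA).1] at h
  exact (mul_mem_cancel_right (mem_sup_right (mem_zpowers x))).1 (mem_sup_left h)))
theorem ta : D.t * (x * (D.f * x * D.f⁻¹)) * D.t⁻¹ = (x * (D.f * x * D.f⁻¹))⁻¹ := by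
  rw [← conj_mul, tx, D.t_x2 xA xZ tx, ← mul_inv_rev, D.Jc _ xA.1 _ (D.conjA D.fH xA).1]

theorem A_cases {y : G} (hy : y ∈ D.J ⊓ D.Q) : ∃ c ∈ zpowers D.z, y = c ∨ ∃ g ∈ zpowers D.f,
    y = c * (g * x * g⁻¹) ∨ y = c * (g * (x * (D.f * x * D.f⁻¹)) * g⁻¹) := by
  have h2 := D.conjA D.fH xA
  have e := D.A_eq xA xZ
  obtain ⟨_, h, v, hv, rfl⟩ := (mem_sup_comm fun a ha b hb =>
    D.Jc a (e.le (mem_sup_left ha)).1 b (e.le (mem_sup_right hb)).1).1 (e.ge hy)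
  obtain ⟨c, hc, u, hu, rfl⟩ := (mem_sup_comm fun a ha b hb =>
    D.Jc a (D.ZJ ha) b (zpowers_le.2 xA.1 hb)).1 h
  have x1 : x ≠ 1 := fun e => xZ (e ▸ one_mem _)
  have f1 := mem_zpowers D.f
  have t1 : D.t ∈ zpowers D.f := D.ff ▸ mul_mem f1 f1
  have k1 := D.t_x2 xA xZ tx
  have k2 := D.ta xA xZ tx
  have k3 : D.f * (x * (D.f * x * D.f⁻¹)) * D.f⁻¹ = x⁻¹ * (D.f * x * D.f⁻¹) := by
    rw [← conj_mul, D.f_x2 xA xZ tx, D.Jc _ h2.1 _ (inv_mem xA.1)]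
  have k4 : ∀ y, D.t * D.f * y * (D.t * D.f)⁻¹ = D.t * (D.f * y * D.f⁻¹) * D.t⁻¹ := fun y => by group
  refine ⟨c, hc, ?_⟩
  rcases (Mc3.mem_zp3 (D.ord3 xA.1 x1)).1 hu with rfl | rfl | rfl <;>
    rcases (Mc3.mem_zp3 (D.ord3 h2.1 (mt conj_eq_one_iff.1 x1))).1 hv with rfl | rfl | rfl
  · exact Or.inl (by group)
  · exact Or.inr ⟨_, f1, Or.inl (by group)⟩
  · exact Or.inr ⟨_, mul_mem t1 f1, Or.inl (by rw [k4, k1, mul_one])⟩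
  · exact Or.inr ⟨1, one_mem _, Or.inl (by group)⟩
  · exact Or.inr ⟨1, one_mem _, Or.inr (by group)⟩
  · exact Or.inr ⟨_, mul_mem t1 f1, Or.inr (by
      rw [k4, k3, ← conj_mul, k1, ← conj_inv, tx, inv_inv, mul_assoc])⟩
  · exact Or.inr ⟨_, t1, Or.inl (by rw [tx, mul_one])⟩
  · exact Or.inr ⟨_, f1, Or.inr (by rw [k3, mul_assoc])⟩
  · exact Or.inr ⟨_, t1, Or.inr (by rw [← conj_mul, tx, k1, mul_assoc])⟩

omit tx in
theorem orb_z {c g : G} (hc : c ∈ zpowers D.z) (hg : g ∈ D.H) :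
    ∃ h ∈ D.H, h * x * h⁻¹ = c * (g * x * g⁻¹) := by
  obtain ⟨q, hq, e⟩ := D.conj_z xA.2 xZ hc
  exact ⟨g * q, mul_mem hg (D.QH hq), by rw [← D.conjZ hg hc, conj_mul, ← e]; group⟩

theorem orb_cases {y : G} (yJ : y ∈ D.J) : y ∈ zpowers D.z ∨ (∃ g ∈ D.H, g * x * g⁻¹ = y) ∨
    (∃ g ∈ D.H, g * (x * (D.f * x * D.f⁻¹)) * g⁻¹ = y) ∨ (∃ g ∈ D.H, g * (D.s * 1) * g⁻¹ = y) ∨
    (∃ g ∈ D.H, g * (D.s * D.z) * g⁻¹ = y) ∨ ∃ g ∈ D.H, g * (D.s * D.z⁻¹) * g⁻¹ = y := by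
  by_cases yQ : y ∈ D.Q
  · obtain ⟨c, hc, rfl | ⟨g, hg, rfl | rfl⟩⟩ := D.A_cases xA xZ tx ⟨yJ, yQ⟩
    exacts [Or.inl hc, Or.inr (Or.inl (D.orb_z xA xZ hc (zpowers_le.2 D.fH hg))), Or.inr (Or.inr
      (Or.inl (D.orb_z (D.aA xA xZ tx) (D.aZ xA xZ tx) hc (zpowers_le.2 D.fH hg))))]
  obtain ⟨g, hg, c, hc, e⟩ := D.orb_s yJ yQ
  have : ∃ g ∈ D.H, g * (D.s * c) * g⁻¹ = y := ⟨g⁻¹, inv_mem hg, by rw [← e]; group⟩
  rcases (Mc3.mem_zp3 D.l.z3).1 hc with rfl | rfl | rfl <;> simp only [this, true_or, or_true]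

variable (zx : IsConj D.z x) (az : ¬ IsConj D.z (x * (D.f * x * D.f⁻¹)))
include zx az

theorem inv_z {y : G} (h : IsConj D.z y) : IsConj D.z y⁻¹ := by
  have k : ∀ {u v : G}, IsConj u v → IsConj u⁻¹ v⁻¹ := fun h => by
    obtain ⟨c, rfl⟩ := isConj_iff.1 h
    exact isConj_iff.2 ⟨c, conj_inv.symm⟩
  exact ((zx.trans (isConj_iff.2 ⟨_, tx⟩)).trans (k zx).symm).trans (k h)

theorem inv_a {y : G} (h : IsConj (x * (D.f * x * D.f⁻¹)) y) :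
    IsConj (x * (D.f * x * D.f⁻¹)) y⁻¹ := by
  obtain ⟨c, rfl⟩ := isConj_iff.1 h
  exact (isConj_iff.2 ⟨_, D.ta xA xZ tx⟩).trans (isConj_iff.2 ⟨c, conj_inv.symm⟩)

theorem partner {y : G} (hy : y ∈ D.J ⊓ D.Q) (yZ : y ∉ zpowers D.z) (h : IsConj D.z y) :
    IsConj (x * (D.f * x * D.f⁻¹)) (y * (D.f * y * D.f⁻¹)) ∧
      IsConj (x * (D.f * x * D.f⁻¹)) (y⁻¹ * (D.f * y * D.f⁻¹)) := by
  obtain ⟨c, hc, rfl | ⟨g, hg, rfl | rfl⟩⟩ := D.A_cases xA xZ tx hy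
  · exact absurd hc yZ
  · have gH := zpowers_le.2 D.fH hg
    have h1 : D.f * (c * (g * x * g⁻¹)) * D.f⁻¹ = c * (g * (D.f * x * D.f⁻¹) * g⁻¹) := by
      rw [← conj_mul, D.conjZ D.fH hc]
      congr 1
      calc _ = D.f * g * x * (D.f * g)⁻¹ := by group
        _ = _ := by rw [Mc3.comm_zp rfl hg]; group
    have h2 := (D.conjA gH xA).1
    obtain ⟨q, -, e⟩ := D.orb_z (D.aA xA xZ tx) (D.aZ xA xZ tx) (mul_mem hc hc) gH
    refine ⟨isConj_iff.2 ⟨q, ?_⟩, isConj_iff.2 ⟨g * D.f, ?_⟩⟩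
    · rw [e, h1, ← conj_mul, mul_assoc c _ (c * _), ← mul_assoc _ c, D.Jc _ h2 c (D.ZJ hc)]
      simp only [mul_assoc]
    · rw [h1, mul_inv_rev c, mul_assoc _ c⁻¹, inv_mul_cancel_left, conj_inv, conj_mul,
        D.Jc _ (inv_mem xA.1) _ (D.conjA D.fH xA).1, ← D.f_x2 xA xZ tx]
      group
  · obtain ⟨q, -, e⟩ := D.orb_z (D.aA xA xZ tx) (D.aZ xA xZ tx) hc (zpowers_le.2 D.fH hg)
    exact absurd (h.trans (isConj_iff.2 ⟨q, e⟩ : IsConj _ _).symm) az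

theorem cls_s : IsConj D.z D.s ∧ IsConj (x * (D.f * x * D.f⁻¹)) (D.s * D.z) ∧
    IsConj (x * (D.f * x * D.f⁻¹)) (D.s * D.z⁻¹) := by
  obtain ⟨n, hn, e⟩ := D.fus _ D.zJ x xA.1 zx
  obtain ⟨h1, -, -, y, yJ, yQ, h2⟩ := D.sym xA.1 xA.2 xZ hn e
  have h3 : n⁻¹ * D.z * n ∈ D.J ⊓ D.Q := ⟨conj_of_norm' hn D.zJ, h1⟩
  have h4 : n⁻¹ * D.z * n ∉ zpowers D.z := fun h => xZ (e ▸ Mc3.conj_zp
    (inv_mem_iff.1 (Mc3.mem_nz (n := n⁻¹) (by rwa [inv_inv]))) (mem_zpowers _))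
  obtain ⟨h5, h6⟩ := D.partner xA xZ tx zx az h3 h4 (isConj_iff.2 ⟨n⁻¹, by rw [inv_inv]⟩)
  set w := D.f * (n⁻¹ * D.z * n) * D.f⁻¹ with hw
  obtain ⟨g, hg, c, hc, h7⟩ := D.orb_s (conj_of_norm hn (D.conjA D.fH h3).1) fun h =>
    h2 (Trans.mem_cj_inv.1 ((sup_le (sup_le (zpowers_le.2 (Trans.mem_cj_inv.2 (e ▸ xA.2)))
      (zpowers_le.2 (Trans.mem_cj_inv.2 (by simpa [mul_assoc] using D.l.zQ))))
      (zpowers_le.2 (Trans.mem_cj_inv.2 h)) : _ ≤ Trans.cj n⁻¹ D.Q) ((D.A_eq h3 h4).ge ⟨yJ, yQ⟩)))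
  have k0 : IsConj D.z (D.s * c) := isConj_iff.2 ⟨g * n * D.f * n⁻¹, by rw [← h7]; group⟩
  have k : ∀ u ∈ zpowers D.z, IsConj (n⁻¹ * u * n * w) (D.s * (c * u)) := fun u hu =>
    isConj_iff.2 ⟨g * n, by
      calc _ = g * u * g⁻¹ * (g * (n * w * n⁻¹) * g⁻¹) := by group
        _ = _ := by rw [D.conjZ hg hu, h7, D.Jc u (D.ZJ hu) _ (mul_mem D.sJ (D.ZJ hc)), mul_assoc]⟩
  have k1 := h5.trans (k _ (mem_zpowers _))
  rw [show (n⁻¹ * D.z * n)⁻¹ = n⁻¹ * D.z⁻¹ * n by group] at h6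
  have k2 := h6.trans (k _ (inv_mem (mem_zpowers _)))
  have zz : D.z * D.z = D.z⁻¹ := by rw [eq_inv_iff_mul_eq_one, ← pow_three', D.J3 _ D.zJ]
  have k3 : IsConj (D.s * D.z) (D.s * D.z⁻¹)⁻¹ := isConj_iff.2 ⟨D.f, by
    rw [← conj_mul, D.fs, conj_eq_of_comm D.fz, mul_inv_rev, inv_inv, D.Jz (inv_mem D.sJ)]⟩
  rcases (Mc3.mem_zp3 D.l.z3).1 hc with rfl | rfl | rfl
  · rw [one_mul] at k1 k2
    exact ⟨mul_one D.s ▸ k0, k1, k2⟩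
  · rw [zz] at k1
    exact absurd ((k0.trans k3).trans (D.inv_a xA xZ tx zx az k1).symm) az
  · rw [← mul_inv_rev, zz, inv_inv] at k2
    exact absurd ((D.inv_z xA xZ tx zx az k0).trans (k2.trans k3).symm) az

theorem cls {y : G} (yJ : y ∈ D.J) (y1 : y ≠ 1) :
    IsConj D.z y ∨ IsConj (x * (D.f * x * D.f⁻¹)) y := by
  obtain ⟨h1, h2, h3⟩ := D.cls_s xA xZ tx zx az
  rcases D.orb_cases xA xZ tx yJ with h | ⟨g, -, e⟩ | ⟨g, -, e⟩ | ⟨g, -, e⟩ | ⟨g, -, e⟩ | ⟨g, -, e⟩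
  · rcases (Mc3.mem_zp3 D.l.z3).1 h with e | rfl | rfl
    exacts [absurd e y1, Or.inl (IsConj.refl _), Or.inl (D.inv_z xA xZ tx zx az (IsConj.refl _))]
  exacts [Or.inl (zx.trans (isConj_iff.2 ⟨g, e⟩)), Or.inr (isConj_iff.2 ⟨g, e⟩),
    Or.inl (h1.trans (isConj_iff.2 ⟨g, by rwa [mul_one] at e⟩)),
    Or.inr (h2.trans (isConj_iff.2 ⟨g, e⟩)), Or.inr (h3.trans (isConj_iff.2 ⟨g, e⟩))]

theorem cardN : Nat.card (normalizer (D.J : Set G) ⊓ centralizer {x * (D.f * x * D.f⁻¹)} :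
    Subgroup G) = 1944 := by
  obtain ⟨h1, h2, h3⟩ := D.cls_s xA xZ tx zx az
  have e1 := CIT.card_eq_ncard_mul (normalizer (D.J : Set G)) D.z
  have e2 := CIT.card_eq_ncard_mul (normalizer (D.J : Set G)) (x * (D.f * x * D.f⁻¹))
  rw [D.cardH] at e1
  have aA := D.aA xA xZ tx
  have o1 := D.orb_A xA
  have o2 := D.orb_A aA
  have o3 := D.orb_t (one_mem _)
  have o4 := D.orb_t (mem_zpowers _)
  have o5 := D.orb_t (inv_mem (mem_zpowers _))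
  set X := {y | ∃ b ∈ normalizer (D.J : Set G), b * D.z * b⁻¹ = y}
  set Y := {y | ∃ b ∈ normalizer (D.J : Set G), b * (x * (D.f * x * D.f⁻¹)) * b⁻¹ = y}
  have c1 : Nat.card D.J ≤ (X ∪ Y).ncard + 1 := (Set.ncard_le_ncard (s := (D.J : Set G)) fun y hy => by
    by_cases y1 : y = 1
    · exact Or.inl y1
    exact Or.inr ((D.cls xA xZ tx zx az hy y1).imp (D.fus _ D.zJ y hy) (D.fus _ aA.1 y hy))).trans
      (Set.ncard_insert_le (1 : G) _)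
  have c2 : X.ncard ≤ _ := (Set.ncard_le_ncard (t := {D.z, D.z⁻¹} ∪ (_ ∪ _)) (by
    rintro _ ⟨b, hb, rfl⟩
    have k : IsConj D.z (b * D.z * b⁻¹) := isConj_iff.2 ⟨b, rfl⟩
    rcases D.orb_cases xA xZ tx (conj_of_norm hb D.zJ) with h | h | ⟨g, -, e⟩ | h | ⟨g, -, e⟩ |
      ⟨g, -, e⟩
    exacts [Or.inl (((Mc3.mem_zp3 D.l.z3).1 h).resolve_left (mt conj_eq_one_iff.1 D.l.z_ne)),
      Or.inr (Or.inl h), absurd (k.trans (isConj_iff.2 ⟨g, e⟩ : IsConj _ _).symm) az,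
      Or.inr (Or.inr h), absurd (k.trans (h2.trans (isConj_iff.2 ⟨g, e⟩)).symm) az,
      absurd (k.trans (h3.trans (isConj_iff.2 ⟨g, e⟩)).symm) az])).trans
      ((Set.ncard_union_le _ _).trans (add_le_add (Set.ncard_insert_le _ _)
        ((Set.ncard_union_le _ _).trans (add_le_add o1 o3))))
  have c3 : Y.ncard ≤ _ := (Set.ncard_le_ncard (t := _ ∪ (_ ∪ _)) (by
    rintro _ ⟨b, hb, rfl⟩
    have k := (isConj_iff.2 ⟨b, rfl⟩ : IsConj (x * (D.f * x * D.f⁻¹)) _).symm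
    rcases D.orb_cases xA xZ tx (conj_of_norm hb aA.1) with h | ⟨g, -, e⟩ | h | ⟨g, -, e⟩ | h | h
    · rcases (Mc3.mem_zp3 D.l.z3).1 h with e | e | e
      · exact absurd (conj_eq_one_iff.1 e ▸ one_mem _) (D.aZ xA xZ tx)
      · exact absurd (e ▸ k) az
      · exact absurd ((D.inv_z xA xZ tx zx az (IsConj.refl _)).trans (e ▸ k)) az
    exacts [absurd ((zx.trans (isConj_iff.2 ⟨g, e⟩)).trans k) az, Or.inl h,
      absurd ((h1.trans (isConj_iff.2 ⟨g, by rwa [mul_one] at e⟩)).trans k) az, Or.inr (Or.inl h),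
      Or.inr (Or.inr h)])).trans ((Set.ncard_union_le _ _).trans (add_le_add o2
        ((Set.ncard_union_le _ _).trans (add_le_add o4 o5))))
  have c4 := Set.ncard_union_le X Y
  rw [Set.ncard_singleton] at c2
  rw [D.cardJ] at c1
  rw [show X.ncard = 32 by omega] at e1
  rw [show Y.ncard = 48 by omega] at e2
  omega

end J1

end Cfsg.Lib.HN3
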