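import Cfsg.Agent.HN3.FinDefs

/-! Even permutations of twelve points coded by natural numbers. -/

set_option autoImplicit false

namespace Cfsg.Lib.HN3.Kt

open Subgroup Equiv

/-- digits in base sixteen -/
def ap (c i : ℕ) : ℕ := c / 16 ^ i % 16

/-- the number with the given digits -/
def pc (f : ℕ → ℕ) : ℕ → ℕ
  | 0 => 0
  | i + 1 => pc f i + f i * 16 ^ i

theorem pc_zero (f : ℕ → ℕ) : pc f 0 = 0 := rfl
theorem pc_succ (f : ℕ → ℕ) (i : ℕ) : pc f (i + 1) = pc f i + f i * 16 ^ i := rfl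

theorem pc_lt {f : ℕ → ℕ} (hf : ∀ j, f j < 16) (i : ℕ) : pc f i < 16 ^ i := by
  induction i with
  | zero => simp [pc_zero]
  | succ i ih =>
    have := Nat.mul_le_mul_right (16 ^ i) (show f i ≤ 15 by have := hf i; omega)
    rw [pc_succ, pow_succ]
    omega

theorem ap_pc {f : ℕ → ℕ} (hf : ∀ j, f j < 16) {i j : ℕ} (h : j < i) : ap (pc f i) j = f j := by
  induction i with
  | zero => omega
  | succ i ih =>
    rw [pc_succ]
    change (pc f i + f i * 16 ^ i) / 16 ^ j % 16 = f j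
    rcases Nat.lt_succ_iff_lt_or_eq.mp h with h | rfl
    · obtain ⟨d, rfl⟩ : ∃ d, i = j + 1 + d := ⟨i - (j + 1), by omega⟩
      have e : f (j + 1 + d) * 16 ^ (j + 1 + d) = 16 ^ j * (16 * (f (j + 1 + d) * 16 ^ d)) := by ring
      rw [e, Nat.add_mul_div_left _ _ (by positivity), Nat.add_mul_mod_self_left]
      exact ih h
    · rw [Nat.add_mul_div_right _ _ (by positivity), Nat.div_eq_of_lt (pc_lt hf j), zero_add,
        Nat.mod_eq_of_lt (hf j)]

theorem pc_congr {f g : ℕ → ℕ} {n : ℕ} (h : ∀ j < n, f j = g j) : pc f n = pc g n := by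
  induction n with
  | zero => rfl
  | succ n ih => rw [pc_succ, pc_succ, ih fun j hj => h j (by omega), h n (by omega)]

theorem pc_eq_sum (f : ℕ → ℕ) (n : ℕ) : pc f n = ∑ i ∈ Finset.range n, f i * 16 ^ i := by
  induction n with
  | zero => rfl
  | succ n ih => rw [pc_succ, ih, Finset.sum_range_succ]

/-- the values of a permutation -/
def fn (g : A12) (i : ℕ) : ℕ := if h : i < 12 then (g.1 ⟨i, h⟩ : ℕ) else 0

theorem fn_val (g : A12) (i : Fin 12) : fn g i = g.1 i := dif_pos i.2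

theorem fn_lt12 (g : A12) (i : ℕ) : fn g i < 12 := by
  by_cases h : i < 12
  · exact (fn_val g ⟨i, h⟩).trans_lt (Fin.is_lt _)
  · exact (dif_neg h : fn g i = 0).trans_lt (by norm_num)

theorem fn_lt (g : A12) (i : ℕ) : fn g i < 16 := (fn_lt12 g i).trans (by norm_num)

theorem fn_mul (g h : A12) {i : ℕ} (hi : i < 12) : fn (g * h) i = fn g (fn h i) := by
  rw [fn_val (g * h) ⟨i, hi⟩, fn_val h ⟨i, hi⟩, fn_val]; rfl

/-- the code of a permutation -/
def code (g : A12) : ℕ := pc (fn g) 12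

theorem ap_code (g : A12) {i : ℕ} (hi : i < 12) : ap (code g) i = fn g i := ap_pc (fn_lt g) hi

theorem ap_code' (g : A12) (i : Fin 12) : ap (code g) i = g.1 i := (ap_code g i.2).trans (fn_val g i)

theorem code_inj {g h : A12} : code g = code h ↔ g = h :=
  ⟨fun e => Subtype.ext (Equiv.ext fun i => Fin.ext (by rw [← ap_code', ← ap_code', e])), fun e => e ▸ rfl⟩

/-- twelve digits -/
def mk12 (f : ℕ → ℕ) : ℕ :=
  f 0 + f 1 * 16 + f 2 * 256 + f 3 * 4096 + f 4 * 65536 + f 5 * 1048576 + f 6 * 16777216 +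
    f 7 * 268435456 + f 8 * 4294967296 + f 9 * 68719476736 + f 10 * 1099511627776 +
    f 11 * 17592186044416

theorem mk12_eq (f : ℕ → ℕ) : mk12 f = pc f 12 := by
  simp only [pc_succ, pc_zero]
  unfold mk12
  norm_num

/-- product -/
def mu (a b : ℕ) : ℕ := mk12 fun i => ap a (ap b i)

/-- inverse -/
def iv (a : ℕ) : ℕ :=
  16 ^ ap a 1 + 2 * 16 ^ ap a 2 + 3 * 16 ^ ap a 3 + 4 * 16 ^ ap a 4 + 5 * 16 ^ ap a 5 + 6 * 16 ^ ap a 6 +
    7 * 16 ^ ap a 7 + 8 * 16 ^ ap a 8 + 9 * 16 ^ ap a 9 + 10 * 16 ^ ap a 10 + 11 * 16 ^ ap a 11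

/-- the identity -/
def e1 : ℕ := 205163983024656

theorem code_one : code 1 = e1 := by decide +kernel

theorem code_mul (g h : A12) : code (g * h) = mu (code g) (code h) := by
  change _ = mk12 _
  rw [mk12_eq]
  exact pc_congr fun j hj => by rw [fn_mul _ _ hj, ap_code h hj, ap_code g (fn_lt12 h j)]

theorem code_inv (g : A12) : code g⁻¹ = iv (code g) := by
  have h1 : code g⁻¹ = ∑ j : Fin 12, (j : ℕ) * 16 ^ ap (code g) j := by
    change pc _ _ = _
    rw [pc_eq_sum, ← Fin.sum_univ_eq_sum_range (fun i => fn g⁻¹ i * 16 ^ i), ← Equiv.sum_comp g.1]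
    refine Finset.sum_congr rfl fun j _ => ?_
    rw [fn_val, ap_code']
    simp
  rw [h1, Fin.sum_univ_eq_sum_range (fun j => j * 16 ^ ap (code g) j)]
  simp only [Finset.sum_range_succ, Finset.sum_range_zero]
  unfold iv
  omega

/-- inversions ending at `j` -/
def cnt (c j : ℕ) : ℕ → ℕ
  | 0 => 0
  | i + 1 => cnt c j i + cond (Nat.blt (ap c i) (ap c j)) 0 1

/-- inversions -/
def tot (c : ℕ) : ℕ → ℕ
  | 0 => 0
  | j + 1 => tot c j + cnt c j j

theorem sign_eq (σ : Perm (Fin 12)) {c : ℕ} (h : ∀ i : Fin 12, ap c i = σ i) :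
    Perm.sign σ = (-1) ^ tot c 12 := by
  have h1 : ∀ j i, (-1 : ℤˣ) ^ cnt c j i =
      ∏ k ∈ Finset.range i, if ap c k < ap c j then (1 : ℤˣ) else -1 := by
    intro j i
    induction i with
    | zero => rfl
    | succ i ih =>
      change (-1 : ℤˣ) ^ (cnt c j i + cond (Nat.blt (ap c i) (ap c j)) 0 1) = _
      rw [pow_add, ih, Finset.prod_range_succ]
      congr 1
      by_cases e : ap c i < ap c j
      · rw [if_pos e, Nat.blt_eq.mpr e]; rfl
      · rw [if_neg e, Bool.eq_false_iff.mpr fun c => e (Nat.blt_eq.mp c)]; rfl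
  have h2 : ∀ n, (-1 : ℤˣ) ^ tot c n = ∏ j ∈ Finset.range n, (-1 : ℤˣ) ^ cnt c j j := by
    intro n
    induction n with
    | zero => rfl
    | succ n ih =>
      change (-1 : ℤˣ) ^ (tot c n + cnt c n n) = _
      rw [pow_add, ih, Finset.prod_range_succ]
  rw [Perm.sign_eq_prod_prod_Iio, h2, ← Fin.prod_univ_eq_prod_range (fun j => (-1 : ℤˣ) ^ cnt c j j)]
  refine Finset.prod_congr rfl fun j _ => ?_
  rw [h1, ← Nat.Iio_eq_range, ← Fin.map_valEmbedding_Iio, Finset.prod_map]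
  refine Finset.prod_congr rfl fun i _ => ?_
  simp only [Fin.valEmbedding_apply, h, Fin.val_fin_lt]

theorem tot_code (g : A12) : tot (code g) 12 % 2 = 0 := by
  have h := sign_eq g.1 (ap_code' g)
  rw [Perm.mem_alternatingGroup.mp g.2] at h
  by_contra e
  rw [(Nat.odd_iff.mpr (by omega)).neg_one_pow] at h
  exact absurd h (by decide)

/-- `c` is the code of an even permutation -/
def Ok (c : ℕ) : Prop := (∀ i < 12, ap c i < 12 ∧ ap (iv c) (ap c i) = i) ∧ mu c e1 = c ∧ tot c 12 % 2 = 0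

instance (c : ℕ) : Decidable (Ok c) :=
  inferInstanceAs (Decidable ((∀ i < 12, ap c i < 12 ∧ ap (iv c) (ap c i) = i) ∧ mu c e1 = c ∧
    tot c 12 % 2 = 0))

theorem exists_of_ok {c : ℕ} (h : Ok c) : ∃ g, code g = c := by
  obtain ⟨h1, h2, h3⟩ := h
  let f : Fin 12 → Fin 12 := fun i => ⟨ap c i, (h1 i i.2).1⟩
  have hf : Function.Injective f := fun i j e => Fin.ext (by
    rw [← (h1 i i.2).2, ← (h1 j j.2).2]
    exact congrArg (fun x : Fin 12 => ap (iv c) x) e)
  let σ : Perm (Fin 12) := Equiv.ofBijective f (Finite.injective_iff_bijective.mp hf)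
  refine ⟨⟨σ, Perm.mem_alternatingGroup.mpr ?_⟩, ?_⟩
  · rw [sign_eq σ (c := c) fun i => rfl, (Nat.even_iff.mpr h3).neg_one_pow]
  · refine Eq.trans ?_ h2
    change _ = mk12 _
    rw [mk12_eq]
    refine pc_congr fun j hj => ?_
    rw [← code_one, ap_code _ hj, fn_val _ ⟨j, hj⟩, fn_val _ ⟨j, hj⟩]
    rfl

/-- the conditions for commuting that can be tested at the point `i` -/
def okx (L : List ℕ) (i c : ℕ) : Bool :=
  L.all fun s => Nat.blt i (ap s i) || Nat.beq (ap c (ap s i)) (ap s (ap c i))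

/-- enumeration of a centraliser -/
def go (L : List ℕ) (P : ℕ → Bool) : ℕ → ℕ → ℕ → ℕ → Bool
  | 0, _, c, _ => P c
  | k + 1, i, c, m => [0, 1, 2, 3, 4, 5, 6, 7, 8, 9, 10, 11].all fun x =>
      m.testBit x || !okx L i (c + x * 16 ^ i) || go L P k (i + 1) (c + x * 16 ^ i) (m ||| 2 ^ x)

theorem go_sound {L : List ℕ} {P : ℕ → Bool} {g : A12} (hL : ∀ c ∈ L, ∃ s, code s = c ∧ g * s = s * g) :
    ∀ k i m, i + k = 12 → (∀ x, m.testBit x = true → ∃ j < i, fn g j = x) →
      go L P k i (pc (fn g) i) m = true → P (code g) = true := by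
  intro k
  induction k with
  | zero =>
    intro i m hi _ h
    obtain rfl : i = 12 := hi
    exact h
  | succ k ih =>
    intro i m hi hm h
    have hi' : i < 12 := by omega
    have h1 := List.all_eq_true.mp h (fn g i) (by
      have := fn_lt12 g i
      generalize fn g i = x at this
      interval_cases x <;> simp)
    rw [← pc_succ] at h1
    simp only [Bool.or_eq_true, Bool.not_eq_true'] at h1
    rcases h1 with (h1 | h1) | h1
    · obtain ⟨j, hj, e⟩ := hm _ h1
      rw [fn_val g ⟨i, hi'⟩, fn_val g ⟨j, by omega⟩] at e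
      have := congrArg Fin.val (g.1.injective (Fin.ext e))
      simp only at this
      omega
    · exfalso
      rw [Bool.eq_false_iff] at h1
      apply h1
      refine List.all_eq_true.mpr fun c hc => ?_
      obtain ⟨s, rfl, hs⟩ := hL c hc
      rw [Bool.or_eq_true, Nat.blt_eq, Nat.beq_eq, ap_code s hi']
      refine (lt_or_ge i (fn s i)).imp_right fun hle => ?_
      rw [ap_pc (fn_lt g) (by omega), ap_pc (fn_lt g) (by omega), ap_code s (fn_lt12 g i), ← fn_mul _ _ hi',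
        ← fn_mul _ _ hi', hs]
    · refine ih (i + 1) _ (by omega) (fun x hx => ?_) h1
      rw [Nat.testBit_or, Bool.or_eq_true, Nat.testBit_two_pow, decide_eq_true_eq] at hx
      rcases hx with hx | hx
      · obtain ⟨j, hj, e⟩ := hm x hx
        exact ⟨j, by omega, e⟩
      · exact ⟨i, by omega, hx⟩

theorem cent_all (S : List A12) {L : List ℕ} (e : S.map code = L) (Q : ℕ → Prop) [DecidablePred Q]
    (h : go L (fun c => Nat.beq (tot c 12 % 2) 1 || decide (Q c)) 12 0 0 0 = true) {g : A12}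
    (hg : ∀ s ∈ S, g * s = s * g) : Q (code g) := by
  have := go_sound (g := g) (fun c hc => by
    rw [← e, List.mem_map] at hc
    obtain ⟨s, hs, rfl⟩ := hc
    exact ⟨s, rfl, hg s hs⟩) 12 0 0 rfl (by simp) h
  simpa [tot_code] using this

/-- powers -/
def pws (a : ℕ) : ℕ → List ℕ
  | 0 => []
  | n + 1 => e1 :: (pws a n).map (mu a)

/-- products of powers -/
def prods : List (ℕ × ℕ) → List ℕ
  | [] => [e1]
  | p :: l => (pws p.1 p.2).flatMap fun x => (prods l).map (mu x)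

theorem mem_pws {H : Subgroup A12} {s : A12} (hs : s ∈ H) (n : ℕ) :
    ∀ c ∈ pws (code s) n, ∃ g ∈ H, code g = c := by
  induction n with
  | zero => intro c hc; cases hc
  | succ n ih =>
    intro c hc
    rcases List.mem_cons.mp hc with rfl | hc
    · exact ⟨1, H.one_mem, code_one⟩
    · obtain ⟨d, hd, rfl⟩ := List.mem_map.mp hc
      obtain ⟨g, hg, rfl⟩ := ih d hd
      exact ⟨s * g, H.mul_mem hs hg, code_mul _ _⟩

theorem mem_prods {H : Subgroup A12} (S : List (A12 × ℕ)) (hS : ∀ p ∈ S, p.1 ∈ H) :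
    ∀ c ∈ prods (S.map fun p => (code p.1, p.2)), ∃ g ∈ H, code g = c := by
  induction S with
  | nil =>
    intro c hc
    exact ⟨1, H.one_mem, code_one.trans (List.mem_singleton.mp hc).symm⟩
  | cons p S ih =>
    intro c hc
    obtain ⟨x, hx, hc⟩ := List.mem_flatMap.mp hc
    obtain ⟨d, hd, rfl⟩ := List.mem_map.mp hc
    obtain ⟨g, hg, rfl⟩ := mem_pws (hS p List.mem_cons_self) _ x hx
    obtain ⟨g', hg', rfl⟩ := ih (fun q hq => hS q (List.mem_cons_of_mem _ hq)) d hd
    exact ⟨g * g', H.mul_mem hg hg', code_mul _ _⟩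

theorem exists_of_prods {H : Subgroup A12} (S : List (A12 × ℕ)) (hS : ∀ p ∈ S, p.1 ∈ H)
    {T : List (ℕ × ℕ)} (e : (S.map fun p => (code p.1, p.2)) = T) {L : List ℕ} (e' : prods T = L) :
    ∀ c ∈ L, ∃ g ∈ H, code g = c := e' ▸ e ▸ mem_prods S hS

theorem mem_of_exists {H : Subgroup A12} {L : List ℕ} (h : ∀ c ∈ L, ∃ g ∈ H, code g = c) {g : A12}
    (hg : code g ∈ L) : g ∈ H := by
  obtain ⟨g', h1, h2⟩ := h _ hg
  exact code_inj.mp h2 ▸ h1

theorem closure_sub {S : Set A12} {L T : List ℕ} (hT : ∀ s ∈ S, code s ∈ T) (h1 : e1 ∈ L)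
    (h : ∀ c ∈ L, ∀ s ∈ T, mu c s ∈ L ∧ mu c (iv s) ∈ L) {g : A12} (hg : g ∈ closure S) :
    code g ∈ L := by
  induction hg using closure_induction_right with
  | one => rwa [code_one]
  | mul_right x _ y hy ih => rw [code_mul]; exact (h _ ih _ (hT y hy)).1
  | mul_inv_cancel x _ y hy ih => rw [code_mul, code_inv]; exact (h _ ih _ (hT y hy)).2

theorem card_le_length {p : A12 → Prop} {L : List ℕ} (h : ∀ g, p g → code g ∈ L) :
    Nat.card {g // p g} ≤ L.length := by
  classical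
  refine le_trans ?_ (List.toFinset_card_le L)
  rw [← Fintype.card_coe, ← Nat.card_eq_fintype_card]
  exact Nat.card_le_card_of_injective (fun g => ⟨code g.1, List.mem_toFinset.mpr (h g.1 g.2)⟩)
    fun a b e => Subtype.ext (code_inj.mp (congrArg Subtype.val e))

theorem card_eq_length {p : A12 → Prop} {L : List ℕ} (h : ∀ g, p g → code g ∈ L)
    (h' : ∀ c ∈ L, ∃ g, p g ∧ code g = c) (hd : L.Nodup) : Nat.card {g // p g} = L.length := by
  classical
  rw [← List.toFinset_card_of_nodup hd, ← Fintype.card_coe, ← Nat.card_eq_fintype_card]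
  refine Nat.card_congr (Equiv.ofBijective (fun g => ⟨code g.1, List.mem_toFinset.mpr (h g.1 g.2)⟩)
    ⟨fun a b e => Subtype.ext (code_inj.mp (congrArg Subtype.val e)), fun c => ?_⟩)
  obtain ⟨g, hg, e⟩ := h' c.1 (List.mem_toFinset.mp c.2)
  exact ⟨⟨g, hg⟩, Subtype.ext e⟩

theorem mem_normalizer_closure {S : Set A12} {g : A12} (h : ∀ s ∈ S, g * s * g⁻¹ ∈ closure S) :
    g ∈ normalizer (closure S : Set A12) := by
  refine mem_normalizer_fintype fun n hn => ?_
  have : closure S ≤ (closure S).comap (MulAut.conj g).toMonoidHom := (closure_le _).mpr h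
  exact this hn

/-- the order is divisible by three -/
def T3 (c : ℕ) : Prop :=
  mu (mu (mu c c) (mu c c)) (mu (mu c c) (mu c c)) ≠ e1 ∧
    mu (mu (mu (mu c c) (mu c c)) (mu (mu c c) (mu c c))) (mu (mu (mu (mu c c) (mu c c)) (mu (mu c c) (mu c c)))
      (mu (mu (mu c c) (mu c c)) (mu (mu c c) (mu c c)))) = e1

instance (c : ℕ) : Decidable (T3 c) := inferInstanceAs (Decidable (_ ∧ _))

theorem three_dvd {g : A12} (h : T3 (code g)) : 3 ∣ orderOf g := by
  obtain ⟨h1, h2⟩ := h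
  simp only [← code_mul, ← code_one, code_inj, ne_eq] at h1 h2
  have e : g * g * (g * g) * (g * g * (g * g)) = g ^ 8 := by simp only [pow_succ, pow_zero, one_mul, mul_assoc]
  rw [e] at h1 h2
  have : Fact (Nat.Prime 3) := ⟨Nat.prime_three⟩
  have h3 : orderOf (g ^ 8) = 3 := orderOf_eq_prime (by rw [pow_succ', sq]; exact h2) h1
  rw [← h3]
  exact orderOf_pow_dvd 8

/-- conjugation -/
def cj (w x : ℕ) : ℕ := mu (mu w x) (iv w)

theorem code_cj (w x : A12) : code (w * x * w⁻¹) = cj (code w) (code x) := by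
  rw [code_mul, code_mul, code_inv]; rfl

/-- commutators -/
def cm (x y : ℕ) : ℕ := mu (cj x y) (iv y)

open scoped commutatorElement in
theorem code_cm (x y : A12) : code ⁅x, y⁆ = cm (code x) (code y) := by
  rw [commutatorElement_def, code_mul, code_cj, code_inv]; rfl

theorem isConj_of {W : List ℕ} (hW : ∀ c ∈ W, Ok c) {x y : A12} (h : ∃ w ∈ W, cj w (code x) = code y) :
    IsConj x y := by
  obtain ⟨w, hw, e⟩ := h
  obtain ⟨g, rfl⟩ := exists_of_ok (hW w hw)
  exact isConj_iff.mpr ⟨g, code_inj.mp ((code_cj _ _).trans e)⟩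

theorem ap_eq_1' : type_of% @ap.eq_1 := @ap.eq_1
theorem fn_eq_1' : type_of% @fn.eq_1 := @fn.eq_1
theorem code_eq_1' : type_of% @code.eq_1 := @code.eq_1
theorem mk12_eq_1' : type_of% @mk12.eq_1 := @mk12.eq_1
theorem mu_eq_1' : type_of% @mu.eq_1 := @mu.eq_1
theorem iv_eq_1' : type_of% @iv.eq_1 := @iv.eq_1
theorem e1_eq_1' : type_of% @e1.eq_1 := @e1.eq_1
theorem Ok_eq_1' : type_of% @Ok.eq_1 := @Ok.eq_1
theorem okx_eq_1' : type_of% @okx.eq_1 := @okx.eq_1
theorem T3_eq_1' : type_of% @T3.eq_1 := @T3.eq_1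
theorem cj_eq_1' : type_of% @cj.eq_1 := @cj.eq_1
theorem cm_eq_1' : type_of% @cm.eq_1 := @cm.eq_1

end Cfsg.Lib.HN3.Kt
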