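import Cfsg.Agent.HN3.Jd1
import Cfsg.Agent.HN3.Jd3
import Cfsg.Agent.HN3.Jd4

/-!
Existence of the `3`-local data.
-/

set_option autoImplicit false

namespace Cfsg.Lib.HN3

open Subgroup Cfsg.Lib.Perm
open Cfsg.Lib.Mc3 (LS)

theorem exists_jd {G : Type*} [Group G] [Finite G] {S : Sylow 3 G} {Q : Subgroup G} {z : G}
    {pL : G → SL25} (l : LS S Q (centralizer {z}) z pL)
    (hz : ∃ g, g * z * g⁻¹ ∈ Q ∧ g * z * g⁻¹ ∉ zpowers z) : Nonempty (JD G) := by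
  obtain ⟨D, rfl, rfl⟩ := exists_j1 l
  obtain ⟨x, xJ, xQ, xZ, tx, zx⟩ := D.exists_z1 hz
  obtain ⟨n, hn, e⟩ := D.fus _ D.zJ x xJ zx
  obtain ⟨-, hβ, ⟨q1, h1, h2, h3, h4⟩, -⟩ := D.sym xJ xQ xZ hn e
  have xA := mem_inf.2 ⟨xJ, xQ⟩
  have aA := D.aA xA xZ tx
  have az := D.not_conj xJ xQ xZ tx zx
  obtain ⟨q, k1, k2, k3, k4⟩ := D.exists_q aA.2 (D.ta xA xZ tx)
  obtain ⟨c1, c2, c3⟩ := D.cls_s xA xZ tx zx az
  exact ⟨{ D with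
    z1 := x, a := _, q := q, q1 := q1, z1J := xJ, z1Q := xQ, z1Z := xZ, tz1 := tx, zz1 := zx
    q1Q := h1, q1J := h2, q1z := h3, q1W := h4, q1C := fun _ => D.cJq xJ xQ xZ h1 h2 h3
    cW := fun _ => D.cent2 xJ xQ xZ h1 h2 h3, β := hβ, a_eq := rfl, az := az
    cls := fun _ => D.cls xA xZ tx zx az, zs := c1, asz := c2, asz' := c3
    cardN := D.cardN xA xZ tx zx az, qQ := k1, qJ := k2, qa := k3, tq := k4
    qs := D.br_ne xJ xQ xZ tx h1 h2 h3 h4 k1 k2 k3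
    cza := fun _ => D.cent2 aA.1 aA.2 (D.aZ xA xZ tx) k1 k2 k3 }⟩

end Cfsg.Lib.HN3
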