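import Cfsg.Agent.HN3.BaseB
import Cfsg.Agent.Solv.CoprimeGen

/-!
The group `J` normalises no non-trivial subgroup of order prime to three.
-/

set_option autoImplicit false
set_option linter.unusedSectionVars false

namespace Cfsg.Lib.HN3

open Subgroup Equiv Cfsg.Lib.Perm Cfsg.Lib.Known
open Cfsg.Lib.Mc3 (LS)
open scoped commutatorElement

universe u

variable {G : Type u} [Group G] [Finite G]

theorem n_eq_one {x : G} {m n : ℕ} (h : m.Coprime n) (h1 : x ^ m = 1) (h2 : x ^ n = 1) : x = 1 := by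
  rw [← pow_one x, ← h, pow_gcd_eq_one]; exact ⟨h1, h2⟩

theorem n_pow_card {K : Subgroup G} {x : G} (h : x ∈ K) : x ^ Nat.card K = 1 :=
  congrArg Subtype.val (pow_card_eq_one' (x := (⟨x, h⟩ : K)))

theorem n_inv_fix {x : G} (h3 : x ^ 3 = 1) (h : x⁻¹ = x) : x = 1 :=
  n_eq_one (m := 2) (n := 3) (by decide) (by rw [pow_two]; exact inv_eq_iff_mul_eq_one.1 h) h3

namespace JD

variable (D : JD G)

theorem n_ZJ : zpowers D.z ≤ D.J := D.l.Z_le_J D.JS D.Jc D.cardJ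
theorem n_zJ : D.z ∈ D.J := D.n_ZJ (mem_zpowers _)
theorem n_tz : D.t * D.z = D.z * D.t := D.κt ▸ D.κz (-1)
theorem n_fz : D.f * D.z = D.z * D.f := D.κf ▸ D.κz _
theorem n_pt : D.pL D.t = -1 := D.κt ▸ D.pκ (-1)
theorem n_ts : D.t * D.s = D.s * D.t := by
  rw [← D.κs, ← D.κt, ← map_mul, ← map_mul, neg_one_comm]
theorem n_fN : D.f ∈ normalizer (D.J : Set G) :=
  (D.nJz _ D.n_fz).2 (mem_sup_right (mem_zpowers _))
theorem n_tN : D.t ∈ normalizer (D.J : Set G) := D.ff ▸ mul_mem D.n_fN D.n_fN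
theorem n_QN : D.Q ≤ normalizer (D.J : Set G) := D.l.QS.trans (D.l.S_le_NJ D.JS D.Jc D.cardJ)
theorem n_conjQ {g x : G} (h : g * D.z = D.z * g) (hx : x ∈ D.Q) : g * x * g⁻¹ ∈ D.Q :=
  D.l.nQ g (Mc3.mem_nz_of_comm h) x hx
theorem n_aJ : D.a ∈ D.J := D.a_eq ▸ mul_mem D.z1J (conj_of_norm D.n_fN D.z1J)
theorem n_aQ : D.a ∈ D.Q := D.a_eq ▸ mul_mem D.z1Q (D.n_conjQ D.n_fz D.z1Q)
theorem n_ta : D.t * D.a * D.t⁻¹ = D.a⁻¹ := by
  have h : D.t * (D.f * D.z1 * D.f⁻¹) * D.t⁻¹ = D.f * (D.t * D.z1 * D.t⁻¹) * D.f⁻¹ := by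
    rw [← D.ff]; group
  rw [D.a_eq, ← conj_mul, h, D.tz1, D.Jc _ D.z1J _ (conj_of_norm D.n_fN D.z1J)]
  group
theorem n_a1 : D.a ≠ 1 := fun h => by
  have := D.asz
  rw [h, isConj_one_right, mul_eq_one_iff_eq_inv] at this
  exact D.sQ (this ▸ inv_mem D.l.zQ)
theorem n_a3 : orderOf D.a = 3 :=
  have := Fact.mk Nat.prime_three
  orderOf_eq_prime (D.J3 _ D.n_aJ) D.n_a1
theorem n_AJ : zpowers D.a ≤ D.J := zpowers_le.2 D.n_aJ
theorem n_ZA {x : G} (h : x ∈ zpowers D.z) (h' : x ∈ zpowers D.a) : x = 1 :=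
  n_inv_fix (D.J3 _ (D.n_ZJ h)) ((Mc3.conj_zp_inv D.n_ta h').symm.trans (Mc3.conj_zp_eq D.n_tz h))
theorem n_aZ : D.a ∉ zpowers D.z := fun h => D.n_a1 (D.n_ZA h (mem_zpowers _))

theorem n_conj_z {x c : G} (hx : x ∈ D.Q) (hZ : x ∉ zpowers D.z) (hc : c ∈ zpowers D.z) :
    IsConj x (c * x) := by
  obtain ⟨q, hq, e⟩ : ∃ q ∈ D.Q, ⁅q, x⁆ ≠ 1 := by
    by_contra! hn
    exact hZ (D.l.cent x fun q hq => (commutatorElement_eq_one_iff_mul_comm.1 (hn q hq)).symm)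
  have h1 := D.l.comm q hq x hx
  have h2 : IsConj x (⁅q, x⁆ * x) := isConj_iff.2 ⟨q, by group⟩
  have h3 : IsConj x (⁅q, x⁆⁻¹ * x) := isConj_iff.2 ⟨q⁻¹, by
    rw [← Mc3.conj_zp_eq (D.l.Qz (inv_mem hq)) (inv_mem h1)]; group⟩
  rcases (Mc3.mem_zp3 D.l.z3).1 h1 with e1 | e1 | e1
  · exact absurd e1 e
  all_goals
    rw [e1] at h2 h3
    rcases (Mc3.mem_zp3 D.l.z3).1 hc with rfl | rfl | rfl
    · rw [one_mul]
    all_goals first | exact h2 | exact h3 | simpa using h3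

theorem n_z13 : orderOf D.z1 = 3 := by
  obtain ⟨g, e⟩ := isConj_iff.1 D.zz1
  rw [← e, orderOf_conj', D.l.z3]

theorem n_W_le : closure {D.z, D.z1} ≤ D.J := (closure_le _).2 (by
  rintro _ (rfl | rfl)
  exacts [D.n_zJ, D.z1J])

theorem n_conj_W {w : G} (hw : w ∈ closure {D.z, D.z1}) (h1 : w ≠ 1) :
    ∃ n ∈ normalizer (D.J : Set G), n * D.z * n⁻¹ = w := by
  refine D.fus _ D.n_zJ _ (D.n_W_le hw) ?_
  have h2 : IsConj D.z D.z1⁻¹ := D.zz1.trans (isConj_iff.2 ⟨_, D.tz1⟩)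
  obtain ⟨c, hc, d, hd, rfl⟩ := (mem_cl_pair (D.Jc _ D.n_zJ _ D.z1J)).1 hw
  rcases (Mc3.mem_zp3 D.n_z13).1 hd with rfl | rfl | rfl
  · rw [mul_one] at h1 ⊢
    rcases (Mc3.mem_zp3 D.l.z3).1 hc with rfl | rfl | rfl
    · exact absurd rfl h1
    · exact IsConj.refl _
    · obtain ⟨g, e⟩ := isConj_iff.1 D.zz1
      exact h2.trans (isConj_iff.2 ⟨g, by rw [← e, conj_inv]⟩ : IsConj D.z⁻¹ _).symm
  · exact D.zz1.trans (D.n_conj_z D.z1Q D.z1Z hc)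
  · exact h2.trans (D.n_conj_z (inv_mem D.z1Q) (fun h => D.z1Z (inv_mem_iff.1 h)) hc)

theorem n_card_W : 3 < Nat.card (closure {D.z, D.z1} : Subgroup G) := by
  rw [← D.l.cardZ]
  refine Mc3.card_lt_of_lt (lt_of_le_of_ne (zpowers_le.2 (subset_closure (by simp))) fun e => ?_)
  exact D.z1Z (e.ge (subset_closure (by simp)))

theorem n_sig0 {k : G} {m : ℕ} (hm : m.Coprime 3) (hk : k ^ m = 1)
    (h1 : ⁅k, D.z1⁆ ^ m = 1) (hz : k * D.z = D.z * k) : k = 1 := by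
  have h2 : ⁅k, D.z1⁆ = 1 :=
    n_eq_one hm h1 (D.l.cube _ (mul_mem (D.n_conjQ hz D.z1Q) (inv_mem D.z1Q)))
  exact n_eq_one (n := 3 ^ 6) (hm.pow_right 6) hk
    (D.l.pow_S (D.stab _ D.z1J D.z1Q D.z1Z k hz (h2 ▸ one_mem _)))

theorem sig (K : Subgroup G) (h3 : (Nat.card K).Coprime 3)
    (hK : D.J ≤ normalizer (K : Set G)) : K = ⊥ := by
  have hW := D.n_W_le
  have : IsMulCommutative (closure {D.z, D.z1} : Subgroup G) :=
    ⟨⟨fun x y => Subtype.ext (D.Jc _ (hW x.2) _ (hW y.2))⟩⟩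
  refine eq_bot_iff.2 (Solv.Coprime.le_of_forall_centralizer_singleton (A := closure {D.z, D.z1})
    (fun hc => ?_) (hW.trans hK) ?_ fun w hw h1 k hk => ?_)
  · obtain ⟨g, hg⟩ := hc.exists_ofOrder_eq_natCard
    have := Nat.le_of_dvd (by decide) (orderOf_dvd_of_pow_eq_one
      (Subtype.ext (D.J3 _ (hW g.2)) : g ^ 3 = 1))
    have := D.n_card_W
    omega
  · refine Nat.Coprime.coprime_dvd_left (card_dvd_of_le hW) ?_
    rw [D.cardJ]
    exact (h3.pow_right 4).symm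
  · obtain ⟨n, hn, rfl⟩ := D.n_conj_W hw h1
    have h2 := comm_conj' n⁻¹ (mem_centralizer_singleton_iff.1 hk.2)
    rw [show n⁻¹ * (n * D.z * n⁻¹) * n⁻¹⁻¹ = D.z by group] at h2
    have h4 := D.n_sig0 h3 (by rw [conj_pow, n_pow_card hk.1]; simp) (by
      rw [show D.z1 = n⁻¹ * (n * D.z1 * n⁻¹) * n⁻¹⁻¹ by group, bracket_conj, conj_pow, n_pow_card]
      · simp
      · rw [show ⁅k, n * D.z1 * n⁻¹⁆ = k * (n * D.z1 * n⁻¹ * k⁻¹ * (n * D.z1 * n⁻¹)⁻¹) by group]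
        exact mul_mem hk.1 (conj_of_norm (hK (conj_of_norm hn D.z1J)) (inv_mem hk.1))) h2
    exact mem_bot.2 (conj_eq_one_iff.1 h4)

theorem n_norefl0 {k : G} {A : Subgroup G} (hA : Nat.card A ≤ 3) (hk : k * k = 1)
    (h1 : ∀ j ∈ D.J, ⁅j, k⁆ ∈ A) (hz : k * D.z = D.z * k) : k = 1 := by
  have hL : k ∈ centralizer {D.z} := mem_centralizer_singleton_iff.2 hz
  rcases SL25_sq (D.pL k) (by rw [← D.l.map_mul _ hL _ hL, hk, D.l.map_one]) with e | e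
  · exact n_eq_one (m := 2) (n := 3) (by decide) (by rwa [pow_two]) (D.l.cube _ ((D.l.ker _ hL).1 e))
  · have h2 := FT.BG4.card_le_card_mul_card_inf_centralizer (H := D.J ⊓ D.Q) fun x hx => h1 x hx.1
    have h3 : D.J ⊓ D.Q ⊓ centralizer {k} ≤ zpowers D.z := fun x hx =>
      D.l.mem_Z_of_comm_t hL hk e hx.1.2 (mem_centralizer_singleton_iff.1 hx.2)
    have h4 := card_le_of_le h3
    rw [D.l.cardZ] at h4
    rw [D.l.card_JQ D.JS D.Jc D.cardJ] at h2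
    nlinarith

theorem n_norefl {k : G} (hk : k * k = 1) (h1 : ∀ j ∈ D.J, ⁅j, k⁆ ∈ zpowers D.a) : k = 1 := by
  have h2 := FT.BG4.card_le_card_mul_card_inf_centralizer fun x hx => h1 x (D.n_W_le hx)
  have hA : Nat.card (zpowers D.a) = 3 := by rw [Nat.card_zpowers, D.n_a3]
  obtain ⟨⟨w, hw, hc⟩, hw1⟩ := ne_bot_iff_exists_ne_one.1
    (show closure {D.z, D.z1} ⊓ centralizer {k} ≠ ⊥ from fun e => by
      rw [e, card_bot, hA] at h2
      have := D.n_card_W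
      omega)
  obtain ⟨n, hn, rfl⟩ := D.n_conj_W hw fun e => hw1 (Subtype.ext e)
  have h3 := comm_conj' n⁻¹ (mem_centralizer_singleton_iff.1 hc).symm
  rw [show n⁻¹ * (n * D.z * n⁻¹) * n⁻¹⁻¹ = D.z by group] at h3
  refine conj_eq_one_iff.1 (D.n_norefl0 (A := (zpowers D.a).map (MulAut.conj n⁻¹).toMonoidHom)
    (by rw [card_map_of_injective (MulAut.conj n⁻¹).injective, hA]) (by rw [conj_mul, hk]; simp)
    (fun j hj => ?_) h3)
  rw [show j = n⁻¹ * (n * j * n⁻¹) * n⁻¹⁻¹ by group, bracket_conj]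
  exact ⟨_, h1 _ (conj_of_norm hn hj), rfl⟩

theorem n_sz {C : Subgroup G} (hc : ∀ g ∈ C, g * D.a = D.a * g)
    (hi : ((zpowers D.a).subgroupOf C).index.Coprime 3) (hJ : D.J ≤ normalizer (C : Set G)) :
    C ≤ zpowers D.a := by
  have : ((zpowers D.a).subgroupOf C).Normal := ⟨fun x hx g => by
    change (g : G) * x * (g : G)⁻¹ ∈ zpowers D.a
    rw [Mc3.conj_zp_eq (hc _ g.2) (mem_subgroupOf.1 hx)]; exact hx⟩
  have hp : Nat.card ((zpowers D.a).subgroupOf C) ∣ 3 := by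
    rw [← D.n_a3, ← Nat.card_zpowers]; exact card_comap_dvd_of_injective _ _ (subtype_injective _)
  obtain ⟨H, hH⟩ := exists_right_complement'_of_coprime (N := (zpowers D.a).subgroupOf C)
    (hi.symm.coprime_dvd_left hp)
  have hM : Nat.card (H.map C.subtype) = ((zpowers D.a).subgroupOf C).index := by
    rw [card_map_of_injective (subtype_injective _), hH.symm.index_eq_card]
  have key : ∀ g ∈ C, ∃ c ∈ zpowers D.a, ∃ h ∈ H.map C.subtype, g = c * h := fun g hg => by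
    obtain ⟨⟨c, h⟩, e, -⟩ := hH.existsUnique ⟨g, hg⟩
    exact ⟨_, c.2, _, ⟨h, h.2, rfl⟩, (congrArg Subtype.val e).symm⟩
  have h0 := D.sig (H.map C.subtype) (hM ▸ hi) fun j hj => mem_norm_of fun x hx => by
    obtain ⟨c, h1, h, h2, e⟩ := key _ (conj_of_norm (hJ hj) (map_subtype_le _ hx))
    have e2 := congrArg (· ^ Nat.card (H.map C.subtype)) e
    simp only [conj_pow] at e2
    rw [n_pow_card hx, (show Commute _ _ from
      (Mc3.comm_zp (hc _ (map_subtype_le _ h2)) h1).symm).mul_pow, n_pow_card h2] at e2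
    rw [e, n_eq_one (hM ▸ hi) (by simpa using e2.symm) (D.J3 _ (D.n_AJ h1)), one_mul]
    exact h2
  intro g hg
  obtain ⟨c, h1, h, h2, rfl⟩ := key g hg
  rw [h0, mem_bot] at h2
  rwa [h2, mul_one]

end JD

end Cfsg.Lib.HN3
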