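import Cfsg.Agent.HN3.OrbC

/-!
The structure of the normaliser of `Q`.
-/

set_option autoImplicit false

namespace Cfsg.Lib.HN3

open Subgroup Equiv Cfsg.Lib.Perm MulAction
open scoped commutatorElement

theorem Orb.six {X : Type*} {p r s : X} (h1 : p ≠ r) (h2 : p ≠ s) (h3 : r ≠ s) :
    ({(p, r), (r, s), (s, p), (p, s), (r, p), (s, r)} : Set (X × X)).ncard = 6 := by
  repeat rw [Set.ncard_insert_of_notMem (by simp [h1, h2, h3, h1.symm, h2.symm, h3.symm])]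
  rw [Set.ncard_singleton]

theorem Orb.ncard_offDiag {X : Type*} [Finite X] (A : Set X) :
    A.offDiag.ncard + A.ncard = A.ncard * A.ncard := by
  have h : (fun x => (x, x)) '' A ⊆ A ×ˢ A := by rintro _ ⟨x, hx, rfl⟩; exact ⟨hx, hx⟩
  have e : A ×ˢ A \ (fun x => (x, x)) '' A = A.offDiag := by
    ext ⟨x, y⟩; simp [Set.mem_offDiag]; tauto
  have := Set.ncard_sdiff_add_ncard_of_subset h
  rwa [e, Set.ncard_prod, Set.ncard_image_of_injective _ fun _ _ h => congrArg Prod.fst h] at this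

namespace TD

variable {G : Type*} [Group G] {D : TD G} [Finite G]

omit [Finite G] in
theorem notMem_of_conj {y : G} (h : IsConj D.r y) : y ∉ zpowers D.t := fun h3 =>
  (D.mem_zt.1 h3).elim (fun e => D.r1 (isConj_one_left.1 (e ▸ h))) fun e => D.tr (e ▸ h).symm

theorem mem_nB {n : G} (h1 : n * D.t = D.t * n) (h2 : n * D.r * n⁻¹ ∈ closure {D.t, D.r, D.v})
    (h3 : n * D.v * n⁻¹ ∈ closure {D.t, D.r, D.v}) :
    n ∈ normalizer (closure {D.t, D.r, D.v} : Set G) := by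
  refine mem_norm_of fun x hx =>
    (closure_le ((closure {D.t, D.r, D.v}).comap (MulAut.conj n).toMonoidHom)).2 ?_ hx
  rintro _ (rfl | rfl | rfl)
  · change n * D.t * n⁻¹ ∈ closure {D.t, D.r, D.v}
    rw [conj_eq_of_comm h1]; exact D.tB'
  exacts [h2, h3]

variable [q : Fact D.QD]

theorem card_N : Nat.card D.N ≤ 3540 * 3072 := by
  obtain ⟨p, hp⟩ : ∃ p, p = D.cl ⟨D.r, D.rQ⟩ := ⟨_, rfl⟩
  obtain ⟨r, hr⟩ : ∃ r, r = D.cl ⟨D.v, D.vQ⟩ := ⟨_, rfl⟩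
  obtain ⟨s, hs⟩ : ∃ s, s = D.cl ⟨D.r * D.v, mul_mem D.rQ D.vQ⟩ := ⟨_, rfl⟩
  have h1 : p ≠ r := by
    rw [hp, hr, Ne, cl_eq', D.v_inv]; exact notMem_of_conj D.conj_rrv
  have h2 : p ≠ s := by
    rw [hp, hs, Ne, eq_comm, cl_eq']
    simpa [D.rv] using notMem_of_conj D.conj_rv
  have h3 : r ≠ s := by
    rw [hr, hs, Ne, eq_comm, cl_eq', mul_inv_cancel_right]; exact D.r_notMem
  have e1 := Orb.orb_mul (E := D.N) (p, r)
  have e2 : (orbit D.N (p, r)).ncard ≤ D.A2.offDiag.ncard := Set.ncard_le_ncard (by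
    rintro _ ⟨n, rfl⟩
    exact ⟨smul_A2 n (hp ▸ rb_A2), smul_A2 n (hr ▸ mem_A2.2 ⟨D.vv, notMem_of_conj D.conj_rv,
      fun h => D.tr (h.trans D.conj_rv.symm)⟩), fun h => h1 (smul_left_cancel n h)⟩)
  have e3 := Orb.ncard_offDiag D.A2
  rw [A2_eq.2] at e3
  obtain ⟨H, hH⟩ : ∃ H, H = (normalizer (closure {D.t, D.r, D.v} : Set G)).subgroupOf D.N := ⟨_, rfl⟩
  have e4 : Nat.card H ≤ 18432 := by
    refine le_trans ?_ D.cardNB
    rw [hH, ← inf_subgroupOf_right, Nat.card_congr (subgroupOfEquivOfLe inf_le_right).toEquiv]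
    exact Trans.card_le_of_le inf_le_left
  have e5 : stabilizer D.N (p, r) ≤ H := fun n hn => by
    rw [mem_stabilizer_iff, Prod.smul_mk, Prod.mk.injEq, hp, hr, smul_fix, smul_fix] at hn
    have k : ∀ x ∈ closure {D.t, D.r, D.v}, D.Fx n x → n * x * (n : G)⁻¹ ∈ closure {D.t, D.r, D.v} :=
      fun x hx h => (mul_mem_cancel_right (inv_mem hx)).1 (zpowers_le.2 D.tB' h)
    rw [hH]
    exact mem_nB (Nt n) (k _ D.rB' hn.1) (k _ D.vB' hn.2)
  have e6 := Orb.orb_mul (E := H) (p, r)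
  rw [show stabilizer H (p, r) = (stabilizer D.N (p, r)).subgroupOf H from rfl,
    Nat.card_congr (subgroupOfEquivOfLe e5).toEquiv] at e6
  obtain ⟨a, ap, ar, as⟩ : ∃ a : H, a • p = r ∧ a • r = s ∧ a • s = p := by
    refine ⟨⟨⟨D.a, D.aN⟩, hH ▸ mem_nB D.ta (D.ar ▸ D.vB') (D.av ▸ mul_mem D.rB' D.vB')⟩, ?_⟩
    rw [hp, hr, hs]
    refine ⟨congrArg D.cl (Subtype.ext D.ar), congrArg D.cl (Subtype.ext D.av),
      congrArg D.cl (Subtype.ext ?_)⟩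
    change D.a * (D.r * D.v) * D.a⁻¹ = D.r
    rw [← conj_mul, D.ar, D.av, ← mul_assoc, ← D.rv, mul_assoc, D.vv, mul_one]
  obtain ⟨x, xp, xr⟩ : ∃ x : H, x • p = p ∧ x • r = s := by
    refine ⟨⟨⟨D.x0, D.x0N⟩, hH ▸ mem_nB D.xt ((conj_eq_of_comm D.xr).symm ▸ D.rB')
      (D.xv ▸ mul_mem D.vB' D.rB')⟩, ?_⟩
    rw [hp, hr, hs]
    exact ⟨congrArg D.cl (Subtype.ext (conj_eq_of_comm D.xr)),
      congrArg D.cl (Subtype.ext (D.xv.trans D.rv.symm))⟩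
  have e7 : 6 ≤ (orbit H (p, r)).ncard := by
    rw [← Orb.six h1 h2 h3]
    refine Set.ncard_le_ncard ?_
    rintro _ (rfl | rfl | rfl | rfl | rfl | rfl)
    exacts [mem_orbit_self _, ⟨a, by simp [ap, ar]⟩, ⟨a * a, by simp [mul_smul, ap, ar, as]⟩,
      ⟨x, by simp [xp, xr]⟩, ⟨a * x, by simp [mul_smul, ap, as, xp, xr]⟩,
      ⟨a * a * x, by simp [mul_smul, ap, ar, as, xp, xr]⟩]
  have e8 := Nat.mul_le_mul_right (Nat.card (stabilizer D.N (p, r))) e7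
  rw [← e1]
  exact Nat.mul_le_mul (by omega) (by omega)

theorem gen' {n : G} (hn : n ∈ D.N) :
    ∃ c ∈ D.Q, ∃ x y, n = c * D.κ x * D.κ' y ∨ n = c * D.κ x * D.κ' y * D.x0 := by
  have : (D.Q.subgroupOf D.N).Normal := normal_in_normalizer
  have : Fact (Nat.Prime 3) := ⟨Nat.prime_three⟩
  obtain ⟨φ, hφ⟩ := q.out.exists_hom
  replace hφ : ∀ g, φ g = QuotientGroup.mk (D.kk g) := fun g => hφ g.1 g.2
  have h1 : Nat.card φ.ker ≤ 4 := by
    have : (φ.ker : Set (SL25 × SL25)).ncard ≤ (({1, -1} : Set SL25) ×ˢ ({1, -1} : Set SL25)).ncard :=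
      Set.ncard_le_ncard fun g hg => q.out.inj
        (mem_subgroupOf.1 ((QuotientGroup.eq_one_iff _).1 ((hφ g).symm.trans hg)))
    rwa [Set.ncard_prod, Set.ncard_pair SL25_neg_one_ne.symm] at this
  have h2 := φ.ker.index_mul_card
  rw [index_ker, Orb.card_E] at h2
  have h3 := φ.range.index_mul_card
  have h4 := (D.Q.subgroupOf D.N).card_eq_card_quotient_mul_card_subgroup
  rw [Nat.card_congr (subgroupOfEquivOfLe D.Q_le_N).toEquiv, cardQ q.out.comm] at h4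
  have h5 := card_N (D := D)
  have h6 := Nat.mul_le_mul_left (Nat.card φ.range) h1
  have hN := Orb.normal_range φ (by
    by_contra h7
    have := Nat.mul_le_mul_right (Nat.card φ.range) (not_le.1 h7)
    omega)
  obtain ⟨M, hM⟩ : ∃ M, M = φ.range.comap (QuotientGroup.mk' _) := ⟨_, rfl⟩
  have hMn : M.Normal := hM ▸ hN.comap _
  have hk : ∀ g, D.kk g ∈ M := fun g => hM ▸ ⟨g, hφ g⟩
  have hP : closure {D.a, D.b} ≤ M.map D.N.subtype := (closure_le _).2 (by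
    rintro _ (rfl | rfl)
    · exact ⟨_, inv_mem (hk (s5, s5)), by simp [kk_a]⟩
    · exact ⟨_, hk (s5, s5⁻¹), by simp [kk_b]⟩)
  obtain ⟨_, ⟨k, hk1, rfl⟩, g, hg, e⟩ := (D.syl.mono hP (by
    rintro _ ⟨m, -, rfl⟩
    exact mem_centralizer_singleton_iff.2 (Nt m))).frattini (g := n) (mem_norm_of (by
      rintro _ ⟨m, hm, rfl⟩
      exact ⟨_, hMn.conj_mem m hm ⟨n, hn⟩, rfl⟩))
  have hgN : g ∈ D.N := (mul_mem_cancel_left k.2).1 (e ▸ hn)
  obtain ⟨x, y, h⟩ := D.nP hg (Nt ⟨g, hgN⟩)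
  obtain ⟨⟨x', y'⟩, h8⟩ : k * D.kk (x, y) ∈ φ.range.comap (QuotientGroup.mk' _) :=
    hM ▸ mul_mem hk1 (hk _)
  have h9 := mem_subgroupOf.1 (QuotientGroup.eq_iff_div_mem.1 (h8.symm.trans (hφ _)))
  refine ⟨_, h9, x', y', h.imp (fun h => ?_) fun h => ?_⟩ <;>
    simp [e, h, kk, div_eq_mul_inv, mul_assoc]

theorem irr' {A : Subgroup G} (h1 : D.t ∈ A) (h2 : A ≤ D.Q) (h3 : D.N ≤ normalizer (A : Set G)) :
    A = zpowers D.t ∨ A = D.Q := by
  have hc := card_img (D := D) (P := fun e => e ∈ A) fun _ _ h => mul_mem h h1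
  rw [Nat.card_congr (Equiv.subtypeEquivRight fun x => and_iff_right_of_imp (@h2 x))] at hc
  change Nat.card A = _ at hc
  have h4 : D.cl 1 ∈ D.img fun e => e ∈ A := ⟨1, one_mem _, rfl⟩
  have h5 := Set.ncard_sdiff_singleton_add_one h4
  have inv : ∀ w ∈ D.img (fun e => e ∈ A) \ {D.cl 1}, ∀ g : SL25 × SL25,
      g • w ∈ D.img (fun e => e ∈ A) \ {D.cl 1} := fun w hw g =>
    ⟨smul_img (fun n hn _ _ h => conj_of_norm (h3 hn) h) _ hw.1, fun (h : g • w = _) => hw.2 (by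
      rw [smul_eq_iff_eq_inv_smul] at h
      exact h.trans (congrArg D.cl (Subtype.ext (by simp [cjN]))))⟩
  have h6 : 15 ∣ _ := Orb.dvd_ncard _ inv fun v hv => by
    rcases orb_card hv.2 with h | h <;> rw [h] <;> norm_num
  refine or_iff_not_imp_left.2 fun h7 => eq_of_le_of_card_ge h2 ?_
  obtain ⟨e, he, h8⟩ := SetLike.not_le_iff_exists.1 fun h => h7 (le_antisymm h (zpowers_le.2 h1))
  have h9 : D.cl ⟨e, h2 he⟩ ∈ D.img (fun e => e ∈ A) \ {D.cl 1} :=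
    ⟨⟨_, he, rfl⟩, mt cl_eq_one.1 h8⟩
  have k1 : (orbit (SL25 × SL25) (D.cl ⟨e, h2 he⟩)).ncard ≤ _ :=
    Set.ncard_le_ncard (by rintro _ ⟨g, rfl⟩; exact inv _ h9 g)
  have k2 := orb_card h9.2
  have k3 := card_dvd_of_le h2
  rw [cardQ q.out.comm] at k3 ⊢
  obtain ⟨k, hk, k4⟩ := (Nat.dvd_prime_pow Nat.prime_two (m := 9)).1 k3
  interval_cases k <;> omega

end TD

theorem TD.QD.m0 {G : Type*} [Group G] [Finite G] {D : TD G} (q : D.QD) : D.M0 := by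
  have := Fact.mk q
  refine ⟨fun n hn => TD.gen' hn, fun e he h1 h2 h3 => ?_, fun x hx => ?_, fun e he => ?_,
    fun A => TD.irr'⟩
  · have h : D.cl ⟨e, he⟩ ∈ D.A2 := TD.mem_A2.2 ⟨h1, h2, h3⟩
    rw [TD.A2_eq.1] at h
    obtain ⟨x, hx⟩ := h
    exact ⟨x, by simpa [TD.kk, TD.cjN] using TD.cl_eq'.1 hx⟩
  · exact TD.reg_rb (TD.fix_fst.2 hx)
  · obtain ⟨g, hg⟩ := TD.all_fix (D.cl ⟨e, he⟩)
    exact ⟨_, (D.kk g).2, TD.fix_a.1 hg⟩

end Cfsg.Lib.HN3
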