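import Cfsg.Agent.HN3.BaseC

/-!
Subgroups of `SL₂(5) × SL₂(5)` and counting lemmas for orbits.
-/

set_option autoImplicit false

namespace Cfsg.Lib.HN3.Orb

open Subgroup Equiv Cfsg.Lib.Perm MulAction
open Cfsg.Lib.Mc3 (g5 w5 r10)

set_option synthInstance.maxSize 2000 in
theorem four_or : ∀ x : SL25, x * x * (x * x) = 1 ∨
    ((x * (s5 * x * s5⁻¹)) ^ 2 * (x * (s5 * x * s5⁻¹)) ^ 2 * (x * (s5 * x * s5⁻¹)) ^ 2 = 1 ∧
      (x * (s5 * x * s5⁻¹)) ^ 2 ≠ 1) ∨
    ((x * (s5 * x * s5⁻¹)⁻¹) ^ 2 * (x * (s5 * x * s5⁻¹)⁻¹) ^ 2 * (x * (s5 * x * s5⁻¹)⁻¹) ^ 2 = 1 ∧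
      (x * (s5 * x * s5⁻¹)⁻¹) ^ 2 ≠ 1) := by
  simp only [forall_sl2]
  decide +kernel

set_option synthInstance.maxSize 2000 in
theorem not_four : ∀ x : SL25, x * x * (x * x) = 1 →
    x * (g5 * x * g5⁻¹) * (x * (g5 * x * g5⁻¹)) * (x * (g5 * x * g5⁻¹) * (x * (g5 * x * g5⁻¹))) = 1 →
    x = 1 ∨ x = -1 := by
  simp only [forall_sl2]
  decide +kernel

set_option synthInstance.maxSize 2000 in
theorem inv_three : ∀ x : SL25, x * x = -1 → ∃ i, x * r10 i * x⁻¹ * r10 i = 1 := by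
  simp only [forall_sl2]
  decide +kernel

set_option synthInstance.maxSize 2000 in
theorem five_gen : ∀ x : SL25, ∃ (j : Fin 2) (i : Fin 5),
    (x * (w5 * g5 * w5⁻¹) ^ (j : ℕ) * g5 ^ (i : ℕ)) ^ 5 = 1 := by
  simp only [forall_sl2]
  decide +kernel

theorem eq_top_of_five {K : Subgroup SL25} (h : ∀ x : SL25, x ^ 5 = 1 → x ∈ K) : K = ⊤ := by
  refine eq_top_iff.2 fun x _ => ?_
  obtain ⟨j, i, e⟩ := five_gen x
  have h1 := h g5 Mc3.g5_ok.1
  have h2 := h (w5 * g5 * w5⁻¹) (by rw [conj_pow, Mc3.g5_ok.1]; simp)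
  exact (K.mul_mem_cancel_right (pow_mem h2 _)).1 ((K.mul_mem_cancel_right (pow_mem h1 _)).1 (h _ e))

section
variable {E X : Type*} [Group E] [MulAction E X] [Finite X]

theorem fix_all {g : E} (hg : g ^ 5 = 1)
    (h : Nat.card X ≤ 4 ∨ (Nat.card X ≤ 5 ∧ ∃ y : X, g • y = y)) (x : X) : g • x = x := by
  have : Fact (Nat.Prime 5) := ⟨by norm_num⟩
  have hP : IsPGroup 5 (zpowers g) := fun y => ⟨1, by
    obtain ⟨y, k, rfl⟩ := y
    refine Subtype.ext ?_
    change (g ^ k) ^ 5 ^ 1 = 1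
    rw [pow_one, ← zpow_natCast, ← zpow_mul, mul_comm, zpow_mul, zpow_natCast, hg, one_zpow]⟩
  have h1 := hP.card_modEq_card_fixedPoints X
  have hm : ∀ y : X, y ∈ fixedPoints (zpowers g) X ↔ g • y = y := fun y =>
    ⟨fun hy => hy ⟨g, mem_zpowers g⟩, fun hy k =>
      (zpowers_le.2 (mem_stabilizer_iff.2 hy) k.2 : (k : E) ∈ stabilizer E y)⟩
  have h2 : Nat.card (fixedPoints (zpowers g) X) ≤ Nat.card X :=
    Nat.card_le_card_of_injective _ Subtype.val_injective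
  have h3 : Nat.card (fixedPoints (zpowers g) X) = Nat.card X := by
    unfold Nat.ModEq at h1
    rcases h with h | ⟨h, y, hy⟩
    · omega
    · have : Nonempty (fixedPoints (zpowers g) X) := ⟨⟨y, (hm y).2 hy⟩⟩
      have := Nat.card_pos (α := fixedPoints (zpowers g) X)
      omega
  have h4 : fixedPoints (zpowers g) X = Set.univ :=
    (Set.eq_univ_iff_ncard _).2 h3
  exact (hm x).1 (h4 ▸ Set.mem_univ x)

theorem dvd_ncard {k : ℕ} (W : Set X) (hW : ∀ v ∈ W, ∀ g : E, g • v ∈ W)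
    (h : ∀ v ∈ W, k ∣ (orbit E v).ncard) : k ∣ W.ncard := by
  induction hn : W.ncard using Nat.strong_induction_on generalizing W with
  | _ n ih =>
    rcases W.eq_empty_or_nonempty with rfl | ⟨v, hv⟩
    · rw [← hn]; simp
    have hs : orbit E v ⊆ W := by rintro _ ⟨g, rfl⟩; exact hW v hv g
    have e := Set.ncard_sdiff_add_ncard_of_subset hs
    have hp : 0 < (orbit E v).ncard := (Set.ncard_pos (Set.toFinite _)).2 ⟨v, mem_orbit_self v⟩
    have := ih (W \ orbit E v).ncard (by omega) (W \ orbit E v) (fun w hw g =>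
      ⟨hW w hw.1 g, fun hg => hw.2 (by simpa using mem_orbit_of_mem_orbit g⁻¹ hg)⟩)
      (fun w hw => h w hw.1) rfl
    rw [← hn, ← e]
    exact Nat.dvd_add this (h v hv)

omit [Finite X] in
theorem orb_mul (v : X) : (orbit E v).ncard * Nat.card (stabilizer E v) = Nat.card E := by
  rw [← index_stabilizer, index_mul_card]

end

theorem card_sub {E A B : Type*} [Group E] [Group A] [Group B] (f : E →* A) (i : B →* E)
    (hi : Function.Injective i) (h : i.range = f.ker) (S : Subgroup E) :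
    Nat.card S = Nat.card (S.map f) * Nat.card (S.comap i) := by
  rw [← relIndex_ker, ← card_map_of_injective hi, map_comap_eq, h, ← inf_relIndex_right,
    mul_comm, Trans.card_mul_relIndex inf_le_right]

theorem card_fst (S : Subgroup (SL25 × SL25)) : Nat.card S =
    Nat.card (S.map (MonoidHom.fst SL25 SL25)) * Nat.card (S.comap (MonoidHom.inr SL25 SL25)) :=
  card_sub _ _ (fun _ _ h => congrArg Prod.snd h) (by ext ⟨x, y⟩; simp [eq_comm, mem_prod]) S

theorem card_snd (S : Subgroup (SL25 × SL25)) : Nat.card S =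
    Nat.card (S.map (MonoidHom.snd SL25 SL25)) * Nat.card (S.comap (MonoidHom.inl SL25 SL25)) :=
  card_sub _ _ (fun _ _ h => congrArg Prod.fst h) (by ext ⟨x, y⟩; simp [eq_comm, mem_prod]) S

theorem card_le_24 {Y : Subgroup SL25} (h : Y ≠ ⊤) : Nat.card Y ≤ 24 := by
  by_contra hc
  refine h (eq_top_of_five fun x hx => ?_)
  have e := Y.index_mul_card
  rw [card_SL25] at e
  have h4 : Y.index ≤ 4 := by
    by_contra h5
    have := Nat.mul_le_mul (not_le.1 h5) (not_le.1 hc)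
    omega
  have := fix_all (X := SL25 ⧸ Y) hx (Or.inl h4) ((1 : SL25) : SL25 ⧸ Y)
  rw [Quotient.smul_coe, smul_eq_mul, mul_one, eq_comm, QuotientGroup.eq] at this
  simpa using this

theorem pow_four {X : Subgroup SL25} (h : ∀ x ∈ X, x * x * x = 1 → x = 1)
    (hs : ∀ x ∈ X, s5 * x * s5⁻¹ ∈ X) {x : SL25} (hx : x ∈ X) : x * x * (x * x) = 1 := by
  rcases four_or x with e | e | e
  · exact e
  · exact (e.2 (h _ (pow_mem (mul_mem hx (hs x hx)) _) e.1)).elim
  · exact (e.2 (h _ (pow_mem (mul_mem hx (inv_mem (hs x hx))) _) e.1)).elim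

theorem card_le_8 {X : Subgroup SL25} (h : ∀ x ∈ X, x * x * (x * x) = 1) : Nat.card X ≤ 8 := by
  have hP : IsPGroup 2 X := fun y => ⟨2, Subtype.ext (by
    simpa [pow_succ, mul_assoc] using h y y.2)⟩
  obtain ⟨k, hk⟩ := hP.exists_card_eq
  have h1 := X.card_subgroup_dvd_card
  rw [hk, card_SL25] at h1
  rw [hk]
  by_contra hc
  have : 4 ≤ k := by
    by_contra h4
    interval_cases k <;> omega
  have := (pow_dvd_pow 2 this).trans h1
  omega

theorem card_pm {X : Subgroup SL25} (h : ∀ x, x ∈ X ↔ x = 1 ∨ x = -1) : Nat.card X = 2 := by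
  have : (X : Set SL25) = {1, -1} := Set.ext h
  rw [← SetLike.coe_sort_coe, this, Nat.card_coe_set_eq, Set.ncard_pair SL25_neg_one_ne.symm]

theorem card_E : Nat.card (SL25 × SL25) = 14400 := by rw [Nat.card_prod, card_SL25]

section
variable {S : Subgroup (SL25 × SL25)}

theorem conj_fst {x y z : SL25} (h : (y, z) ∈ S) (hx : (x, 1) ∈ S) : (y * x * y⁻¹, 1) ∈ S := by
  simpa using mul_mem (mul_mem h hx) (inv_mem h)

theorem conj_snd {x y z : SL25} (h : (z, y) ∈ S) (hx : (1, x) ∈ S) : (1, y * x * y⁻¹) ∈ S := by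
  simpa using mul_mem (mul_mem h hx) (inv_mem h)

theorem four_fst (n1 : ∀ x, (x, 1) ∈ S → x * x * x = 1 → x = 1) {y : SL25} (d1 : (s5, y) ∈ S)
    {x : SL25} (hx : (x, 1) ∈ S) : x * x * (x * x) = 1 :=
  pow_four (X := S.comap (MonoidHom.inl SL25 SL25)) n1 (fun _ => conj_fst d1) hx

theorem stab_le (n1 : ∀ x, (x, 1) ∈ S → x * x * x = 1 → x = 1)
    (n2 : ∀ x, (1, x) ∈ S → x * x * x = 1 → x = 1) {y y' : SL25} (d1 : (s5, y) ∈ S)
    (d2 : (y', s5) ∈ S) {x : SL25} (hx : (x, 1) ∈ S) (h1 : ¬ (x = 1 ∨ x = -1)) :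
    Nat.card S ≤ 192 := by
  rw [card_fst]
  refine Nat.mul_le_mul (card_le_24 (fun e => h1 ?_)) (card_le_8 (fun z hz =>
    pow_four (X := S.comap (MonoidHom.inr SL25 SL25)) n2 (fun _ => conj_snd d2) hz))
  obtain ⟨⟨g, z⟩, hg, rfl : g = g5⟩ : g5 ∈ S.map (MonoidHom.fst SL25 SL25) := e ▸ mem_top _
  refine not_four x (four_fst n1 d1 hx) (four_fst n1 d1 ?_)
  simpa using mul_mem hx (conj_fst hg hx)

theorem stab_eq (h : ∀ x, (x, 1) ∈ S ↔ x = 1 ∨ x = -1) : Nat.card S = 240 ∨ Nat.card S ≤ 48 := by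
  rw [card_snd, card_pm (X := S.comap (MonoidHom.inl SL25 SL25)) h]
  by_cases e : S.map (MonoidHom.snd SL25 SL25) = ⊤
  · left; rw [e, card_top, card_SL25]
  · right; have := card_le_24 e; omega

end

theorem normal_range {M : Type*} [Group M] [Finite M] (φ : SL25 × SL25 →* M)
    (h : φ.range.index ≤ 5) : φ.range.Normal := by
  have key : ∀ g : SL25 × SL25, g ^ 5 = 1 → φ g ∈ φ.range.normalCore := fun g hg => by
    rw [normalCore_eq_ker, MonoidHom.mem_ker]
    ext1 x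
    refine fix_all (X := M ⧸ φ.range) (g := φ g) (by rw [← map_pow, hg, map_one])
      (Or.inr ⟨h, ((1 : M) : M ⧸ φ.range), ?_⟩) x
    rw [Quotient.smul_coe, smul_eq_mul, mul_one, eq_comm, QuotientGroup.eq]
    simp
  have h1 := eq_top_of_five (K := (φ.range.normalCore.comap φ).comap (MonoidHom.inl SL25 SL25))
    fun x hx => key _ (by rw [← map_pow, hx, map_one])
  have h2 := eq_top_of_five (K := (φ.range.normalCore.comap φ).comap (MonoidHom.inr SL25 SL25))
    fun x hx => key _ (by rw [← map_pow, hx, map_one])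
  have : φ.range ≤ φ.range.normalCore := by
    rintro _ ⟨⟨x, y⟩, rfl⟩
    have e : ((x, y) : SL25 × SL25) = MonoidHom.inl SL25 SL25 x * MonoidHom.inr SL25 SL25 y := by simp
    rw [e, map_mul]
    exact mul_mem (h1.ge (mem_top x)) (h2.ge (mem_top y))
  rw [le_antisymm this (normalCore_le _)]
  infer_instance

end Cfsg.Lib.HN3.Orb
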