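import Cfsg.Agent.HN3.Base
import Cfsg.Agent.HN3.OrbA

/-!
The action of the normaliser of `Q` on `Q` modulo its centre.
-/

set_option autoImplicit false

namespace Cfsg.Lib.HN3

open Subgroup Equiv Cfsg.Lib.Perm MulAction
open scoped commutatorElement

namespace TD

variable {G : Type*} [Group G] (D : TD G)

/-- `Q` modulo its centre. -/
def Vb : Type _ := D.Q ⧸ (zpowers D.t).subgroupOf D.Q
/-- The class of an element of `Q`. -/
def cl (e : D.Q) : D.Vb := QuotientGroup.mk e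
/-- The classes of the elements with a given property. -/
def img (P : G → Prop) : Set D.Vb := {v | ∃ e : D.Q, P e ∧ D.cl e = v}
/-- Conjugation. -/
def cjN (n : D.N) (e : D.Q) : D.Q := ⟨n * e * (n : G)⁻¹, D.conj_Q n.2 e.2⟩

instance [Finite G] : Finite D.Vb := inferInstanceAs (Finite (_ ⧸ _))

theorem cl_surj (v : D.Vb) : ∃ e, D.cl e = v := QuotientGroup.mk_surjective v

variable {D}

theorem cl_eq {e e' : D.Q} : D.cl e = D.cl e' ↔ (e' : G) = e ∨ (e' : G) = e * D.t := by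
  refine QuotientGroup.eq.trans (mem_subgroupOf.trans (D.mem_zt.trans ?_))
  simp [inv_mul_eq_iff_eq_mul]

theorem cl_eq' {e e' : D.Q} : D.cl e = D.cl e' ↔ (e : G) * (e' : G)⁻¹ ∈ zpowers D.t := by
  rw [eq_comm, cl_eq, D.mem_zt, mul_inv_eq_iff_eq_mul, mul_inv_eq_iff_eq_mul, one_mul, D.Q_t e'.2]

theorem cl_eq_one {e : D.Q} : D.cl e = D.cl 1 ↔ (e : G) ∈ zpowers D.t := by simp [cl_eq']

theorem mem_img {P : G → Prop} (h : ∀ e ∈ D.Q, P e → P (e * D.t)) {e : D.Q} :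
    D.cl e ∈ D.img P ↔ P e := by
  refine ⟨fun ⟨e', h1, h2⟩ => ?_, fun h1 => ⟨e, h1, rfl⟩⟩
  rcases cl_eq.1 h2 with h3 | h3 <;> rw [h3]
  exacts [h1, h _ e'.2 h1]

theorem card_pre (W : Set D.Vb) : Nat.card (D.cl ⁻¹' W) = 2 * W.ncard := by
  rw [← D.card_zt, ← Nat.card_congr (subgroupOfEquivOfLe D.zt_le).toEquiv, ← Nat.card_coe_set_eq]
  exact QuotientGroup.card_preimage_mk _ W

theorem card_img {P : G → Prop} (h : ∀ e ∈ D.Q, P e → P (e * D.t)) :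
    Nat.card {x : G // x ∈ D.Q ∧ P x} = 2 * (D.img P).ncard := by
  rw [← card_pre]
  exact Nat.card_congr ⟨fun x => ⟨⟨x, x.2.1⟩, (mem_img h).2 x.2.2⟩,
    fun x => ⟨x.1, x.1.2, (mem_img h).1 x.2⟩, fun _ => rfl, fun _ => rfl⟩

theorem sq_mul_t {e : G} (h : e ∈ D.Q) : e * D.t * (e * D.t) = e * e := by
  rw [mul_assoc, ← mul_assoc D.t, ← D.Q_t h, mul_assoc e, D.tt, mul_one]

theorem notMem_mul_t {e : G} (h : e ∉ zpowers D.t) : e * D.t ∉ zpowers D.t := fun h1 =>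
  h ((mul_mem_cancel_right (mem_zpowers _)).1 h1)

variable [Finite G] [q : Fact D.QD]

theorem Nt (n : D.N) : (n : G) * D.t = D.t * n := N_t q.out.comm n.2

instance : MulAction D.N D.Vb where
  smul n := Quotient.map' (D.cjN n) fun e e' h => Quotient.exact' (cl_eq.2 (by
    rcases cl_eq.1 (Quotient.sound' h) with h | h
    · exact Or.inl (by simp [cjN, h])
    · refine Or.inr ?_
      simp only [cjN, h]
      rw [mul_assoc _ _ D.t, (Commute.inv_left (Nt n)).eq]; group))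
  one_smul v := by
    obtain ⟨e, rfl⟩ := D.cl_surj v
    exact congrArg D.cl (Subtype.ext (by simp [cjN]))
  mul_smul m n v := by
    obtain ⟨e, rfl⟩ := D.cl_surj v
    exact congrArg D.cl (Subtype.ext (by simp [cjN, mul_assoc]))

theorem smul_cl (n : D.N) (e : D.Q) : n • D.cl e = D.cl (D.cjN n e) := rfl

theorem smul_fix {n : D.N} {e : D.Q} : n • D.cl e = D.cl e ↔ D.Fx n e := cl_eq'

theorem Q_smul {n : D.N} (h : (n : G) ∈ D.Q) (v : D.Vb) : n • v = v := by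
  obtain ⟨e, rfl⟩ := D.cl_surj v
  exact smul_fix.2 (cQ q.out.comm _ h _ e.2)

theorem smul_img {P : G → Prop} (h : ∀ n ∈ D.N, ∀ e ∈ D.Q, P e → P (n * e * n⁻¹)) (n : D.N)
    {v : D.Vb} (hv : v ∈ D.img P) : n • v ∈ D.img P := by
  obtain ⟨e, h1, rfl⟩ := hv
  exact ⟨D.cjN n e, h _ n.2 _ e.2 h1, rfl⟩

variable (D) in
/-- The product of elements of the two copies of `SL₂(5)`. -/
def kk (g : SL25 × SL25) : D.N := ⟨D.κ g.1 * D.κ' g.2, mul_mem (q.out.nK _) (q.out.nK' _)⟩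

instance : MulAction (SL25 × SL25) D.Vb where
  smul g v := D.kk g • v
  one_smul v := Q_smul (by simp [kk]) v
  mul_smul g h v := by
    have e : D.kk (g * h) = D.kk g * ⟨_, D.Q_le_N (q.out.KK h.1 g.2⁻¹)⟩⁻¹ * D.kk h :=
      Subtype.ext (by simp [kk, commutatorElement_def, mul_assoc])
    change D.kk (g * h) • v = D.kk g • D.kk h • v
    rw [e, mul_smul, mul_smul, Q_smul (n := _⁻¹) (inv_mem (q.out.KK h.1 g.2⁻¹))]

theorem E_smul (g : SL25 × SL25) (v : D.Vb) : g • v = D.kk g • v := rfl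

theorem E_fix {x y : SL25} {e : D.Q} : (x, y) • D.cl e = D.cl e ↔ D.Fx (D.κ x * D.κ' y) e :=
  smul_fix

theorem fix_fst {x : SL25} {e : D.Q} : (x, (1 : SL25)) • D.cl e = D.cl e ↔ D.Fx (D.κ x) e := by
  rw [E_fix, map_one, mul_one]

theorem fix_snd {x : SL25} {e : D.Q} : ((1 : SL25), x) • D.cl e = D.cl e ↔ D.Fx (D.κ' x) e := by
  rw [E_fix, map_one, one_mul]

theorem kk_a : D.kk (s5, s5) = ⟨D.a, D.aN⟩⁻¹ := Subtype.ext (by
  change D.κ s5 * D.κ' s5 = D.a⁻¹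
  rw [D.κs, D.κ's, D.ab, eq_inv_iff_mul_eq_one, ← D.a3']
  simp [pow_succ, mul_assoc])

theorem kk_b : D.kk (s5, s5⁻¹) = ⟨D.b, D.bN⟩ := Subtype.ext (by
  change D.κ s5 * D.κ' s5⁻¹ = D.b
  rw [map_inv, D.κs, D.κ's, D.cab.inv_right.eq, ← mul_one D.b⁻¹, ← D.b3', mul_inv_eq_iff_eq_mul,
    D.ab]
  simp [pow_succ, mul_assoc])

theorem fix_a {e : D.Q} : (s5, s5) • D.cl e = D.cl e ↔ (e : G) ∈ D.Ea := by
  rw [E_smul, kk_a, inv_smul_eq_iff, eq_comm, smul_fix]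
  exact fx_a q.out.comm e.2

theorem fix_b {e : D.Q} (h : (e : G) ∈ D.Eb) : (s5, s5⁻¹) • D.cl e = D.cl e := by
  rw [E_smul, kk_b, smul_fix]
  exact (fx_b q.out.comm e.2).2 h

theorem n1 {v : D.Vb} (hv : v ≠ D.cl 1) (x : SL25) (h : (x, 1) ∈ stabilizer (SL25 × SL25) v)
    (h3 : x * x * x = 1) : x = 1 := by
  obtain ⟨e, rfl⟩ := D.cl_surj v
  by_contra h1
  exact hv (cl_eq_one.2 (q.out.fx_κ h3 h1 e.2 (fix_fst.1 h)))

theorem n2 {v : D.Vb} (hv : v ≠ D.cl 1) (x : SL25) (h : (1, x) ∈ stabilizer (SL25 × SL25) v)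
    (h3 : x * x * x = 1) : x = 1 := by
  obtain ⟨e, rfl⟩ := D.cl_surj v
  by_contra h1
  exact hv (cl_eq_one.2 (q.out.fx_κ' h3 h1 e.2 (fix_snd.1 h)))

theorem neg_fix (v : D.Vb) : ((-1 : SL25), (1 : SL25)) • v = v :=
  Q_smul (by simp [kk, D.κt, D.tQ]) v

theorem orb_img {P : G → Prop} (h : ∀ n ∈ D.N, ∀ e ∈ D.Q, P e → P (n * e * n⁻¹))
    {v : D.Vb} (hv : v ∈ D.img P) : orbit (SL25 × SL25) v ⊆ D.img P := by
  rintro _ ⟨g, rfl⟩
  exact smul_img h _ hv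

theorem orb_ge {v : D.Vb} (hv : v ≠ D.cl 1) {y y' : SL25} (d1 : (s5, y) • v = v)
    (d2 : (y', s5) • v = v) {x : SL25} (hx : (x, (1 : SL25)) • v = v) (h1 : ¬ (x = 1 ∨ x = -1)) :
    75 ≤ (orbit (SL25 × SL25) v).ncard := by
  have h2 := Orb.stab_le (n1 hv) (n2 hv) d1 d2 hx h1
  have h3 := Orb.orb_mul (E := SL25 × SL25) v
  rw [Orb.card_E] at h3
  by_contra h4
  have := Nat.mul_le_mul (Nat.le_of_lt_succ (not_le.1 h4)) h2
  omega

theorem exists_fix {v : D.Vb} {x y : SL25} (hx : x * x * x = 1) (hx1 : x ≠ 1) (hy : y * y * y = 1)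
    (hy1 : y ≠ 1) (h : (x, y) • v = v) : ∃ g : SL25 × SL25, (s5, s5) • g • v = g • v := by
  obtain ⟨c, hc⟩ := Mc3.conj33 hx hx1 s5_cube s5_ne
  obtain ⟨d, hd⟩ := Mc3.conj33 hy hy1 s5_cube s5_ne
  have : ((s5, s5) : SL25 × SL25) * (c, d) = (c, d) * (x, y) := by
    rw [Prod.mk_mul_mk, Prod.mk_mul_mk, Prod.mk.injEq]
    exact ⟨by rw [← hc]; group, by rw [← hd]; group⟩
  exact ⟨(c, d), by rw [← mul_smul, this, mul_smul, h]⟩

end TD

end Cfsg.Lib.HN3
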