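import Cfsg.Agent.HN3.OrbB

/-!
The orbits of the two copies of `SL₂(5)` on `Q` modulo its centre.
-/

set_option autoImplicit false

namespace Cfsg.Lib.HN3

open Subgroup Equiv Cfsg.Lib.Perm MulAction
open scoped commutatorElement

namespace TD

variable {G : Type*} [Group G] (D : TD G)

/-- The classes of conjugates of `t`. -/
def T2 : Set D.Vb := D.img fun e => e ∉ zpowers D.t ∧ IsConj D.t e
/-- The classes of the other involutions. -/
def A2 : Set D.Vb := D.img fun e => e * e = 1 ∧ e ∉ zpowers D.t ∧ ¬ IsConj D.t e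
/-- The classes of the elements of order four. -/
def NS : Set D.Vb := D.img fun e => e * e ≠ 1
/-- The class of `r`. -/
def rb : D.Vb := D.cl ⟨D.r, D.rQ⟩

variable {D} [Finite G] [q : Fact D.QD]

theorem isConj_mul_t {e : G} (h : e ∈ D.Q) (h1 : e ∉ zpowers D.t) : IsConj e (e * D.t) := by
  obtain ⟨c, -, hc⟩ := conj_mul_t q.out.comm h h1
  exact isConj_iff.2 ⟨c, hc⟩

theorem mem_T2 {e : D.Q} : D.cl e ∈ D.T2 ↔ (e : G) ∉ zpowers D.t ∧ IsConj D.t e :=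
  mem_img fun _ he h => ⟨notMem_mul_t h.1, h.2.trans (isConj_mul_t he h.1)⟩

theorem mem_A2 {e : D.Q} :
    D.cl e ∈ D.A2 ↔ (e : G) * e = 1 ∧ (e : G) ∉ zpowers D.t ∧ ¬ IsConj D.t e :=
  mem_img fun _ he h => ⟨(sq_mul_t he).trans h.1, notMem_mul_t h.2.1,
    fun h1 => h.2.2 (h1.trans (isConj_mul_t he h.2.1).symm)⟩

omit [Finite G] q in
theorem mem_NS {e : D.Q} : D.cl e ∈ D.NS ↔ (e : G) * e ≠ 1 :=
  mem_img fun _ he h => (sq_mul_t he).symm ▸ h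

theorem notMem_conj {n e : G} (hn : n ∈ D.N) (h : e ∉ zpowers D.t) : n * e * n⁻¹ ∉ zpowers D.t :=
  fun h1 => h (by
    have := D.conj_zt (Nt ⟨_, inv_mem hn⟩) h1
    rwa [← this, show n⁻¹ * (n * e * n⁻¹) * n⁻¹⁻¹ = e by group] at h1)

theorem smul_A2 (n : D.N) {v : D.Vb} (hv : v ∈ D.A2) : n • v ∈ D.A2 :=
  smul_img (fun n hn e _ h => ⟨by rw [conj_mul, h.1]; simp, notMem_conj hn h.2.1,
    fun h1 => h.2.2 (h1.trans (isConj_iff.2 ⟨n, rfl⟩).symm)⟩) n hv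

theorem orb_A2 {v : D.Vb} (hv : v ∈ D.A2) : orbit (SL25 × SL25) v ⊆ D.A2 := by
  rintro _ ⟨g, rfl⟩
  exact smul_A2 _ hv

theorem orb_T2 {v : D.Vb} (hv : v ∈ D.T2) : orbit (SL25 × SL25) v ⊆ D.T2 :=
  orb_img (fun n hn _ _ h => ⟨notMem_conj hn h.1, h.2.trans (isConj_iff.2 ⟨n, rfl⟩)⟩) hv

theorem orb_NS {v : D.Vb} (hv : v ∈ D.NS) : orbit (SL25 × SL25) v ⊆ D.NS :=
  orb_img (fun n _ e _ h h1 => h (by simpa [conj_mul] using h1)) hv

omit [Finite G] q in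
theorem sq_of_conj {e : G} (h : IsConj D.t e) : e * e = 1 := by
  obtain ⟨c, rfl⟩ := isConj_iff.1 h
  rw [conj_mul, D.tt]; simp

theorem Vb_cases (v : D.Vb) : v = D.cl 1 ∨ v ∈ D.T2 ∨ v ∈ D.A2 ∨ v ∈ D.NS := by
  obtain ⟨e, rfl⟩ := D.cl_surj v
  rw [cl_eq_one, mem_T2, mem_A2, mem_NS]
  tauto

theorem card_TA : D.T2.ncard + D.A2.ncard = 135 := by
  have h := card_img (D := D) (P := fun e => e * e = 1) fun _ he h => (sq_mul_t he).trans h
  rw [invQ q.out.comm] at h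
  have e : D.img (fun e => e * e = 1) = insert (D.cl 1) (D.T2 ∪ D.A2) := by
    ext v
    obtain ⟨e, rfl⟩ := D.cl_surj v
    rw [mem_img fun _ he h => (sq_mul_t he).trans h, Set.mem_insert_iff, Set.mem_union, cl_eq_one,
      mem_T2, mem_A2]
    refine ⟨by tauto, ?_⟩
    rintro (h | h | h)
    · rcases D.mem_zt.1 h with h | h <;> simp [h, D.tt]
    exacts [sq_of_conj h.2, h.1]
  rw [e, Set.ncard_insert_of_notMem (by simp [mem_T2, mem_A2]), Set.ncard_union_eq] at h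
  · omega
  · refine Set.disjoint_left.2 fun v h1 h2 => ?_
    obtain ⟨e, rfl⟩ := D.cl_surj v
    exact (mem_A2.1 h2).2.2 (mem_T2.1 h1).2

theorem card_NS : D.NS.ncard = 120 := by
  have h := card_img (D := D) (P := fun e => e * e ≠ 1) fun _ he h => (sq_mul_t he).symm ▸ h
  have h1 := invQ q.out.comm
  have h2 := cardQ q.out.comm
  have h3 := Set.ncard_sdiff_add_ncard_of_subset
    (s := {x : G | x ∈ D.Q ∧ x * x = 1}) (t := D.Q) fun _ h => h.1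
  have h4 : (D.Q : Set G) \ {x : G | x ∈ D.Q ∧ x * x = 1} = {x : G | x ∈ D.Q ∧ x * x ≠ 1} := by
    ext x; simp; tauto
  rw [h4] at h3
  change Set.ncard {x : G | x ∈ D.Q ∧ x * x = 1} = _ at h1
  change Set.ncard (D.Q : Set G) = _ at h2
  change Set.ncard {x : G | x ∈ D.Q ∧ x * x ≠ 1} = 2 * D.NS.ncard at h
  omega

omit q in
theorem exists_notMem {H : Type*} [Group H] {A : Subgroup H} (h : Nat.card A = 8) (x y : H) :
    ∃ z ∈ A, ¬ (z = x ∨ z = y) := by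
  by_contra! hc
  have h1 : (A : Set H).ncard ≤ ({x, y} : Set H).ncard := Set.ncard_le_ncard hc
  have h2 := Set.ncard_insert_le x {y}
  rw [Set.ncard_singleton] at h2
  change (A : Set H).ncard = 8 at h
  omega

theorem exists_T2 : ∃ v ∈ D.T2, (s5, s5) • v = v ∧ 75 ≤ (orbit (SL25 × SL25) v).ncard := by
  obtain ⟨u, hu, h1⟩ := exists_notMem D.cardU 1 D.t
  obtain ⟨R, hR, -, h2⟩ := q.out.R
  obtain ⟨ρ, hρ, h3⟩ := exists_notMem hR 1 (-1)
  have h4 : (s5, s5) • D.cl ⟨u, D.Ea_le (D.UE hu)⟩ = _ := fix_a.2 (D.UE hu)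
  rw [← D.mem_zt] at h1
  exact ⟨_, mem_T2.2 ⟨h1, D.conj_U hu fun (e : u = 1) => h1 (e ▸ one_mem _)⟩, h4,
    orb_ge (mt cl_eq_one.1 h1) h4 h4 (fix_fst.2 (D.fx_of_comm (h2 ρ hρ u hu))) h3⟩

theorem card_A2_le : D.A2.ncard ≤ 60 := by
  obtain ⟨v, hv, -, h⟩ := exists_T2 (D := D)
  have := Set.ncard_le_ncard (orb_T2 hv)
  have := card_TA (D := D)
  omega

theorem rb_A2 : D.rb ∈ D.A2 := mem_A2.2 ⟨D.rr, D.r_notMem, D.tr⟩

theorem rb_fix : (s5, s5⁻¹) • D.rb = D.rb := fix_b D.rEb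

theorem reg_rb {x : SL25} (h : (x, (1 : SL25)) • D.rb = D.rb) : x = 1 ∨ x = -1 := by
  by_contra h1
  have h2 : (s5⁻¹, s5) • D.rb = D.rb := by simpa using inv_mem (mem_stabilizer_iff.2 rb_fix)
  have := orb_ge (v := D.rb) (mt cl_eq_one.1 D.r_notMem) rb_fix h2 h h1
  have := Set.ncard_le_ncard (orb_A2 (rb_A2 (D := D)))
  have := card_A2_le (D := D)
  omega

theorem pm_iff {v : D.Vb} (h : ∀ x : SL25, (x, (1 : SL25)) • v = v → x = 1 ∨ x = -1) (x : SL25) :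
    (x, 1) ∈ stabilizer (SL25 × SL25) v ↔ x = 1 ∨ x = -1 := by
  refine ⟨h x, ?_⟩
  rintro (rfl | rfl)
  exacts [one_mem _, neg_fix v]

theorem A2_eq : D.A2 = Set.range (fun x : SL25 => (x, (1 : SL25)) • D.rb) ∧ D.A2.ncard = 60 := by
  let := MulAction.compHom D.Vb (MonoidHom.inl SL25 SL25)
  have h1 := Orb.orb_mul (E := SL25) D.rb
  rw [card_SL25, Orb.card_pm (X := stabilizer SL25 D.rb) (pm_iff fun _ => reg_rb)] at h1
  have h2 : orbit SL25 D.rb ⊆ D.A2 := by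
    rintro _ ⟨g, rfl⟩
    exact smul_A2 _ rb_A2
  have h3 := card_A2_le (D := D)
  have h4 := Set.eq_of_subset_of_ncard_le h2 (by omega)
  exact ⟨h4.symm, by rw [← h4]; omega⟩

theorem orb_rb : orbit (SL25 × SL25) D.rb = D.A2 :=
  (orb_A2 rb_A2).antisymm (by
    rw [A2_eq.1]
    rintro _ ⟨x, rfl⟩
    exact mem_orbit _ _)

theorem Cq_comm {ρ : SL25} (h : ρ * ρ = -1) :
    ∀ e ∈ D.Cq (D.κ ρ), ∀ e' ∈ D.Cq (D.κ ρ), e * e' = e' * e := by
  obtain ⟨i, hi⟩ := Orb.inv_three ρ h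
  obtain ⟨h3, h1, -⟩ := Mc3.r10_ok i
  refine (free_of_le q.out.comm (q.out.nK ρ) (by rw [← map_mul, h, D.κt]; exact D.tQ)
    (card_Cq_le q.out.comm (q.out.nK ρ) (q.out.nK (Mc3.r10 i)) ?_ ?_
      fun x hx => q.out.fx_κ h3 h1 hx)).2.2
  · rw [← map_pow, pow_three', h3, map_one]; exact one_mem _
  · rw [← map_inv, ← map_mul, ← map_mul, ← map_mul, hi, map_one]; exact one_mem _

theorem not_fix {v : D.Vb} (hv : v ∈ D.NS) {ρ : SL25} (h : ρ * ρ = -1) :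
    (ρ, (1 : SL25)) • v ≠ v := fun h1 => by
  obtain ⟨e, rfl⟩ := D.cl_surj v
  have hz : ∀ x ∈ D.Cq (D.κ ρ), D.κ' s5 * x * (D.κ' s5)⁻¹ ∈ D.Cq (D.κ ρ) := fun x hx => by
    have e1 : D.cl ⟨_, D.conj_Q (q.out.nK' s5) hx.1⟩ = ((1 : SL25), s5) • D.cl ⟨x, hx.1⟩ :=
      congrArg D.cl (Subtype.ext (by simp [kk, cjN]))
    refine ⟨D.conj_Q (q.out.nK' s5) hx.1, (fix_fst (e := ⟨_, D.conj_Q (q.out.nK' s5) hx.1⟩)).1 ?_⟩
    rw [e1, ← mul_smul, show ((ρ, 1) * (1, s5) : SL25 × SL25) = (1, s5) * (ρ, 1) by simp, mul_smul,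
      (fix_fst (e := ⟨x, hx.1⟩)).2 hx.2]
  obtain ⟨z, hz'⟩ : ∃ z, z = D.κ' s5 := ⟨_, rfl⟩
  have z3 : z * z * z = 1 := by rw [hz', ← map_mul, ← map_mul, s5_cube, map_one]
  have zt : z * D.t = D.t * z := hz' ▸ D.κ'_t s5
  rw [← hz'] at hz
  have h0 : (e : G) ∈ D.Cq (D.κ ρ) := ⟨e.2, fix_fst.1 h1⟩
  have h2 := hz _ h0
  have h3 := hz _ h2
  have ee : (e : G) * e = D.t := (D.mem_zt.1 (sqQ q.out.comm _ e.2)).resolve_left (mem_NS.1 hv)
  have c := Cq_comm (D := D) h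
  have c01 : Commute _ _ := c _ h0 _ h2
  have c02 : Commute _ _ := c _ h0 _ h3
  have c12 : Commute _ _ := c _ h2 _ h3
  have hn := mul_mem (mul_mem h0 h2) h3
  have h4 : _ ∈ zpowers D.t := q.out.fx_κ' s5_cube s5_ne hn.1 (D.fx_of_comm (comm_of_conj_eq (by
    rw [← hz', ← conj_mul, ← conj_mul, mul_assoc (e : G), (c01.mul_right c02).eq,
      show z * (z * (z * e * z⁻¹) * z⁻¹) * z⁻¹ = z * z * z * e * (z * z * z)⁻¹ by group, z3]
    simp)))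
  have h5 : ((e : G) * (z * e * z⁻¹) * (z * (z * e * z⁻¹) * z⁻¹)) ^ 2 = 1 := by
    rcases D.mem_zt.1 h4 with h | h <;> simp [h, pow_two, D.tt]
  rw [(c02.mul_left c12).mul_pow, c01.mul_pow, conj_pow, conj_pow, conj_pow, pow_two, ee,
    conj_eq_of_comm zt, conj_eq_of_comm zt, D.tt, one_mul] at h5
  exact D.t1 h5

theorem card_orb_NS {v : D.Vb} (hv : v ∈ D.NS) (h : (s5, s5) • v = v) :
    (orbit (SL25 × SL25) v).ncard = 60 := by
  have hv1 : v ≠ D.cl 1 := by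
    rintro rfl
    exact mem_NS.1 hv (by simp)
  have h1 := Orb.stab_eq (pm_iff (v := v) fun x hx => by
    by_contra h2
    exact not_fix hv (SL25_sq_eq (mt (SL25_sq x) h2) (Orb.four_fst (n1 hv1) h hx)) hx)
  have h2 := Orb.orb_mul (E := SL25 × SL25) v
  have h3 := Set.ncard_le_ncard (orb_NS hv)
  rw [card_NS] at h3
  rw [Orb.card_E] at h2
  rcases h1 with h1 | h1
  · rw [h1] at h2; omega
  · have := Nat.mul_le_mul h3 h1
    omega

theorem exists_fix' {v : D.Vb} (hv : v ≠ D.cl 1) (h : ¬ 9 ∣ (orbit (SL25 × SL25) v).ncard) :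
    ∃ g : SL25 × SL25, (s5, s5) • g • v = g • v := by
  have h2 := Orb.orb_mul (E := SL25 × SL25) v
  rw [Orb.card_E] at h2
  have h3 : 3 ∣ Nat.card (stabilizer (SL25 × SL25) v) := by
    by_contra h3
    exact h ((((Nat.prime_three.coprime_iff_not_dvd).2 h3).pow_left 2).dvd_of_dvd_mul_right
      (by rw [h2]; norm_num))
  have : Fact (Nat.Prime 3) := ⟨Nat.prime_three⟩
  obtain ⟨⟨⟨x, y⟩, hg⟩, h4⟩ := exists_prime_orderOf_dvd_card' 3 h3
  rw [← orderOf_coe, orderOf_eq_prime_iff, Prod.pow_mk, Prod.mk_eq_one, pow_three', pow_three'] at h4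
  refine exists_fix h4.1.1 ?_ h4.1.2 ?_ hg
  · rintro rfl
    exact h4.2 (Prod.ext rfl (n2 hv y hg h4.1.2))
  · rintro rfl
    exact h4.2 (Prod.ext (n1 hv x hg h4.1.1) rfl)

theorem NS_fix {v : D.Vb} (hv : v ∈ D.NS) : ∃ g : SL25 × SL25, (s5, s5) • g • v = g • v := by
  obtain ⟨e, he, h1⟩ : ∃ e ∈ D.Ea, e * e ≠ 1 := by
    by_contra! hc
    have := D.invE
    rw [Nat.card_congr (Equiv.subtypeEquivRight fun x => and_iff_left_of_imp (hc x))] at this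
    have h2 := D.cardE
    change Nat.card {x // x ∈ D.Ea} = _ at h2
    omega
  have h2 : D.cl ⟨e, D.Ea_le he⟩ ∈ D.NS := mem_NS.2 h1
  have h3 := fix_a (e := ⟨e, D.Ea_le he⟩).2 he
  generalize D.cl ⟨e, D.Ea_le he⟩ = v0 at h2 h3
  have back : ∀ w : D.Vb, (s5, s5) • w = w → v ∈ orbit (SL25 × SL25) w →
      ∃ g : SL25 × SL25, (s5, s5) • g • v = g • v := by
    rintro w hw ⟨g, rfl⟩
    exact ⟨g⁻¹, by simpa using hw⟩
  have h4 := Set.ncard_sdiff_add_ncard_of_subset (orb_NS h2)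
  rw [card_NS, card_orb_NS h2 h3] at h4
  have inv : ∀ w ∈ D.NS \ orbit (SL25 × SL25) v0, ∀ g : SL25 × SL25,
      g • w ∈ D.NS \ orbit (SL25 × SL25) v0 := fun w hw g =>
    ⟨orb_NS hw.1 (mem_orbit _ _), fun hg => hw.2 (by simpa using mem_orbit_of_mem_orbit g⁻¹ hg)⟩
  obtain ⟨w, hw, h5⟩ : ∃ w ∈ D.NS \ orbit (SL25 × SL25) v0, ¬ 9 ∣ (orbit (SL25 × SL25) w).ncard := by
    by_contra! hc
    have := Orb.dvd_ncard _ inv hc
    omega
  obtain ⟨g, hg⟩ := exists_fix' (by rintro rfl; exact mem_NS.1 hw.1 (by simp)) h5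
  have h6 : orbit (SL25 × SL25) (g • w) = D.NS \ orbit (SL25 × SL25) v0 :=
    Set.eq_of_subset_of_ncard_le (by rintro _ ⟨k, rfl⟩; exact inv _ (inv w hw g) k)
      (by rw [card_orb_NS (inv w hw g).1 hg]; omega)
  by_cases h7 : v ∈ orbit (SL25 × SL25) v0
  exacts [back _ h3 h7, back _ hg (h6 ▸ ⟨hv, h7⟩)]

theorem orb_card {v : D.Vb} (hv : v ≠ D.cl 1) :
    (orbit (SL25 × SL25) v).ncard = 60 ∨ (orbit (SL25 × SL25) v).ncard = 75 := by
  rcases Vb_cases v with h | h | h | h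
  · exact (hv h).elim
  · obtain ⟨w, hw, -, h1⟩ := exists_T2 (D := D)
    have h2 := card_TA (D := D)
    rw [A2_eq.2] at h2
    have h3 := Set.eq_of_subset_of_ncard_le (orb_T2 hw) (by omega)
    rw [orbit_eq_iff.2 (h3 ▸ h), h3]
    omega
  · rw [orbit_eq_iff.2 (orb_rb (D := D) ▸ h), orb_rb, A2_eq.2]
    exact Or.inl rfl
  · obtain ⟨g, hg⟩ := NS_fix h
    rw [← orbit_smul g v]
    exact Or.inl (card_orb_NS (orb_NS h (mem_orbit _ _)) hg)

theorem all_fix (v : D.Vb) : ∃ g : SL25 × SL25, (s5, s5) • g • v = g • v := by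
  by_cases hv : v = D.cl 1
  · exact ⟨1, by rw [one_smul, hv]; exact fix_a.2 (one_mem _)⟩
  · refine exists_fix' hv ?_
    rcases orb_card hv with h | h <;> rw [h] <;> norm_num

end TD

end Cfsg.Lib.HN3
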