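import Cfsg.Agent.HN3.OutA

/-!
The outer element normalising `⟨z⟩`, and the centraliser of `a` does not normalise `J`.
-/

set_option autoImplicit false
set_option linter.unusedSectionVars false

namespace Cfsg.Lib.HN3

open Subgroup Cfsg.Lib.Perm Cfsg.Lib.Mc3
open scoped commutatorElement

universe u

variable {G : Type u} [Group G] [Finite G]

namespace Out

variable (D : JD G)

theorem sL : D.s ∈ centralizer {D.z} := D.l.SL (D.JS D.sJ)

theorem y3 : D.pL D.s * D.pL D.s * D.pL D.s = 1 := D.l.cube_S (D.JS D.sJ)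

theorem y1 : D.pL D.s ≠ 1 := fun e => D.sQ ((D.l.ker _ (sL D)).1 e)

theorem fL : D.f ∈ centralizer {D.z} := D.κf ▸ κL D _

theorem fN : D.f ∈ normalizer (D.J : Set G) :=
  (D.nJz _ ((memL D).1 (fL D))).2 (mem_sup_right (mem_zpowers _))

theorem st : D.s * D.t = D.t * D.s := by
  rw [← D.κs, ← D.κt, ← map_mul, ← map_mul]; simp

variable {D} {u : G} (hu : ∀ j ∈ D.J, u * j * u⁻¹ = j⁻¹)
include hu

theorem uN : u ∈ normalizer (D.J : Set G) :=
  mem_normalizer_fintype fun j hj => by rw [hu j hj]; exact inv_mem hj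

theorem uZ : u ∈ normalizer (zpowers D.z : Set G) := mem_nz (by rw [hu _ (zJ D)]; simp)

theorem comm_u {n : G} (hn : n ∈ normalizer (D.J : Set G)) : ⁅n, u⁆ ∈ D.J := by
  refine D.cJ _ fun e he => mul_inv_eq_iff_eq_mul.1 ?_
  have h1 : u⁻¹ * e * u = e⁻¹ := by
    calc u⁻¹ * e * u = u⁻¹ * e⁻¹⁻¹ * u := by rw [inv_inv]
      _ = e⁻¹ := by rw [← hu _ (inv_mem he)]; group
  calc ⁅n, u⁆ * e * ⁅n, u⁆⁻¹ = n * (u * (n⁻¹ * (u⁻¹ * e * u) * n⁻¹⁻¹) * u⁻¹) * n⁻¹ := by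
        simp only [commutatorElement_def]; group
    _ = e := by rw [h1, hu _ (cjJ (inv_mem hn) (inv_mem he))]; group

theorem eq_one_of_fix {j : G} (hj : j ∈ D.J) (h : j * u = u * j) : j = 1 := by
  have := hu j hj
  rw [← h, mul_inv_cancel_right, eq_inv_iff_mul_eq_one] at this
  rw [← D.J3 j hj, pow_three, this, mul_one]

theorem hat (uu : u * u = 1) {n : G} (hn : n ∈ normalizer (D.J : Set G)) :
    ∃ j ∈ D.J, j * n * u = u * (j * n) :=
  ⟨_, comm_u hu hn, adjust uu (D.J3 _ (comm_u hu hn)) (by rw [commutatorElement_def]; group)⟩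

theorem hat_Q {j q : G} (hj : j ∈ D.J) (hq : q ∈ D.Q) (h : j * q * u = u * (j * q)) :
    j * q ∈ D.Q := by
  refine mul_mem (mem_of_sq (D.J3 j hj) ?_) hq
  have : j * j = u * q * u⁻¹ * q⁻¹ := by
    calc j * j = j * (j * q * u) * u⁻¹ * q⁻¹ := by group
      _ = j * (u * j * u⁻¹) * (u * q * u⁻¹ * q⁻¹) := by rw [h]; group
      _ = _ := by rw [hu j hj]; group
  rw [this]
  exact mul_mem (D.l.nQ u (uZ hu) q hq) (inv_mem hq)

omit hu in
/-- A quaternion group centralising `x`. -/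
structure Qt (x u x' r τ : G) : Prop where
  uu : u * u = 1
  u1 : u ≠ 1
  x3 : x' * x' * x' = 1
  xx : x' * x = x * x'
  xu : x' * u = u * x'
  rx : r * x = x * r
  rr : r * r = u
  q : x' * r * x'⁻¹ * r * (x' * r * x'⁻¹)⁻¹ = r⁻¹
  τx : τ * x * τ⁻¹ = x⁻¹
  τx' : τ * x' * τ⁻¹ = x'⁻¹
  τr : τ * r * τ⁻¹ = r * (x' * r * x'⁻¹)

omit hu in
theorem Qt.map {x u x' r τ : G} (h : Qt x u x' r τ) (φ : G ≃* G) :
    Qt (φ x) (φ u) (φ x') (φ r) (φ τ) where
  uu := by simpa using congrArg φ h.uu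
  u1 := by simpa using h.u1
  x3 := by simpa using congrArg φ h.x3
  xx := by simpa using congrArg φ h.xx
  xu := by simpa using congrArg φ h.xu
  rx := by simpa using congrArg φ h.rx
  rr := by simpa using congrArg φ h.rr
  q := by simpa only [map_mul, map_inv] using congrArg φ h.q
  τx := by simpa only [map_mul, map_inv] using congrArg φ h.τx
  τx' := by simpa only [map_mul, map_inv] using congrArg φ h.τx'
  τr := by simpa only [map_mul, map_inv] using congrArg φ h.τr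

theorem exists_qt (uu : u * u = 1) : ∃ x x' r τ, x ∈ D.Q ∧ x ∉ D.J ∧ Qt x u x' r τ := by
  have mC : ∀ {g : G}, g ∈ centralizer {u} ↔ g * u = u * g := mem_centralizer_singleton_iff
  have one : ∀ {j : G}, j ∈ D.J → j ∈ centralizer {u} → j = 1 := fun hj h =>
    eq_one_of_fix hu hj (mC.1 h)
  obtain ⟨α, αQ, hα⟩ := exists_α D
  obtain ⟨β, β3, hβ⟩ := exists_β D
  obtain ⟨j1, hj1, c1⟩ := hat hu uu (act_q1 D).nJ
  obtain ⟨j2, hj2, c2⟩ := hat hu uu hα.nJ
  obtain ⟨j3, hj3, c3⟩ := hat hu uu hβ.nJ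
  obtain ⟨j4, hj4, c4⟩ := hat hu uu (act_t D).nJ
  have xQ := hat_Q hu hj1 D.q1Q c1
  have x'Q := hat_Q hu hj2 αQ c2
  have ax := (act_q1 D).jmul hj1
  have ax' := hα.jmul hj2
  have ab := hβ.jmul hj3
  have aτ := (act_t D).jmul hj4
  have xJ : j1 * D.q1 ∉ D.J := fun e => D.q1J ((mul_mem_cancel_left hj1).1 e)
  have b3 : (j3 * β) ^ 3 = 1 := one (by
    rw [show (j3 * β) ^ 3 = j3 * (β * j3 * β⁻¹) * (β * (β * j3 * β⁻¹) * β⁻¹) * β ^ 3 by
      simp only [pow_three]; group, β3, mul_one]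
    exact mul_mem (mul_mem hj3 (cjJ hβ.nJ hj3)) (cjJ hβ.nJ (cjJ hβ.nJ hj3))) (pow_mem (mC.2 c3) 3)
  have ττ : j4 * D.t * (j4 * D.t) = 1 := one (by
    rw [show j4 * D.t * (j4 * D.t) = j4 * (D.t * j4 * D.t⁻¹) * (D.t * D.t) by group, D.tt, mul_one]
    exact mul_mem hj4 (cjJ (act_t D).nJ hj4)) (mul_mem (mC.2 c4) (mC.2 c4))
  have τL : j4 * D.t ∈ centralizer {D.z} := mul_mem (D.l.SL (D.JS hj4)) (tL D)
  have pτ : D.pL (j4 * D.t) = -1 := by
    refine (SL25_sq _ (by rw [← D.l.map_mul _ τL _ τL, ττ, D.l.map_one])).resolve_left fun e => ?_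
    have := D.l.cube_S ((mul_mem_cancel_left (D.JS hj4)).1 (D.l.QS ((D.l.ker _ τL).1 e)))
    rw [pt] at this
    exact SL25_neg_one_ne (by simpa using this)
  have rigid : ∀ {h : G}, Act D h id → h ∈ centralizer {u} → h ∈ zpowers (j1 * D.q1) :=
    fun {h} a c => by
      rcases a.cases with e | e | e
      · rw [one e c]; exact one_mem _
      · have := one (j := h * (j1 * D.q1)⁻¹)
          (by rw [mul_inv_rev, ← mul_assoc]; exact mul_mem e (inv_mem hj1))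
          (mul_mem c (inv_mem (mC.2 c1)))
        rw [mul_inv_eq_one.1 this]; exact mem_zpowers _
      · have := one (j := h * (j1 * D.q1))
          (by rw [show h * (j1 * D.q1) = h * j1 * h⁻¹ * (h * D.q1) by group]
              exact mul_mem (cjJ a.nJ hj1) e) (mul_mem c (mC.2 c1))
        rw [eq_inv_of_mul_eq_one_left this]; exact inv_mem (mem_zpowers _)
  replace c1 := mC.2 c1
  replace c2 := mC.2 c2
  replace c3 := mC.2 c3
  replace c4 := mC.2 c4
  generalize j1 * D.q1 = x at *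
  generalize j2 * α = x' at *
  generalize j3 * β = b at *
  generalize j4 * D.t = τ at *
  have x3 := D.l.cube _ xQ
  have x1 : x ≠ 1 := fun e => xJ (e ▸ one_mem _)
  have cube : ∀ {e : G}, e ∈ zpowers x → e ^ 3 = 1 := fun {e} ⟨k, hk⟩ => by
    rw [← hk, ← zpow_natCast, ← zpow_mul, mul_comm, zpow_mul, zpow_natCast, x3, one_zpow]
  have uniq : ∀ {r r' : G} {M M' : V3 → V3}, r ∈ centralizer {u} → r' ∈ centralizer {u} →
      r * x = x * r → r ^ 4 = 1 → r' ^ 4 = 1 → Act D r M → Act D r' M' → (∀ v, M' v = M v) →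
      r' = r := fun {r r' M M'} a1 a2 a3 a4 a5 a6 a7 a8 => by
    have h1 := rigid (h := r⁻¹ * r') (fun v => by
      calc _ = r⁻¹ * (r' * w D v * r'⁻¹) * r := by group
        _ = _ := by rw [a7, a8, ← a6, id]; group) (mul_mem (inv_mem a1) a2)
    have h2 : Commute r (r⁻¹ * r') := comm_zp a3 h1
    have h3 := h2.mul_pow 4
    rw [mul_inv_cancel_left, a4, a5, one_mul, pow_succ, cube h1, one_mul] at h3
    exact (inv_mul_eq_one.1 h3.symm).symm
  have τinv : ∀ {e : G}, e ∈ D.Q → e ∈ centralizer {u} → τ * e * τ⁻¹ = e⁻¹ := fun {e} a c =>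
    eq_inv_of_mul_eq_one_left (one (ZJ D (D.l.t_inv τL ττ pτ a))
      (mul_mem (mul_mem (mul_mem c4 c) (inv_mem c4)) c))
  have xx : x' * x = x * x' := commutatorElement_eq_one_iff_mul_comm.1
    (one (ZJ D (D.l.comm _ x'Q _ xQ))
      (mul_mem (mul_mem (mul_mem c2 c1) (inv_mem c2)) (inv_mem c1)))
  have bx : b * x = x * b := by
    refine (nz_cases (ord3 x3 x1) (mem_nz (rigid (ab.conj_id ax)
      (mul_mem (mul_mem c3 c1) (inv_mem c3))))).resolve_right fun e => x1 ?_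
    have e2 : x = x⁻¹ := by
      calc x = b ^ 3 * x * (b ^ 3)⁻¹ := by rw [b3]; group
        _ = b * (b * (b * x * b⁻¹) * b⁻¹) * b⁻¹ := by simp only [pow_three]; group
        _ = x⁻¹ := by rw [e, ← conj_inv, e, inv_inv, e]
    rw [← x3, pow_three, mul_eq_one_iff_eq_inv.2 e2, mul_one]
  have au : Act D u fun v => -v := fun v => by rw [hu _ (w_mem D v), w_neg]
  have uC : u ∈ centralizer {u} := mC.2 rfl
  have ag := ax'.mul ab
  have gC := mul_mem c2 c3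
  have gx : Commute (x' * b) x := Commute.mul_left xx bx
  generalize x' * b = g at ag gC gx
  have h1 := rigid (((ag.mul ag).mul au).congr (by decide)) (mul_mem (mul_mem gC gC) uC)
  have rr : g ^ 3 * g ^ 3 = u := by
    have h2 : Commute (g * g) u := mC.1 (mul_mem gC gC)
    have h3 := cube h1
    rw [h2.mul_pow, pow_three u, uu, mul_one] at h3
    rw [← Commute.mul_pow (Commute.refl g), eq_inv_of_mul_eq_one_left h3,
      inv_eq_of_mul_eq_one_right uu]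
  have ar : Act D (g ^ 3) (lin (1, 2) (2, 2)) := by
    rw [pow_three]; exact (ag.mul (ag.mul ag)).congr (by decide)
  have rC := pow_mem gC 3
  have rx : Commute (g ^ 3) x := gx.pow_left 3
  generalize g ^ 3 = r at rr ar rC rx
  have r4 : r ^ 4 = 1 := by rw [show 4 = 2 * 2 from rfl, pow_mul, sq, sq, rr, uu]
  have ar' : Act D (x' * r * x'⁻¹) (lin (0, 2) (1, 0)) :=
    ((ax'.mul ar).mul (ax'.inv (N := lin (1, 0) (2, 1)) (by decide))).congr (by decide)
  have r'C := mul_mem (mul_mem c2 rC) (inv_mem c2)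
  have r'x : Commute (x' * r * x'⁻¹) x := ((Commute.mul_left xx rx).mul_left (Commute.inv_left xx))
  have r'r : x' * r * x'⁻¹ * (x' * r * x'⁻¹) = u := by rw [conj_mul, rr, mC.1 c2]; group
  have q := uniq (inv_mem rC) (mul_mem (mul_mem r'C rC) (inv_mem r'C)) rx.inv_left
    (by rw [inv_pow, r4, inv_one]) (by rw [conj_pow, r4]; simp)
    (ar.inv (N := lin (2, 1) (1, 1)) (by decide))
    ((ar'.mul ar).mul (ar'.inv (N := lin (0, 1) (2, 0)) (by decide))) (by decide)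
  refine ⟨x, x', r, τ, xQ, xJ, uu, fun e => D.l.z_ne (eq_one_of_fix hu (zJ D) (by simp [e])),
    by rw [← pow_three', D.l.cube _ x'Q], xx, mC.1 c2, rx, rr, q, τinv xQ c1, τinv x'Q c2,
    uniq (mul_mem rC r'C) (mul_mem (mul_mem c4 rC) (inv_mem c4)) (rx.mul_left r'x) ?_
      (by rw [conj_pow, r4]; simp) (ar.mul ar')
      ((aτ.mul ar).mul (aτ.inv (N := lin (1, 0) (0, -1)) (by decide))) (by decide)⟩
  generalize x' * r * x'⁻¹ = r' at q r'r
  have : r * r' * (r * r') = u := by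
    calc _ = r * (r' * r * r'⁻¹) * (r' * r') := by group
      _ = u := by rw [q, r'r]; group
  rw [show 4 = 2 * 2 from rfl, pow_mul, sq, sq, this, uu]

end Out

open Out

theorem JD.out (D : JD G) :
    ∃ c, c * D.z * c⁻¹ = D.z⁻¹ ∧ ∀ x, x * D.z = D.z * x → ⁅c, x⁆ ∈ D.Q := by
  obtain ⟨u, -, hu⟩ := exists_u D
  have uL : ∀ l ∈ centralizer {D.z}, u * l * u⁻¹ ∈ centralizer {D.z} := D.l.nL u (uZ hu)
  let γ : SL25 →* SL25 := MonoidHom.mk' (fun x => D.pL (u * D.κ x * u⁻¹)) fun a b => by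
    rw [map_mul, ← conj_mul, D.l.map_mul _ (uL _ (κL D a)) _ (uL _ (κL D b))]
  have hj : ⁅u, D.f⁆ ∈ D.J := by simpa using inv_mem (comm_u hu (fN D))
  have jL := D.l.SL (D.JS hj)
  obtain ⟨k, hk⟩ := inner_of γ (y3 D) (y1 D) (c := D.pL D.f) (d := D.pL ⁅u, D.f⁆)
    (by rw [← D.l.map_conj (fL D) (sL D), D.fs, D.l.map_inv (sL D)])
    (by change D.pL _ = _; rw [D.κs, hu _ D.sJ, D.l.map_inv (sL D)])
    (by
      rcases D.l.S_cases (D.JS D.sJ) D.sQ (D.JS hj) with e | e | e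
      · exact .inl ((D.l.ker _ jL).2 e)
      · exact .inr (.inl ((D.l.eq_iff jL (sL D)).2 e))
      · refine .inr (.inr ?_)
        rw [← D.l.map_inv (sL D), D.l.eq_iff jL (inv_mem (sL D)), inv_inv]
        exact e)
    (by
      change D.pL _ = _
      rw [D.κf, ← D.l.map_mul _ jL _ (fL D), commutatorElement_def, inv_mul_cancel_right])
  have kL := inv_mem (κL D k)
  refine ⟨(D.κ k)⁻¹ * u, ?_, fun x hx => ?_⟩
  · calc _ = (D.κ k)⁻¹ * (u * D.z * u⁻¹) * (D.κ k)⁻¹⁻¹ := by group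
      _ = _ := by rw [hu _ (zJ D), conj_zp_eq ((memL D).1 kL) (inv_mem (mem_zpowers _))]
  · have xL := (memL D).2 hx
    have h1 : D.pL (u * x * u⁻¹) = k * D.pL x * k⁻¹ := by
      rw [← hk]
      change _ = D.pL _
      rw [D.l.eq_iff (uL _ xL) (uL _ (κL D _)), conj_inv, conj_mul]
      exact D.l.nQ u (uZ hu) _ ((D.l.eq_iff xL (κL D _)).1 (D.pκ _).symm)
    rw [commutatorElement_def, show (D.κ k)⁻¹ * u * x * ((D.κ k)⁻¹ * u)⁻¹ =
      (D.κ k)⁻¹ * (u * x * u⁻¹) * (D.κ k)⁻¹⁻¹ by group,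
      ← D.l.eq_iff (D.l.nL _ (D.l.LN kL) _ (uL _ xL)) xL, D.l.map_conj kL (uL _ xL), h1,
      D.l.map_inv (κL D k), D.pκ]
    group

namespace Out

variable (D : JD G)

theorem not_z {u x' r τ : G} (h : Qt D.z u x' r τ) : False := by
  obtain ⟨c, hc, hq⟩ := D.out
  have cN : c ∈ normalizer (zpowers D.z : Set G) := mem_nz (by rw [hc]; simp)
  have kL : τ * c⁻¹ ∈ centralizer {D.z} := (memL D).2 (mul_inv_eq_iff_eq_mul.1 (by
    calc _ = τ * (c⁻¹ * (D.z⁻¹)⁻¹ * c) * τ⁻¹ := by group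
      _ = (τ * D.z * τ⁻¹)⁻¹ := by rw [← hc]; group
      _ = _ := by rw [h.τx, inv_inv]))
  have key : ∀ m ∈ centralizer {D.z},
      D.pL (τ * c⁻¹) * D.pL m * (D.pL (τ * c⁻¹))⁻¹ = D.pL (τ * m * τ⁻¹) := fun m hm => by
    have h1 := D.l.nL c cN m hm
    rw [← (D.l.eq_iff h1 hm).2 (hq m ((memL D).1 hm)), ← D.l.map_conj kL h1]
    congr 1; group
  have xL := (memL D).2 h.xx
  have rL := (memL D).2 h.rx
  have uL : u ∈ centralizer {D.z} := h.rr ▸ mul_mem rL rL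
  have r'L := D.l.nL _ (D.l.LN xL) _ rL
  refine no_q (ρ := D.pL r) (y := D.pL x') (k := D.pL (τ * c⁻¹)) ?_ ?_ ?_ ?_ ?_
  · rw [← D.l.map_mul _ rL _ rL, h.rr]
    refine (SL25_sq _ (by rw [← D.l.map_mul _ uL _ uL, h.uu, D.l.map_one])).resolve_left fun e => ?_
    refine h.u1 ?_
    rw [← D.l.cube _ ((D.l.ker _ uL).1 e), pow_three, h.uu, mul_one]
  · rw [← D.l.map_mul _ xL _ xL, ← D.l.map_mul _ (mul_mem xL xL) _ xL, h.x3, D.l.map_one]
  · rw [← D.l.map_conj xL rL, ← D.l.map_conj r'L rL, h.q, D.l.map_inv rL]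
  · rw [key _ xL, h.τx', D.l.map_inv xL]
  · rw [key _ rL, h.τr, D.l.map_mul _ rL _ r'L, D.l.map_conj xL rL]

/-- Elements fixing `s z` and `t` fix or interchange `z` and `s`. -/
theorem fix_or_swap {u : G} (hu : ∀ j ∈ D.J, u * j * u⁻¹ = j⁻¹) {r : G}
    (hr : r ∈ normalizer (D.J : Set G)) (h1 : r * (D.s * D.z) * r⁻¹ = D.s * D.z)
    (h2 : r * D.t = D.t * r) : r * D.z * r⁻¹ = D.z ∨ r * D.z * r⁻¹ = D.s := by
  have zJ := zJ D
  have c : D.z * D.s = D.s * D.z := D.Jc _ zJ _ D.sJ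
  have ci : ∀ {j : G}, j ∈ D.J → IsConj j j⁻¹ := fun hj => isConj_iff.2 ⟨u, hu _ hj⟩
  have n1 : ∀ {j : G}, IsConj D.z j → j ≠ D.s * D.z := fun a e => D.az (a.trans (e ▸ D.asz.symm))
  have n2 : ∀ {j : G}, IsConj D.z j → j ≠ D.s * D.z⁻¹ := fun a e =>
    D.az (a.trans (e ▸ D.asz'.symm))
  have jJ := cjJ hr zJ
  have cz : IsConj D.z (r * D.z * r⁻¹) := isConj_iff.2 ⟨r, rfl⟩
  have cs : IsConj D.z (D.s * D.z * (r * D.z * r⁻¹)⁻¹) :=
    D.zs.trans (isConj_iff.2 ⟨r, by rw [← h1]; group⟩)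
  have jt : Commute (r * D.z * r⁻¹) D.t :=
    (Commute.mul_left h2 ((memL D).1 (tL D)).symm).mul_left (Commute.inv_left h2)
  generalize r * D.z * r⁻¹ = j at *
  have z3 : D.z * D.z = D.z⁻¹ := by rw [eq_inv_iff_mul_eq_one, ← pow_three', D.J3 _ zJ]
  have s3 : D.s * D.s = D.s⁻¹ := by rw [eq_inv_iff_mul_eq_one, ← pow_three', D.J3 _ D.sJ]
  have mz : ∀ {e : G}, e ∈ D.Q → Commute e D.t → e = 1 ∨ e = D.z ∨ e = D.z⁻¹ := fun a b =>
    (mem_zp3 D.l.z3).1 (D.l.mem_Z_of_comm_t (tL D) D.tt (pt D) a b)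
  rcases D.l.S_cases (D.JS D.sJ) D.sQ (D.JS jJ) with e | e | e
  · rcases mz e jt with k | k | k
    · exact absurd (isConj_one_right.1 (k ▸ cz).symm) D.l.z_ne
    · exact .inl k
    · exact absurd (by rw [k, inv_inv, mul_assoc, z3]) (n2 cs)
  · rcases mz e (jt.mul_left (Commute.inv_left (st D))) with k | k | k
    · exact .inr (mul_inv_eq_one.1 k)
    · exact absurd (by rw [← c, ← k]; group) (n1 cz)
    · exact absurd (by rw [(Commute.inv_left c).eq.symm, ← k]; group) (n2 cz)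
  · rcases mz e (jt.mul_left (st D)) with k | k | k
    · refine absurd ?_ (n2 (cs.trans (ci (mul_mem (mul_mem D.sJ zJ) (inv_mem jJ)))))
      rw [eq_inv_of_mul_eq_one_left k, inv_inv, mul_assoc, c, ← mul_assoc, s3,
        (Commute.inv_left (Commute.symm c)).eq]
      group
    · refine absurd ?_ (n2 (cz.trans (ci jJ)))
      rw [← k]; group
    · refine absurd ?_ (n1 (cz.trans (ci jJ)))
      rw [← inv_inv D.z, ← k]; group

theorem not_a {u₀ : G} (hu : ∀ j ∈ D.J, u₀ * j * u₀⁻¹ = j⁻¹)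
    (hle : centralizer {D.s * D.z} ≤ normalizer (D.J : Set G))
    (hc : Nat.card (centralizer {D.s * D.z}) = 1944) {u x' r τ : G}
    (h : Qt (D.s * D.z) u x' r τ) : False := by
  have : Fact (Nat.Prime 2) := ⟨Nat.prime_two⟩
  have mC : ∀ {g : G}, g ∈ centralizer {D.s * D.z} ↔ g * (D.s * D.z) = D.s * D.z * g :=
    mem_centralizer_singleton_iff
  have rC := mC.2 h.rx
  have r'C := mul_mem (mul_mem (mC.2 h.xx) rC) (inv_mem (mC.2 h.xx))
  have r'r : x' * r * x'⁻¹ * (x' * r * x'⁻¹) = u := by rw [conj_mul, h.rr, h.xu]; group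
  have q := h.q
  generalize x' * r * x'⁻¹ = r' at q r'r r'C
  have p2 : ∀ {e : G}, e * e * (e * e) = 1 → IsPGroup 2 (zpowers e) := fun {e} k =>
    IsPGroup.of_card_dvd_pow (n := 2) (by
      rw [Nat.card_zpowers]
      exact orderOf_dvd_of_pow_eq_one (by rw [show 2 ^ 2 = 2 * 2 from rfl, pow_mul, sq, sq, k]))
  obtain ⟨P, hP, le⟩ := Trans.exists_isSylowIn_ge (H := centralizer {D.s * D.z})
    (IsPGroup.to_sup_of_normal_left' (p2 (e := r) (by rw [h.rr, h.uu]))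
      (p2 (e := r') (by rw [r'r, h.uu])) (zpowers_le.2 (mem_nz (by rw [q]; simp))))
    (sup_le (zpowers_le.2 rC) (zpowers_le.2 r'C))
  have c8 : Nat.card P = 8 := by
    rw [hP.card_eq, hc, show (1944 : ℕ) = 2 ^ 3 * 243 by norm_num,
      Nat.factorization_mul (by norm_num) (by norm_num), Finsupp.add_apply,
      Nat.Prime.factorization_pow Nat.prime_two, Finsupp.single_eq_same,
      Nat.factorization_eq_zero_of_not_dvd (by norm_num)]
    norm_num
  have tz := (memL D).1 (tL D)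
  obtain ⟨g, gC, hg⟩ := hP.exists_cj_le (p2 (e := D.t) (by rw [D.tt, one_mul]))
    (zpowers_le.2 (mC.2 (Commute.mul_right (st D).symm tz)))
  have t1 : D.t ≠ 1 := fun e => SL25_neg_one_ne (by rw [← pt D, e, D.l.map_one])
  have e := quat_inv c8 (le (mem_sup_left (mem_zpowers r))) (le (mem_sup_right (mem_zpowers r')))
    h.rr r'r q h.uu h.u1 (Trans.cj_le_iff.1 hg _ (mem_zpowers _)) (by rw [conj_mul, D.tt]; simp)
    (by simpa using t1)
  have no : ∀ {ρ : G}, ρ ∈ centralizer {D.s * D.z} → ρ * ρ = D.t → ρ * D.z * ρ⁻¹ ≠ D.z :=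
    fun {ρ} a b c => by
      have c' := mul_inv_eq_iff_eq_mul.1 c
      have ρL := (memL D).2 c'
      have : ρ * D.s = D.s * ρ := mul_right_cancel (b := D.z) (by
        rw [mul_assoc, mC.1 a, mul_assoc, mul_assoc, c'])
      exact no_c (y3 D) (y1 D) (ρ := D.pL ρ)
        (by rw [← D.l.map_mul _ ρL _ (sL D), this, D.l.map_mul _ (sL D) _ ρL])
        (by rw [← D.l.map_mul _ ρL _ ρL, b, pt])
  have sw : ∀ {ρ : G}, ρ ∈ centralizer {D.s * D.z} → ρ * ρ = D.t → ρ * D.z * ρ⁻¹ = D.s :=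
    fun {ρ} a b => (fix_or_swap D hu (hle a) (by rw [mC.1 a]; group)
      (by rw [← b, mul_assoc])).resolve_left (no a b)
  have cj : ∀ {ρ : G}, ρ ∈ centralizer {D.s * D.z} → ρ * ρ = u →
      g⁻¹ * ρ * g ∈ centralizer {D.s * D.z} ∧ g⁻¹ * ρ * g * (g⁻¹ * ρ * g) = D.t := fun {ρ} a b =>
    ⟨mul_mem (mul_mem (inv_mem gC) a) gC, by
      calc _ = g⁻¹ * (ρ * ρ) * g := by group
        _ = _ := by rw [b, ← e]; group⟩
  obtain ⟨a1, a2⟩ := cj rC h.rr
  obtain ⟨b1, b2⟩ := cj r'C r'r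
  obtain ⟨c1, c2⟩ := cj (mul_mem rC r'C) (by
    calc _ = r * (r' * r * r'⁻¹) * (r' * r') := by group
      _ = u := by rw [q, r'r]; group)
  refine no c1 c2 ?_
  calc _ = g⁻¹ * r * g * (g⁻¹ * r' * g * D.z * (g⁻¹ * r' * g)⁻¹) * (g⁻¹ * r * g)⁻¹ := by group
    _ = g⁻¹ * r * g * (g⁻¹ * r * g) * D.z * (g⁻¹ * r * g * (g⁻¹ * r * g))⁻¹ := by
      rw [sw b1 b2, ← sw a1 a2]; group
    _ = _ := by rw [a2, tz]; group

end Out

theorem JD.not_le (D : JD G) : ¬ centralizer {D.a} ≤ normalizer (D.J : Set G) := fun hle => by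
  obtain ⟨u, uu, hu⟩ := exists_u D
  obtain ⟨x, x', r, τ, xQ, xJ, h⟩ := exists_qt hu uu
  obtain ⟨l, -, hl⟩ := D.l.spread D.JS D.Jc D.cardJ xQ
  have c : IsConj (l⁻¹ * x * l) x := isConj_iff.2 ⟨l, by group⟩
  have l1 : l⁻¹ * x * l ≠ 1 := fun e => xJ (isConj_one_right.1 (e ▸ c) ▸ one_mem _)
  rcases D.cls _ hl l1 with e | e
  · obtain ⟨g, hg⟩ := isConj_iff.1 (e.trans c).symm
    exact not_z D ((show MulAut.conj g x = _ from hg) ▸ h.map (MulAut.conj g) :)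
  · obtain ⟨g, hg⟩ := isConj_iff.1 ((e.trans c).symm.trans D.asz)
    have aJ : D.a ∈ D.J := D.a_eq ▸ mul_mem D.z1J (cjJ (fN D) D.z1J)
    obtain ⟨n, hn, e'⟩ := D.fus _ aJ _ (mul_mem D.sJ (zJ D)) D.asz
    have k := Block.map_conj_centralizer_singleton D.a n
    rw [e'] at k
    refine not_a D hu ?_ ?_ ((show MulAut.conj g x = _ from hg) ▸ h.map (MulAut.conj g) :)
    · rw [← k]
      rintro _ ⟨y, hy, rfl⟩
      exact mul_mem (mul_mem hn (hle hy)) (inv_mem hn)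
    · rw [← k, Block.card_map_conj, ← D.cardN, inf_eq_right.2 hle]

end Cfsg.Lib.HN3
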