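import Cfsg.Agent.HN3.OutFin

/-!
The normaliser of `W = ⟨z, z₁⟩`: an involution inverting `J` and a quaternion group.
-/

set_option autoImplicit false
set_option linter.unusedSectionVars false

namespace Cfsg.Lib.HN3

open Subgroup Cfsg.Lib.Perm Cfsg.Lib.Mc3
open scoped commutatorElement Pointwise

namespace Out

/-- Coordinates. -/
abbrev V3 := ZMod 3 × ZMod 3

/-- The linear map with given images of the basis. -/
def lin (p q v : V3) : V3 := v.1.val • p + v.2.val • q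

variable {G : Type*} [Group G] [Finite G] (D : JD G)

theorem zJ : D.z ∈ D.J := D.l.Z_le_J D.JS D.Jc D.cardJ (mem_zpowers _)

theorem ZJ : zpowers D.z ≤ D.J := zpowers_le.2 (zJ D)

theorem memL {g : G} : g ∈ centralizer {D.z} ↔ g * D.z = D.z * g := mem_centralizer_singleton_iff

theorem κL (x : SL25) : D.κ x ∈ centralizer {D.z} := (memL D).2 (D.κz x)

theorem tL : D.t ∈ centralizer {D.z} := D.κt ▸ κL D _

theorem pt : D.pL D.t = -1 := by rw [← D.κt, D.pκ]

theorem SN : (D.S : Subgroup G) ≤ normalizer (D.J : Set G) := D.l.S_le_NJ D.JS D.Jc D.cardJ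

theorem cjJ {D : JD G} {n e : G} (hn : n ∈ normalizer (D.J : Set G)) (he : e ∈ D.J) :
    n * e * n⁻¹ ∈ D.J := (mem_normalizer_iff.1 hn e).1 he

/-- The elements of `W`. -/
def w (v : V3) : G := D.z ^ v.1.val * D.z1 ^ v.2.val

theorem w_mem (v : V3) : w D v ∈ D.J := mul_mem (pow_mem (zJ D) _) (pow_mem D.z1J _)

theorem w_add (v v' : V3) : w D (v + v') = w D v * w D v' := by
  have k : ∀ {x : G}, x ^ 3 = 1 → ∀ a b : ZMod 3, x ^ (a + b).val = x ^ a.val * x ^ b.val :=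
    fun h a b => by rw [ZMod.val_add, ← pow_eq_pow_mod _ h, pow_add]
  have c : ∀ a b : ℕ, D.z1 ^ a * D.z ^ b = D.z ^ b * D.z1 ^ a := fun a b =>
    D.Jc _ (pow_mem D.z1J _) _ (pow_mem (zJ D) _)
  simp only [w, Prod.fst_add, Prod.snd_add, k (D.J3 _ (zJ D)), k (D.J3 _ D.z1J), mul_assoc]
  rw [← mul_assoc (D.z1 ^ _) (D.z ^ _), c, mul_assoc]

theorem w_zero : w D 0 = 1 := by simp [w]

theorem w_nsmul (n : ℕ) (v : V3) : w D (n • v) = w D v ^ n := by
  induction n with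
  | zero => simp [w_zero]
  | succ n ih => rw [succ_nsmul, w_add, ih, pow_succ]

theorem w_neg (v : V3) : w D (-v) = (w D v)⁻¹ := by
  rw [eq_inv_iff_mul_eq_one, ← w_add, neg_add_cancel, w_zero]

theorem w10 : w D (1, 0) = D.z := by simp [w, ZMod.val_one]

theorem w01 : w D (0, 1) = D.z1 := by simp [w, ZMod.val_one]

theorem w11 : w D (1, 1) = D.z * D.z1 := by simp [w, ZMod.val_one]

theorem exists_w {e : G} (he : e ∈ closure {D.z, D.z1}) : ∃ v, e = w D v := by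
  induction he using closure_induction with
  | mem x hx => rcases hx with rfl | rfl; exacts [⟨_, (w10 D).symm⟩, ⟨_, (w01 D).symm⟩]
  | one => exact ⟨0, (w_zero D).symm⟩
  | mul x y _ _ a b => obtain ⟨⟨v, rfl⟩, ⟨v', rfl⟩⟩ := a, b; exact ⟨_, (w_add D v v').symm⟩
  | inv x _ a => obtain ⟨v, rfl⟩ := a; exact ⟨_, (w_neg D v).symm⟩

/-- `g` acts on `W` as `M`. -/
def Act (g : G) (M : V3 → V3) : Prop := ∀ v, g * w D v * g⁻¹ = w D (M v)

variable {D}

theorem Act.of {g : G} {p q : V3} (h1 : g * D.z * g⁻¹ = w D p) (h2 : g * D.z1 * g⁻¹ = w D q) :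
    Act D g (lin p q) := fun v => by
  rw [lin, w_add, w_nsmul, w_nsmul, ← h1, ← h2, conj_pow, conj_pow, conj_mul]; rfl

theorem Act.mul {g h : G} {M N : V3 → V3} (a : Act D g M) (b : Act D h N) :
    Act D (g * h) (M ∘ N) := fun v => by
  rw [Function.comp, ← a, ← b]; group

theorem Act.congr {g : G} {M N : V3 → V3} (a : Act D g M) (e : ∀ v, M v = N v) : Act D g N :=
  fun v => e v ▸ a v

theorem Act.inv {g : G} {M N : V3 → V3} (a : Act D g M) (e : ∀ v, M (N v) = v) : Act D g⁻¹ N :=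
  fun v => by rw [← e v, ← a, e]; group

theorem Act.of_mem {j : G} (hj : j ∈ D.J) : Act D j id := fun v => by
  rw [D.Jc j hj _ (w_mem D v)]; simp

theorem Act.jmul {j g : G} {M : V3 → V3} (hj : j ∈ D.J) (a : Act D g M) : Act D (j * g) M :=
  (Act.of_mem hj).mul a

theorem Act.pow_id {g : G} (a : Act D g id) (n : ℕ) : Act D (g ^ n) id := by
  induction n with
  | zero => simpa using Act.of_mem (one_mem D.J)
  | succ n ih => rw [pow_succ]; exact ih.mul a

theorem Act.exists_inv {g : G} {M : V3 → V3} (a : Act D g M) : ∃ N, Act D g⁻¹ N := by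
  have : ∀ n : ℕ, ∃ N, Act D (g ^ n) N := fun n => by
    induction n with
    | zero => exact ⟨id, by simpa using Act.of_mem (one_mem D.J)⟩
    | succ n ih => obtain ⟨N, h⟩ := ih; exact ⟨_, by rw [pow_succ]; exact h.mul a⟩
  obtain ⟨n, hn⟩ := mem_powers_iff_mem_zpowers.2 (inv_mem (mem_zpowers g))
  exact hn ▸ this n

theorem Act.conj_id {g h : G} {M : V3 → V3} (a : Act D g M) (b : Act D h id) :
    Act D (g * h * g⁻¹) id := fun v => by
  obtain ⟨N, c⟩ := a.exists_inv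
  have := b (N v)
  rw [id, ← c] at this
  calc _ = g * (h * (g⁻¹ * w D v * g⁻¹⁻¹) * h⁻¹) * g⁻¹ := by group
    _ = _ := by rw [this, id]; group

theorem Act.mem_T {h : G} (b : Act D h id) : h ∈ D.J ⊔ zpowers D.q1 :=
  D.cW h (mul_inv_eq_iff_eq_mul.1 (by simpa [w10] using b (1, 0)))
    (mul_inv_eq_iff_eq_mul.1 (by simpa [w01] using b (0, 1)))

theorem Act.mem_S {h : G} (b : Act D h id) : h ∈ (D.S : Subgroup G) :=
  sup_le D.JS (zpowers_le.2 (D.l.QS D.q1Q)) b.mem_T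

theorem Act.nJ {g : G} {M : V3 → V3} (a : Act D g M) : g ∈ normalizer (D.J : Set G) :=
  D.l.mem_nJ_of_le D.JS D.Jc D.cardJ fun _ hx => (a.conj_id (Act.of_mem hx)).mem_S

variable (D) in
theorem act_q1 : Act D D.q1 id :=
  (Act.of (p := (1, 0)) (q := (0, 1)) (by rw [w10, D.l.Qz D.q1Q]; simp)
    (by rw [w01, D.q1z]; simp)).congr (by decide)

theorem ord3 {x : G} (h : x ^ 3 = 1) (h1 : x ≠ 1) : orderOf x = 3 :=
  have : Fact (Nat.Prime 3) := ⟨Nat.prime_three⟩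
  orderOf_eq_prime h h1

theorem Act.cases {h : G} (b : Act D h id) :
    h ∈ D.J ∨ h * D.q1⁻¹ ∈ D.J ∨ h * D.q1 ∈ D.J := by
  have : h ∈ (D.J : Set G) * (zpowers D.q1 : Set G) := by
    rw [← coe_mul_of_right_le_normalizer_left _ _ (zpowers_le.2 (act_q1 D).nJ)]
    exact b.mem_T
  obtain ⟨j, hj, c, hc, rfl⟩ := this
  rcases (mem_zp3 (ord3 (D.l.cube _ D.q1Q) fun e => D.q1J (e ▸ one_mem _))).1 hc with
    rfl | rfl | rfl <;> simp [show j ∈ D.J from hj]

/-- Squares act trivially on `C(W) / J`. -/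
theorem Act.sq_q1 {g : G} {M : V3 → V3} (a : Act D g M) : ⁅g * g, D.q1⁆ ∈ D.J := by
  rcases (a.conj_id (act_q1 D)).cases with h | h | h
  · exact absurd ((mem_normalizer_iff.1 a.nJ _).2 h) D.q1J
  · rw [comm_mul_left]
    exact mul_mem (cjJ a.nJ h) h
  · have : ⁅g * g, D.q1⁆ = g * (g * D.q1 * g⁻¹ * D.q1) * g⁻¹ *
        (D.q1 * (g * D.q1 * g⁻¹ * D.q1)⁻¹ * D.q1⁻¹) := by simp only [commutatorElement_def]; group
    rw [this]
    exact mul_mem (cjJ a.nJ h) (cjJ (act_q1 D).nJ (inv_mem h))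

variable (D) in
theorem exists_α : ∃ α ∈ D.Q, Act D α (lin (1, 0) (1, 1)) := by
  obtain ⟨q, hq, h⟩ : ∃ q ∈ D.Q, D.z1 * q ≠ q * D.z1 := by
    by_contra h
    push Not at h
    exact D.z1Z (D.l.cent _ h)
  have key : ∀ q ∈ D.Q, ⁅q, D.z1⁆ = D.z → Act D q (lin (1, 0) (1, 1)) := fun q hq e =>
    Act.of (by rw [w10, D.l.Qz hq]; simp) (by rw [w11, ← e, commutatorElement_def]; group)
  rcases (mem_zp3 D.l.z3).1 (D.l.comm q hq _ D.z1Q) with e | e | e
  · exact absurd (commutatorElement_eq_one_iff_mul_comm.1 e).symm h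
  · exact ⟨q, hq, key q hq e⟩
  · refine ⟨q⁻¹, inv_mem hq, key _ (inv_mem hq) ?_⟩
    calc ⁅q⁻¹, D.z1⁆ = q⁻¹ * ⁅q, D.z1⁆⁻¹ * q := by simp only [commutatorElement_def]; group
      _ = D.z := by rw [e, inv_inv, mul_assoc, ← D.l.Qz hq]; group

variable (D) in
theorem exists_β : ∃ β, β ^ 3 = 1 ∧ Act D β (lin (1, 1) (0, 1)) :=
  let ⟨β, h3, h1, h2⟩ := D.β
  ⟨β, h3, Act.of (by rw [w11, h2]) (by rw [w01, h1]; simp)⟩

variable (D) in
theorem act_t : Act D D.t (lin (1, 0) (0, -1)) :=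
  Act.of (by rw [w10, (memL D).1 (tL D)]; simp) (by
    rw [D.tz1, ← w01, ← w_neg]; rfl)

variable (D) in
/-- An involution inverting `J`. -/
theorem exists_u : ∃ u, u * u = 1 ∧ ∀ j ∈ D.J, u * j * u⁻¹ = j⁻¹ := by
  obtain ⟨α, -, hα⟩ := exists_α D
  obtain ⟨β, -, hβ⟩ := exists_β D
  have hg := hα.mul hβ
  set g := α * β
  have h2 : Act D (g * g) fun v => -v := (hg.mul hg).congr (by decide)
  have h4 : Act D (g * g * (g * g)) id := (h2.mul h2).congr (by decide)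
  set u := (g * g) ^ 729 with hu
  have uu : u * u = 1 := by rw [hu, ← Commute.mul_pow (Commute.refl _), D.l.pow_S h4.mem_S]
  have au : Act D u fun v => -v := by
    rw [hu, show 729 = 2 * 364 + 1 from rfl, pow_succ, pow_mul, sq]
    exact (h4.pow_id 364).mul h2
  have uq : ⁅u, D.q1⁆ ∈ D.J := by
    have : ∀ n : ℕ, ⁅(g * g) ^ n, D.q1⁆ ∈ D.J := fun n => by
      induction n with
      | zero => simp
      | succ n ih => rw [pow_succ', comm_mul_left]; exact mul_mem (cjJ h2.nJ ih) hg.sq_q1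
    exact this 729
  have inv : ∀ e ∈ closure {D.z, D.z1}, u * e * u⁻¹ = e → e = 1 := fun e he h => by
    obtain ⟨v, rfl⟩ := exists_w D he
    rw [au, w_neg, inv_eq_iff_mul_eq_one] at h
    rw [← D.J3 _ (w_mem D v), pow_three, h, mul_one]
  refine ⟨u, uu, fun j hj => ?_⟩
  have hk : u * j * u⁻¹ * j ∈ D.J := mul_mem (cjJ au.nJ hj) hj
  have fk : u * (u * j * u⁻¹ * j) * u⁻¹ = u * j * u⁻¹ * j := by
    calc _ = u * u * j * (u * u)⁻¹ * (u * j * u⁻¹) := by group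
      _ = _ := by rw [uu, D.Jc _ (cjJ au.nJ hj) _ hj]; group
  rw [eq_inv_iff_mul_eq_one]
  generalize u * j * u⁻¹ * j = k at hk fk
  refine inv k (D.q1C k hk (commutatorElement_eq_one_iff_mul_comm.1 (inv _ (D.q1W k hk) ?_))) fk
  rw [conj_comm, fk, show u * D.q1 * u⁻¹ = ⁅u, D.q1⁆ * D.q1 by rw [commutatorElement_def]; group,
    comm_mul_left, commutatorElement_eq_one_iff_mul_comm.2 (D.Jc _ uq _ hk), mul_one]
  obtain ⟨v, e⟩ := exists_w D (D.q1W k hk)
  rw [e]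
  exact Act.of_mem uq v

end Out

end Cfsg.Lib.HN3
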