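import Cfsg.Agent.HN3.Defs

/-!
Finite facts on `SL₂(5)` and on quaternion subgroups.
-/

set_option autoImplicit false

namespace Cfsg.Lib.HN3.Out

open Subgroup Cfsg.Lib.Perm Cfsg.Lib.Mc3

/-- A third generator. -/
def g4 : SL25 := sl2mk 2 0 2 3 (by decide)

theorem g4_rel : g4 * g4 = f5 * f5 ∧ (g4 * s5) ^ 3 = 1 ∧ (g4 * f5) ^ 3 = 1 := by decide +kernel

set_option synthInstance.maxSize 2000 in
theorem g4_uniq : ∀ x : SL25, x * x = f5 * f5 → (x * s5) ^ 3 = 1 → (x * f5) ^ 3 = 1 → x = g4 := by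
  simp only [forall_sl2]
  decide +kernel

/-- Coset representatives. -/
def rep {M : Type*} [Monoid M] (s f g : M) : Fin 10 → M :=
  ![1, g, g * s, g * f, g * s * s, g * s * f, g * f * s, g * s * f * g, g * f * s * g,
    g * s * f * g * s]

set_option synthInstance.maxSize 2000 in
theorem gen5 : ∀ x : SL25, ∃ i : Fin 3, ∃ j : Fin 4, ∃ e : Fin 10,
    x = s5 ^ i.val * f5 ^ j.val * rep s5 f5 g4 e := by
  simp only [forall_sl2]
  decide +kernel

theorem fix5 (γ : SL25 →* SL25) (hs : γ s5 = s5) (hf : γ f5 = f5) (x : SL25) : γ x = x := by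
  have hg : γ g4 = g4 := g4_uniq _ (by rw [← map_mul, g4_rel.1, map_mul, hf])
    (by rw [← hs, ← map_mul, ← map_pow, g4_rel.2.1, map_one])
    (by rw [← hf, ← map_mul, ← map_pow, g4_rel.2.2, map_one])
  obtain ⟨i, j, e, rfl⟩ := gen5 x
  have : γ (rep s5 f5 g4 e) = rep s5 f5 g4 e := by
    fin_cases e <;> simp [rep, hs, hf, hg]
  rw [map_mul, map_mul, map_pow, map_pow, hs, hf, this]

set_option synthInstance.maxSize 2000 in
theorem inv5 : ∀ c : SL25, c * s5 * c⁻¹ = s5⁻¹ → ∃ i : Fin 3, ∃ j : Fin 4,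
    f5 = s5 ^ i.val * c ^ j.val := by
  simp only [forall_sl2]
  decide +kernel

/-- An endomorphism fixing an element of order three and an element inverting it is trivial. -/
theorem fix_all (γ : SL25 →* SL25) {y c : SL25} (y3 : y * y * y = 1) (y1 : y ≠ 1)
    (hc : c * y * c⁻¹ = y⁻¹) (hy : γ y = y) (hγ : γ c = c) (x : SL25) : γ x = x := by
  obtain ⟨k, hk⟩ := conj3 y y3 y1
  have hk' : k * y * k⁻¹ = s5 := hk
  let δ : SL25 →* SL25 := (MulAut.conj k).toMonoidHom.comp (γ.comp (MulAut.conj k⁻¹).toMonoidHom)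
  have hδ : ∀ x, δ (k * x * k⁻¹) = k * γ x * k⁻¹ := fun x => by simp [δ, mul_assoc]
  have h1 : δ s5 = s5 := by rw [← hk', hδ, hy]
  have h2 : δ (k * c * k⁻¹) = k * c * k⁻¹ := by rw [hδ, hγ]
  obtain ⟨i, j, e⟩ := inv5 (k * c * k⁻¹) (by
    rw [← hk', show (k * y * k⁻¹)⁻¹ = k * y⁻¹ * k⁻¹ by group, ← hc]; group)
  have h3 : δ f5 = f5 := by rw [e, map_mul, map_pow, map_pow, h1, h2]
  have := fix5 δ h1 h3 (k * x * k⁻¹)
  rw [hδ] at this
  simpa using this

/-- An endomorphism acting on the normaliser of `y` like an inner automorphism. -/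
theorem inner_of (γ : SL25 →* SL25) {y c d : SL25} (y3 : y * y * y = 1) (y1 : y ≠ 1)
    (hc : c * y * c⁻¹ = y⁻¹) (hy : γ y = y⁻¹) (hd : d = 1 ∨ d = y ∨ d = y⁻¹) (hγ : γ c = d * c) :
    ∃ k : SL25, ∀ x, γ x = k * x * k⁻¹ := by
  have h1 : c * d * c⁻¹ = d⁻¹ := by
    rcases hd with rfl | rfl | rfl
    · simp
    · exact hc
    · rw [← conj_inv, hc]
  have h2 : d * y = y * d := by rcases hd with rfl | rfl | rfl <;> simp
  have h3 : d * d * d = 1 := by
    rcases hd with rfl | rfl | rfl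
    · simp
    · exact y3
    · rw [← inv_one, ← y3]; simp [mul_assoc]
  have h4 : d⁻¹ * d⁻¹ = d := by
    rw [← mul_inv_rev, inv_eq_iff_mul_eq_one, h3]
  let k := d⁻¹ * c
  let δ : SL25 →* SL25 := (MulAut.conj k⁻¹).toMonoidHom.comp γ
  have hδ : ∀ x, δ x = k⁻¹ * γ x * k := fun x => by simp [δ]
  refine ⟨k, fun x => ?_⟩
  have := fix_all δ y3 y1 hc (by
    rw [hδ, hy]
    have e : k * y * k⁻¹ = y⁻¹ := by
      calc k * y * k⁻¹ = d⁻¹ * (c * y * c⁻¹) * d := by simp only [k]; group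
        _ = (d⁻¹ * (y * d))⁻¹ := by rw [hc]; group
        _ = y⁻¹ := by rw [← h2]; group
    rw [← e]; group) (by
    rw [hδ, hγ]
    have e : k * c * k⁻¹ = d * c := by
      calc k * c * k⁻¹ = d⁻¹ * (c * d * c⁻¹) * c := by simp only [k]; group
        _ = d * c := by rw [h1, h4]
    rw [← e]; group) x
  rw [hδ] at this
  calc γ x = k * (k⁻¹ * γ x * k) * k⁻¹ := by group
    _ = _ := by rw [this]

set_option synthInstance.maxSize 2000 in
theorem no_q5 : ∀ ρ : SL25, ρ * ρ = -1 → s5 * ρ * s5⁻¹ * ρ * (s5 * ρ * s5⁻¹)⁻¹ = ρ⁻¹ →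
    ∀ k : SL25, k * s5 * k⁻¹ = s5⁻¹ → k * ρ * k⁻¹ ≠ ρ * (s5 * ρ * s5⁻¹) := by
  simp only [forall_sl2]
  decide +kernel

set_option synthInstance.maxSize 2000 in
theorem no_c5 : ∀ ρ : SL25, ρ * s5 = s5 * ρ → ρ * ρ ≠ -1 := by
  simp only [forall_sl2]
  decide +kernel

theorem no_q {ρ y k : SL25} (h1 : ρ * ρ = -1) (y3 : y * y * y = 1)
    (h2 : y * ρ * y⁻¹ * ρ * (y * ρ * y⁻¹)⁻¹ = ρ⁻¹) (h3 : k * y * k⁻¹ = y⁻¹) :
    k * ρ * k⁻¹ ≠ ρ * (y * ρ * y⁻¹) := fun h4 => by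
  have y1 : y ≠ 1 := by
    rintro rfl
    have : ρ = ρ⁻¹ := by simpa using h2
    exact SL25_neg_one_ne (h1.symm.trans (mul_eq_one_iff_eq_inv.2 this))
  obtain ⟨c, hc⟩ := conj3 y y3 y1
  have hc' : c * y * c⁻¹ = s5 := hc
  refine no_q5 (c * ρ * c⁻¹) (by rw [conj_mul, h1]; simp) ?_ (c * k * c⁻¹) ?_ ?_ <;> rw [← hc']
  · calc _ = c * (y * ρ * y⁻¹ * ρ * (y * ρ * y⁻¹)⁻¹) * c⁻¹ := by group
      _ = _ := by rw [h2]; group
  · calc _ = c * (k * y * k⁻¹) * c⁻¹ := by group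
      _ = _ := by rw [h3]; group
  · calc _ = c * (k * ρ * k⁻¹) * c⁻¹ := by group
      _ = _ := by rw [h4]; group

theorem no_c {ρ y : SL25} (y3 : y * y * y = 1) (y1 : y ≠ 1) (h : ρ * y = y * ρ) :
    ρ * ρ ≠ -1 := fun h1 => by
  obtain ⟨c, hc⟩ := conj3 y y3 y1
  have hc' : c * y * c⁻¹ = s5 := hc
  exact no_c5 (c * ρ * c⁻¹) (by rw [← hc', conj_mul, conj_mul, h]) (by rw [conj_mul, h1]; simp)

variable {G : Type*} [Group G] [Finite G]

/-- A group of order eight containing a quaternion pair has only one involution. -/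
theorem quat_inv {P : Subgroup G} (hP : Nat.card P = 8) {r r' u t : G} (hr : r ∈ P) (hr' : r' ∈ P)
    (h1 : r * r = u) (h2 : r' * r' = u) (h3 : r' * r * r'⁻¹ = r⁻¹) (uu : u * u = 1) (u1 : u ≠ 1)
    (ht : t ∈ P) (tt : t * t = 1) (t1 : t ≠ 1) : t = u := by
  have : Fact (Nat.Prime 2) := ⟨Nat.prime_two⟩
  have o4 : orderOf r = 2 ^ (1 + 1) := orderOf_eq_prime_pow (by rwa [pow_one, sq, h1])
    (by rw [pow_succ, pow_mul, pow_one, sq, sq, h1, uu])
  have le : zpowers r ≤ P := zpowers_le.2 hr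
  have i2 : ((zpowers r).subgroupOf P).index = 2 := by
    have := Trans.card_mul_relIndex le
    rw [Nat.card_zpowers, o4, hP] at this
    change (zpowers r).relIndex P = 2
    omega
  have cj : ∀ x ∈ zpowers r, r' * x * r'⁻¹ = x⁻¹ := fun x hx => conj_zp_inv h3 hx
  by_cases k : t ∈ zpowers r
  · obtain ⟨n, hn, rfl⟩ : ∃ n < 4, t = r ^ n := by
      obtain ⟨n, rfl⟩ := mem_powers_iff_mem_zpowers.2 k
      exact ⟨n % 4, Nat.mod_lt _ (by norm_num), by
        rw [show 4 = orderOf r by rw [o4]; rfl, pow_mod_orderOf]⟩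
    interval_cases n
    · simp at t1
    · exact absurd (by rw [← h1, ← tt, pow_one]) u1
    · rw [sq, h1]
    · refine absurd ?_ u1
      calc u = u * (u * u) := by rw [uu, mul_one]
        _ = 1 := by rw [← tt, ← h1]; simp only [pow_three, mul_assoc]
  · have k' : r' ∉ zpowers r := fun e => u1 (by
      have := comm_zp (z := r) (g := r) rfl e
      rw [← h1, mul_eq_one_iff_eq_inv, ← h3, ← this]; group)
    have m : t * r'⁻¹ ∈ zpowers r :=
      (mul_mem_iff_of_index_two i2 (a := ⟨t, ht⟩) (b := ⟨r'⁻¹, inv_mem hr'⟩)).2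
        (iff_of_false k fun e => k' (inv_mem_iff.1 e))
    refine absurd ?_ u1
    calc u = t * r'⁻¹ * (r' * (t * r'⁻¹) * r'⁻¹) * (r' * r') := by rw [cj _ m, h2]; group
      _ = 1 := by rw [← tt]; group

end Cfsg.Lib.HN3.Out
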