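import Cfsg.Agent.HN3.QNormC

/-!
The two copies of `SL₂(5)` normalise `Q` and commute modulo `Q`.
-/

set_option autoImplicit false
set_option linter.unusedSectionVars false

namespace Cfsg.Lib.HN3

open Subgroup Equiv Cfsg.Lib.Perm Cfsg.Lib.Known
open scoped commutatorElement

universe u

variable {G : Type u} [Group G] [Finite G]

namespace QN

variable (D : TD G)

theorem a_cU : D.a ∈ centralizer (D.U : Set G) := fun x hx => (D.aE x (D.UE hx)).symm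

theorem Ea_nU : D.Ea ≤ normalizer (D.U : Set G) := fun x hx => mem_norm_of fun y hy => by
  rw [show x * y * x⁻¹ = ⁅x, y⁆ * y by group]
  exact mul_mem (zpowers_le.2 D.tU (D.cE x hx y (D.UE hy))) hy

/-- The normal `3`-complement of the centraliser of `U`. -/
theorem exists_M : ∃ M : Subgroup G, Iv D M ∧ M ≤ centralizer (D.U : Set G) ∧
    normalizer (D.U : Set G) ≤ normalizer (M : Set G) ∧ ¬ M ≤ D.Q ∧ D.Eb ≤ M ∧
    ∀ g ∈ centralizer (D.U : Set G), g ∈ M ∨ g * D.a ∈ M ∨ g * D.a⁻¹ ∈ M := by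
  obtain ⟨M, h1, h2, h3, h4, h5⟩ := L3.burn3 (a_cU D) D.a3' fun g hg hn => by
    obtain ⟨c, hc, x, hx, rfl⟩ := (mem_sup_comm fun c hc x hx =>
      (Mc3.comm_zp (D.aE x (D.UE hx)).symm hc).symm).1 (D.cU g hn fun x hx => (hg x hx).symm)
    have c1 : Commute c D.a := (Mc3.comm_zp rfl hc).symm
    have c2 : Commute x D.a := (D.aE x (D.UE hx)).symm
    have c3 : Commute x c := Mc3.comm_zp c2 hc
    refine ⟨c1.mul_left c2, fun ⟨k, hk⟩ => ?_⟩
    obtain ⟨m, hm⟩ : Odd (3 ^ k) := Odd.pow (by decide)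
    rw [hm, pow_succ, pow_mul, c3.symm.mul_pow, pow_two x, D.sqU x hx, mul_one] at hk
    exact eq_inv_of_mul_eq_one_right hk ▸ inv_mem (pow_mem (pow_mem hc _) _)
  have h6 := (L3.norm_le_norm_cent D.U).trans h2
  have h7 : D.Eb ≤ M := fun x hx => h4 x (fun y hy => D.qn_comm y (D.UE hy) x hx)
    ((Nat.Prime.coprime_iff_not_dvd Nat.prime_three).2 (D.qn_not3 (D.sqEb x hx))).symm
  refine ⟨M, ⟨fun x hx => (h1 hx _ D.tU).symm, h6 (centralizer_le_normalizer _ (a_cU D)), h6 D.bU,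
    h3⟩, h1, h6, fun hQ => ?_, h7, h5⟩
  obtain ⟨n, hn, e⟩ := D.mU
  obtain ⟨x, hx, e1⟩ := D.conj_t_Eb D.rEb D.r_notMem
  have := TD.cQ D.qn_comm _ (hQ (conj_of_norm (h6 hn) (h7 hx))) _
    (hQ (conj_of_norm (h6 hn) (h7 D.rEb)))
  rw [bracket_conj, commutatorElement_def, e1, conj_eq_of_comm D.rt] at this
  exact (D.mem_zt.1 this).elim (fun h => D.t1 (conj_eq_one_iff.1 h)) fun h => e (comm_of_conj_eq h)

/-- An invariant `2`-group properly containing `Q`. -/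
theorem exists_S {M : Subgroup G} (h : Iv D M)
    (h1 : normalizer (D.U : Set G) ≤ normalizer (M : Set G)) (h2 : ¬ M ≤ D.Q) (h3 : D.Eb ≤ M) :
    ∃ S : Subgroup G, Iv D S ∧ D.h ∈ normalizer (S : Set G) ∧ D.Q < S := by
  have k := normalizer_inf_normalizer_le_normalizer_sup M D.Ea
  have p : IsPGroup 2 (M ⊔ D.Ea : Subgroup G) := h.two.to_sup_of_normal_left'
    (IsPGroup.of_card (n := 5) D.cardE) ((Ea_nU D).trans h1)
  refine ⟨M ⊔ D.Ea, ⟨fun x hx => mem_centralizer_singleton_iff.1 ((sup_le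
    (fun y hy => mem_centralizer_singleton_iff.2 (h.t y hy))
    fun y hy => mem_centralizer_singleton_iff.2 (D.Ea_t hy) : _ ≤ centralizer {D.t}) hx),
    k ⟨h.a, D.a_nEa⟩, k ⟨h.b, D.b_nE⟩, fun x hx e => ?_⟩, k ⟨h1 D.hU, D.nE _ D.h_na D.ht⟩,
    lt_of_le_not_ge (sup_le le_sup_right (h3.trans le_sup_left)) fun e => h2 (le_sup_left.trans e)⟩
  obtain ⟨j, hj⟩ := p ⟨x, hx⟩
  exact orderOf_eq_one_iff.1 (Nat.eq_one_of_dvd_coprimes (Nat.Coprime.pow_left j (by decide))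
    (orderOf_dvd_of_pow_eq_one (congrArg Subtype.val hj)) (orderOf_dvd_of_pow_eq_one e))

variable {D} {S : Subgroup G} (h : Iv D S) (hh : D.h ∈ normalizer (S : Set G)) (hQ : D.Q < S)
include h hh hQ

theorem nK (x : SL25) : D.κ x ∈ D.N := by
  have k : ∀ {g}, g ∈ normalizer (S : Set G) → g ∈ D.N →
      g ∈ normalizer ((S ⊓ D.N : Subgroup G) : Set G) := fun h1 h2 =>
    inf_normalizer_le_normalizer_inf ⟨h1, le_normalizer h2⟩
  exact ((h.sub inf_le_left (k h.a D.aN) (k h.b D.bN)).big (k hh D.hN)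
    (Trans.lt_inf_normalizer h.two hQ).not_ge).2 f5 f5_s5 (D.N.comap D.κ) (comap_mono inf_le_right)
    (by rw [mem_comap, D.κf]; exact D.fN) x

theorem nK' (x : SL25) : D.κ' x ∈ D.N := mul_mem (mul_mem D.hN (nK h hh hQ x)) (inv_mem D.hN)

theorem le_N {X : Subgroup G} (hX : Iv D X) : X ≤ D.N :=
  hX.gen (fun _ _ e => D.Q_le_N (D.Ea_le e)) (fun _ _ e => D.Q_le_N (D.Eb_le e))
    (fun y _ => nK h hh hQ y) fun y _ => nK' h hh hQ y

theorem der_le : ⁅S, S⁆ ≤ D.Q := by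
  have k : ∀ {g}, g ∈ normalizer (S : Set G) → g ∈ D.N →
      g ∈ normalizer ((D.Q ⊔ ⁅S, S⁆ : Subgroup G) : Set G) := fun h1 h2 =>
    normalizer_inf_normalizer_le_normalizer_sup _ _
      ⟨h2, Solv.PG.le_normalizer_commutator le_rfl le_rfl h1⟩
  have h1 : D.Q ⊔ ⁅S, S⁆ ≤ S := sup_le hQ.le (commutator_le_self S)
  have h2 := h.sub h1 (k h.a D.aN) (k h.b D.bN)
  by_contra hn
  have e := eq_of_le_of_card_ge (comap_mono (f := D.κ) h1) (by
    rw [(h.big hh hQ.not_ge).1, (h2.big (k hh D.hN) fun e => hn (le_sup_right.trans e)).1])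
  have h3 : ∀ y, D.κ y ∈ S → D.κ y ∈ D.Q ⊔ ⁅S, S⁆ := fun y hy => e.ge hy
  exact hQ.not_ge (Solv.PG.le_of_le_sup_commutator h.two.isNilpotent le_rfl (le_N h hh hQ h)
    (h.gen (fun _ _ e => mem_sup_left (D.Ea_le e)) (fun _ _ e => mem_sup_left (D.Eb_le e)) h3
      fun y hy => (h2.κ_iff (k hh D.hN)).2 (h3 y ((h.κ_iff hh).1 hy))))

omit h hh hQ in
/-- The elements of `N` centralising `c` modulo `Q`. -/
def Cm (D : TD G) (c : G) : Subgroup G where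
  carrier := {n | n ∈ D.N ∧ ⁅n, c⁆ ∈ D.Q}
  one_mem' := ⟨one_mem _, by simp⟩
  mul_mem' := fun {m n} hm hn => ⟨mul_mem hm.1 hn.1, by
    rw [Mc3.comm_mul_left]; exact mul_mem (D.conj_Q hm.1 hn.2) hm.2⟩
  inv_mem' := fun {n} hn => ⟨inv_mem hn.1, by
    rw [show ⁅n⁻¹, c⁆ = n⁻¹ * (⁅n, c⁆)⁻¹ * n by group]; exact D.conj_Q' hn.1 (inv_mem hn.2)⟩

theorem KK (x y : SL25) : ⁅D.κ x, D.κ' y⁆ ∈ D.Q := by
  have g := (h.big hh hQ.not_ge).2
  obtain ⟨f', e1, e2, -⟩ := D.exists_f'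
  have k : ∀ {m n : G}, m * n = n * m → ⁅m, n⁆ ∈ D.Q := fun e => by
    rw [commutatorElement_eq_one_iff_mul_comm.2 e]; exact one_mem _
  have := g f' e2 ((Cm D (D.κ x)).comap D.κ') (fun ρ hρ => ⟨nK' h hh hQ ρ, ?_⟩)
    ⟨nK' h hh hQ _, k (e1 ▸ D.wκ x)⟩ y
  · simpa using inv_mem this.2
  · have := g f5 f5_s5 ((Cm D (D.κ' ρ)).comap D.κ) (fun σ hσ => ⟨nK h hh hQ σ,
      der_le h hh hQ (commutator_mem_commutator hσ ((h.κ_iff hh).2 hρ))⟩)
      ⟨nK h hh hQ _, k (D.κf ▸ D.f_κ' ρ)⟩ x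
    simpa using inv_mem this.2

end QN

open QN in
theorem TD.qd (D : TD G) : D.QD := by
  obtain ⟨M, h1, h2, h3, h4, h5, h6⟩ := exists_M D
  obtain ⟨S, h, hh, hQ⟩ := exists_S D h1 h3 h4 h5
  refine ⟨D.qn_comm, nK h hh hQ, ⟨M.comap D.κ, (h1.big (h3 D.hU) h4).1, mem_norm_of fun x hx => ?_,
    fun ρ hρ x hx => (h2 hρ x hx).symm⟩, fun n hn ht => ?_, KK h hh hQ⟩
  · rw [mem_comap, map_mul, map_mul, map_inv]; exact conj_of_norm h1.hκ hx
  · obtain ⟨c, c1, c2, c3⟩ := D.nU n hn ht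
    have c4 : c ∈ D.N := (sup_le (D.Ea_le.trans D.Q_le_N) ((closure_le _).2 (by
      rintro x (rfl | rfl | rfl); exacts [D.aN, D.bN, D.hN])) : _ ≤ D.N) (D.cat c c1 c2)
    have k := le_N h hh hQ h1
    rw [← mul_mem_cancel_left (inv_mem c4)]
    rcases h6 (c⁻¹ * n) (fun x hx => by
      rw [mul_assoc, mul_inv_eq_iff_eq_mul.1 (c3 x hx)]; group) with e | e | e
    exacts [k e, (mul_mem_cancel_right D.aN).1 (k e), (mul_mem_cancel_right (inv_mem D.aN)).1 (k e)]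

end Cfsg.Lib.HN3
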