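import Cfsg.Agent.HN3.BaseC

/-!
The two extraspecial groups of order `32` commute.
-/

set_option autoImplicit false
set_option linter.unusedSectionVars false

namespace Cfsg.Lib.HN3

open Subgroup Equiv Cfsg.Lib.Perm
open scoped commutatorElement

namespace QN
variable {G : Type*} [Group G]

theorem prod3 {a x e β y : G} (ax : a * x = x * a) (aβ : a * β = β * a) (h1 : β * y = y * β)
    (h2 : β * (a * y * a⁻¹) = a * y * a⁻¹ * β) (h : x * e * x⁻¹ = β * y) :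
    x * (e * (a * e * a⁻¹) * (a⁻¹ * e * a)) * x⁻¹ =
      β ^ 3 * (y * (a * y * a⁻¹) * (a⁻¹ * y * a)) := by
  have c1 : Commute a x := ax
  have c2 : Commute a β := aβ
  have e1 : x * (a * e * a⁻¹) * x⁻¹ = β * (a * y * a⁻¹) := by
    rw [← mul_assoc β, ← mul_assoc β, ← aβ, mul_assoc a β, ← h, ← mul_assoc x, ← mul_assoc x, ← ax,
      mul_assoc _ a⁻¹, c1.inv_inv.eq]
    group
  have e2 : x * (a⁻¹ * e * a) * x⁻¹ = β * (a⁻¹ * y * a) := by
    rw [← mul_assoc β, ← mul_assoc β, ← c2.inv_left.eq, mul_assoc a⁻¹ β, ← h, ← mul_assoc x,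
      ← mul_assoc x, ← c1.inv_left.eq, mul_assoc _ a, c1.inv_right.eq]
    group
  rw [← conj_mul, ← conj_mul, h, e1, e2]
  generalize a * y * a⁻¹ = y2 at *
  generalize a⁻¹ * y * a = y3 at *
  rw [mul_assoc (β * y), mul_assoc β y2, ← mul_assoc y2, ← h2, pow_three]
  simp only [mul_assoc]
  rw [← mul_assoc y β, ← h1, mul_assoc, ← mul_assoc y β, ← h1, mul_assoc]

end QN

open QN

namespace TD

variable {G : Type*} [Group G] [Finite G] (D : TD G)

theorem qn_not3 {x : G} (h : x * x ∈ zpowers D.t) : ¬ 3 ∣ orderOf x := fun h3 => by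
  have : x ^ 4 = 1 := by
    rw [show x ^ 4 = x * x * (x * x) by simp [pow_succ, mul_assoc]]
    rcases D.mem_zt.1 h with e | e <;> rw [e]
    exacts [one_mul _, D.tt]
  have := h3.trans (orderOf_dvd_of_pow_eq_one this)
  omega

theorem qn_comm1 {x e : G} (hx : x ∈ D.Ea) (he : e ∈ D.Eb) : ⁅e, x⁆ ∈ D.Ea ⊔ closure {D.r, D.v} := by
  have key : ∀ y ∈ closure {D.t, D.r, D.v}, e * x * e⁻¹ * y = y * (e * x * e⁻¹) := fun y hy => by
    have h1 : e⁻¹ * y * e ∈ closure {D.t, D.r, D.v} := by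
      rw [show e⁻¹ * y * e = ⁅e⁻¹, y⁆ * y by group]
      exact mul_mem (zpowers_le.2 D.tB' (D.cEb _ (inv_mem he) _ (D.B'_le hy))) hy
    simpa [mul_assoc] using comm_conj' e (D.Ea_B' hx h1)
  have h2 : ⁅x, D.b⁆ ∈ D.Ea := by
    rw [show ⁅x, D.b⁆ = x * (D.b * x⁻¹ * D.b⁻¹) by group]
    exact mul_mem hx (conj_of_norm D.b_nE (inv_mem hx))
  rcases D.cB _ (key _ D.rB') (key _ D.vB') (key _ D.tB') with h | h | h
  · exact mul_mem h (mem_sup_left (inv_mem hx))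
  · rw [orderOf_conj'] at h
    exact absurd h (D.qn_not3 (D.sqE x hx))
  · rw [← conj_eq_of_comm (D.bEb e he).symm, bracket_conj, orderOf_conj'] at h
    exact absurd h (D.qn_not3 (D.sqE _ h2))

theorem qn_comm2 {x e : G} (hx : x ∈ D.Ea) (he : e ∈ D.Eb) : ⁅x, e⁆ ∈ D.Eb := by
  have hV : closure {D.r, D.v} ≤ closure {D.t, D.r, D.v} := closure_mono (by simp)
  obtain ⟨x1, h1, v1, h2, e1⟩ := (mem_sup_comm fun z hz y hy => D.Ea_B' hz (hV hy)).1
    (D.qn_comm1 (D.mem_Eb'.1 he) (D.conj_mem_Eb.2 hx))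
  have h3 : D.f⁻¹ * x1 * D.f ∈ D.Eb := D.mem_Eb'.2 (by simpa [mul_assoc] using h1)
  have h4 : D.f⁻¹ * v1 * D.f ∈ D.B := (D.fB _).2 (by simpa [mul_assoc] using hV h2)
  have e2 : ⁅x, e⁆ = D.f⁻¹ * v1 * D.f * (D.f⁻¹ * x1 * D.f) := by
    rw [← D.Eb_B h3 h4]
    rw [bracket_conj] at e1
    calc _ = D.f⁻¹ * (D.f * ⁅x, e⁆ * D.f⁻¹) * D.f := by group
      _ = _ := by rw [e1]; group
  generalize D.f⁻¹ * x1 * D.f = y at *
  generalize D.f⁻¹ * v1 * D.f = β at *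
  have h5 := mul_mem h3 he
  have h6 := prod3 (e := e) (D.aE x hx) (D.aE β (D.BE h4)) (D.Eb_B h5 h4).symm
    (D.Eb_B (conj_of_norm D.a_nE h5) h4).symm (by rw [← mul_assoc, ← e2]; group)
  have h7 := zpowers_le.2 D.tEb
  rw [D.conj_zt (D.Ea_t hx) (D.fpfb e he)] at h6
  have h8 : β * β * β ∈ D.Eb := by
    rw [← pow_three', ← mul_mem_cancel_right (h7 (D.fpfb _ h5)), ← h6]; exact h7 (D.fpfb e he)
  rw [e2]
  exact mul_mem ((mul_mem_cancel_left (h7 (D.sqE β (D.BE h4)))).1 h8) h3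

theorem qn_comm (x : G) (hx : x ∈ D.Ea) (e : G) (he : e ∈ D.Eb) : x * e = e * x := by
  have h1 : ⁅x, e⁆ ∈ D.Ea := by
    have := D.qn_comm2 (D.mem_Eb'.1 he) (D.conj_mem_Eb.2 hx)
    rw [bracket_conj, D.conj_mem_Eb] at this
    simpa using inv_mem this
  have h2 := D.inf_E h1 (D.qn_comm2 hx he)
  have h6 := prod3 (e := e) (β := ⁅x, e⁆) (y := e) (D.aE x hx) (D.comm_zt D.ta h2)
    (D.comm_zt (D.Eb_t he) h2).symm (D.comm_zt (D.Eb_t (conj_of_norm D.a_nE he)) h2).symm (by group)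
  rw [D.conj_zt (D.Ea_t hx) (D.fpfb e he), right_eq_mul] at h6
  refine commutatorElement_eq_one_iff_mul_comm.1 ((D.mem_zt.1 h2).resolve_right fun h => D.t1 ?_)
  rwa [h, pow_three, D.tt, mul_one] at h6

end TD

end Cfsg.Lib.HN3
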