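import Cfsg.Agent.HN3.BaseB

/-!
Subgroups of `SL₂(5)` of order prime to three normalised by an element of order three.
-/

set_option autoImplicit false

namespace Cfsg.Lib.HN3.QN

open Subgroup Equiv Cfsg.Lib.Perm

/-- Conjugation by `s5`. -/
def cs (x : SL25) : SL25 := s5 * x * s5⁻¹
/-- The square has order `n`. -/
abbrev O (n : ℕ) (w : SL25) : Prop := (w * w) ^ n = 1 ∧ w * w ≠ 1
/-- An element of order four of an invariant quaternion group. -/
abbrev Good (x : SL25) : Prop := x * x = -1 ∧ x * cs x * (x * cs x) = -1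
/-- That quaternion group. -/
def L (x : SL25) : List SL25 :=
  [1, -1, x, x * -1, cs x, cs x * -1, cs (cs x), cs (cs x) * -1]

set_option synthInstance.maxSize 2000 in
theorem d1 : ∀ x : SL25, x = 1 ∨ x = -1 ∨ Good x ∨ O 3 (x * cs x * x * (cs x)⁻¹) ∨
    O 3 (x * cs x * x * cs (cs x)) := by
  simp only [forall_sl2]
  decide +kernel

set_option synthInstance.maxSize 2000 in
theorem d2 : ∀ x : SL25, Good x → (L x).Nodup ∧ ∀ y : SL25, Good y →
    y ∈ L x ∨ O 3 (x * y) ∨ O 3 (cs x * y) ∨ O 3 (cs (cs x) * y) := by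
  simp only [forall_sl2]
  decide +kernel

set_option synthInstance.maxSize 2000 in
theorem d3 : ∀ x : SL25, Good x → ∀ y : SL25, y * s5 * y⁻¹ = s5⁻¹ →
    (O 3 (x * y) ∨ O 3 (cs x * y) ∨ O 3 (cs (cs x) * y)) ∧
      (O 5 (x * y) ∨ O 5 (cs x * y) ∨ O 5 (cs (cs x) * y)) := by
  simp only [forall_sl2]
  decide +kernel

theorem dvd_of_O {p : ℕ} [Fact p.Prime] {H : Subgroup SL25} {w : SL25} (hw : w ∈ H) (h : O p w) :
    p ∣ Nat.card H := orderOf_eq_prime h.1 h.2 ▸ H.orderOf_dvd_natCard (mul_mem hw hw)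

theorem dich {R : Subgroup SL25} (hs : s5 ∈ normalizer (R : Set SL25))
    (h3 : ∀ x ∈ R, x ^ 3 = 1 → x = 1) : (∀ x ∈ R, x = 1 ∨ x = -1) ∨ (Nat.card R = 8 ∧
      ∀ f, f * s5 * f⁻¹ = s5⁻¹ → ∀ H : Subgroup SL25, R ≤ H → f ∈ H → ∀ y, y ∈ H) := by
  have hc : ∀ {x}, x ∈ R → cs x ∈ R := fun hx => conj_of_norm hs hx
  have hO : ∀ {w}, w ∈ R → ¬ O 3 w := fun hw h => h.2 (h3 _ (mul_mem hw hw) h.1)
  have hg : ∀ x ∈ R, x = 1 ∨ x = -1 ∨ Good x := fun x hx => by
    have h1 := mul_mem (mul_mem hx (hc hx)) hx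
    rcases d1 x with h | h | h | h | h
    exacts [Or.inl h, Or.inr (Or.inl h), Or.inr (Or.inr h),
      absurd h (hO (mul_mem h1 (inv_mem (hc hx)))), absurd h (hO (mul_mem h1 (hc (hc hx))))]
  refine or_iff_not_imp_left.2 fun hn => ?_
  push Not at hn
  obtain ⟨x, hx, h1, h2⟩ := hn
  have gx := ((hg x hx).resolve_left h1).resolve_left h2
  have hm : -1 ∈ R := gx.1 ▸ mul_mem hx hx
  have h8 : Nat.card R = 8 := by
    have e : ∀ y, y ∈ (L x).toFinset ↔ y ∈ R := fun y => by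
      rw [List.mem_toFinset]
      refine ⟨fun hy => ?_, fun hy => ?_⟩
      · simp only [L, List.mem_cons, List.not_mem_nil, or_false] at hy
        rcases hy with rfl | rfl | rfl | rfl | rfl | rfl | rfl | rfl
        exacts [one_mem _, hm, hx, mul_mem hx hm, hc hx, mul_mem (hc hx) hm, hc (hc hx),
          mul_mem (hc (hc hx)) hm]
      · rcases hg y hy with rfl | rfl | gy
        · simp [L]
        · simp [L]
        · rcases (d2 x gx).2 y gy with h | h | h | h
          exacts [h, absurd h (hO (mul_mem hx hy)), absurd h (hO (mul_mem (hc hx) hy)),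
            absurd h (hO (mul_mem (hc (hc hx)) hy))]
    rw [Nat.subtype_card _ e, List.toFinset_card_of_nodup (d2 x gx).1]; rfl
  refine ⟨h8, fun f hf H hH hfH y => ?_⟩
  have := Fact.mk Nat.prime_three
  have := Fact.mk Nat.prime_five
  have k1 := mul_mem (hH hx) hfH
  have k2 := mul_mem (hH (hc hx)) hfH
  have k3 := mul_mem (hH (hc (hc hx))) hfH
  have e3 : 3 ∣ Nat.card H := by
    rcases (d3 x gx f hf).1 with h | h | h
    exacts [dvd_of_O k1 h, dvd_of_O k2 h, dvd_of_O k3 h]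
  have e5 : 5 ∣ Nat.card H := by
    rcases (d3 x gx f hf).2 with h | h | h
    exacts [dvd_of_O k1 h, dvd_of_O k2 h, dvd_of_O k3 h]
  have e8 : 8 ∣ Nat.card H := h8 ▸ card_dvd_of_le hH
  have e : H = ⊤ := eq_top_of_le_card H (by
    rw [card_SL25]; exact Nat.le_of_dvd Nat.card_pos (by omega))
  rw [e]; exact mem_top y

end Cfsg.Lib.HN3.QN
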