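import Cfsg.Agent.HN3.Base
import Cfsg.Agent.HN3.QNormA
import Cfsg.Agent.HN3.QNormB
import Cfsg.Agent.Recog.L3Gen

/-!
Subgroups of order prime to three of the centraliser of `t` normalised by `⟨a, b⟩`.
-/

set_option autoImplicit false
set_option linter.unusedSectionVars false

namespace Cfsg.Lib.HN3.QN

open Subgroup Equiv Cfsg.Lib.Perm
open scoped commutatorElement

variable {G : Type*} [Group G]

theorem range_of {φ : SL25 →* G} {c z k : G} {y : SL25} (hz : z ^ 3 = 1)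
    (hφ : ∀ y, φ y * z = z * φ y) (hc : c ∈ zpowers z) (e : k = c * φ y) (h : ¬ 3 ∣ orderOf k) :
    ∃ y', k = φ y' := by
  have h1 : Commute c (φ y) := (Mc3.comm_zp (hφ y) hc).symm
  have h3 : c ^ 3 = 1 := by
    obtain ⟨i, rfl⟩ := hc
    rw [← zpow_natCast, ← zpow_mul, mul_comm, zpow_mul, zpow_natCast, hz, one_zpow]
  have h4 : k ^ 3 = φ (y ^ 3) := by rw [e, h1.mul_pow, h3, one_mul, map_pow]
  obtain ⟨j, hj⟩ := (mem_zpowers_pow_iff (g := k) (k := 3)).2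
    ((Nat.Prime.coprime_iff_not_dvd Nat.prime_three).2 h)
  exact ⟨(y ^ 3) ^ j, by rw [map_zpow, ← h4]; exact hj.symm⟩

theorem comm_of_zp3 {k d c : G} (hc : orderOf c = 3) (hd : d ∈ zpowers c) (h1 : d ≠ 1)
    (h : k * d = d * k) : k * c = c * k := by
  rcases (Mc3.mem_zp3 hc).1 hd with rfl | rfl | rfl
  exacts [absurd rfl h1, h, Commute.inv_right_iff.1 h]

theorem dich' {φ : SL25 →* G} [Finite G] (hi : Function.Injective φ) {X : Subgroup G}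
    (hs : φ s5 ∈ normalizer (X : Set G)) (h3 : ∀ x ∈ X, x ^ 3 = 1 → x = 1) :
    (∀ x, φ x ∈ X → x = 1 ∨ x = -1) ∨ (Nat.card (X.comap φ) = 8 ∧
      ∀ f, f * s5 * f⁻¹ = s5⁻¹ → ∀ H : Subgroup SL25, X.comap φ ≤ H → f ∈ H → ∀ y, y ∈ H) :=
  dich (R := X.comap φ) (mem_norm_of fun x hx => by
    rw [mem_comap, map_mul, map_mul, map_inv]; exact conj_of_norm hs hx)
    fun x hx e => hi (by rw [map_one]; exact h3 _ hx (by rw [← map_pow, e, map_one]))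

theorem pow8 {φ : SL25 →* G} [Finite G] (hi : Function.Injective φ) {X : Subgroup G}
    (hs : φ s5 ∈ normalizer (X : Set G)) (h3 : ∀ x ∈ X, x ^ 3 = 1 → x = 1) {y : SL25}
    (hy : φ y ∈ X) : φ y ^ 8 = 1 := by
  rw [← map_pow]
  rcases dich' hi hs h3 with h | ⟨h, -⟩
  · rcases h y hy with rfl | rfl <;> simp [Even.neg_one_pow (by decide : Even 8)]
  · have := pow_card_eq_one' (x := (⟨y, hy⟩ : X.comap φ))
    rw [h] at this
    rw [show y ^ 8 = 1 from congrArg Subtype.val this, map_one]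

/-- A subgroup of `C(t)` of order prime to three normalised by `a` and `b`. -/
structure Iv (D : TD G) (X : Subgroup G) : Prop where
  t : ∀ x ∈ X, x * D.t = D.t * x
  a : D.a ∈ normalizer (X : Set G)
  b : D.b ∈ normalizer (X : Set G)
  c3 : ∀ x ∈ X, x ^ 3 = 1 → x = 1

namespace Iv

variable [Finite G] {D : TD G} {X : Subgroup G} (h : Iv D X)
include h

theorem P : closure {D.a, D.b} ≤ normalizer (X : Set G) := (closure_le _).2 (by
  rintro x (rfl | rfl); exacts [h.a, h.b])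

theorem n3 {x : G} (hx : x ∈ X) : ¬ 3 ∣ orderOf x := fun e =>
  (Nat.Prime.coprime_iff_not_dvd Nat.prime_three).1 (L3.coprime_of_cube h.c3).symm
    (e.trans (X.orderOf_dvd_natCard hx))

theorem sub {Y : Subgroup G} (hY : Y ≤ X) (ha : D.a ∈ normalizer (Y : Set G))
    (hb : D.b ∈ normalizer (Y : Set G)) : Iv D Y :=
  ⟨fun x hx => h.t x (hY hx), ha, hb, fun x hx => h.c3 x (hY hx)⟩

theorem hκ : D.κ s5 ∈ normalizer (X : Set G) := D.κs ▸ mul_mem h.a (inv_mem h.b)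
theorem hκ' : D.κ' s5 ∈ normalizer (X : Set G) := D.κ's ▸ mul_mem h.a h.b

theorem gen {H : Subgroup G} (h1 : ∀ x ∈ X, x ∈ D.Ea → x ∈ H) (h2 : ∀ x ∈ X, x ∈ D.Eb → x ∈ H)
    (h3 : ∀ y, D.κ y ∈ X → D.κ y ∈ H) (h4 : ∀ y, D.κ' y ∈ X → D.κ' y ∈ H) : X ≤ H := by
  have hc : ∀ d ∈ closure {D.a, D.b}, ∀ e ∈ closure {D.a, D.b}, d * e = e * d := by
    intro d hd e he
    obtain ⟨_, ⟨i, rfl⟩, _, ⟨j, rfl⟩, rfl⟩ := D.mem_P.1 hd
    obtain ⟨_, ⟨k, rfl⟩, _, ⟨l, rfl⟩, rfl⟩ := D.mem_P.1 he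
    exact ((Commute.zpow_zpow_self _ i k).mul_right (D.cab.zpow_zpow i l)).mul_left
      ((D.cab.symm.zpow_zpow j k).mul_right (Commute.zpow_zpow_self _ j l))
  have hb : ∀ {k c : G}, k ∈ X → c ∈ normalizer (X : Set G) → ⁅k, c⁆ ∈ X := fun hk hc => by
    rw [commutatorElement_def, mul_assoc, mul_assoc, ← mul_assoc _ _⁻¹]
    exact mul_mem hk (conj_of_norm hc (inv_mem hk))
  refine L3.le_of_cent D.card_P (fun d hd => ?_) hc h.P h.c3 fun d hd d1 k hk e => ?_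
  · have k : ∀ {c : G}, orderOf c = 3 → d ∈ zpowers c → d ^ 3 = 1 := fun h3 h4 =>
      orderOf_dvd_iff_pow_eq_one.1 (h3 ▸ orderOf_dvd_of_mem_zpowers h4)
    rcases D.P_cases hd with e | e | e | e
    exacts [k D.a3 e, k D.b3 e, k D.z3 e, k D.s3 e]
  · rcases D.P_cases hd with c | c | c | c
    · exact h1 k hk (((D.cat3 k (comm_of_zp3 D.a3 c d1 e) (h.t k hk)).resolve_right
        (not_or.2 ⟨h.n3 hk, h.n3 (hb hk h.b)⟩)))
    · exact h2 k hk (((D.cbt3 (comm_of_zp3 D.b3 c d1 e) (h.t k hk)).resolve_right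
        (not_or.2 ⟨h.n3 hk, h.n3 (hb hk h.a)⟩)))
    · obtain ⟨c', hc', y, e'⟩ := D.czt k (comm_of_zp3 D.z3 c d1 e) (h.t k hk)
      obtain ⟨y', rfl⟩ := range_of D.z3' D.κz hc' e' (h.n3 hk)
      exact h3 _ hk
    · obtain ⟨c', hc', y, e'⟩ := D.cst (comm_of_zp3 D.s3 c d1 e) (h.t k hk)
      obtain ⟨y', rfl⟩ := range_of D.s3' D.κ'_s hc' e' (h.n3 hk)
      exact h4 _ hk

theorem le8 {H : Subgroup G} (h1 : ∀ x ∈ X, x ^ 8 = 1 → x ∈ H) : X ≤ H := by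
  have k : ∀ x, x * x ∈ zpowers D.t → x ^ 8 = 1 := fun x hx => by
    rw [show x ^ 8 = (x * x * (x * x)) ^ 2 by simp [pow_succ, mul_assoc]]
    rcases D.mem_zt.1 hx with e | e <;> simp [e, D.tt]
  exact h.gen (fun x hx e => h1 x hx (k x (D.sqE x e))) (fun x hx e => h1 x hx (k x (D.sqEb x e)))
    (fun y hy => h1 _ hy (pow8 D.κinj h.hκ h.c3 hy)) fun y hy => h1 _ hy (pow8 D.κ'inj h.hκ' h.c3 hy)

theorem two : IsPGroup 2 X := by
  refine IsPGroup.of_card (Nat.eq_prime_pow_of_unique_prime_dvd Nat.card_pos.ne' fun {p} hp hd => ?_)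
  by_contra p2
  have := Fact.mk hp
  have := Fact.mk Nat.prime_three
  obtain ⟨S, h1, h2, h3, h4⟩ := Solv.Coprime.exists_invariant_sylow' h.P
    (D.card_P ▸ (Nat.Coprime.pow_left 2 (L3.coprime_of_cube h.c3).symm :))
    (Or.inl (by have := D.syl.isPGroup.isNilpotent; infer_instance)) p
  have h5 : S ≤ ⊥ := (h.sub h1 (h4 D.aP) (h4 D.bP)).le8 fun x hx e => by
    obtain ⟨k, hk⟩ := h2 ⟨x, hx⟩
    exact orderOf_eq_one_iff.1 (Nat.eq_one_of_dvd_coprimes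
      (((Nat.coprime_primes hp Nat.prime_two).2 p2).pow k 3)
      (orderOf_dvd_of_pow_eq_one (congrArg Subtype.val hk)) (orderOf_dvd_of_pow_eq_one e))
  rw [le_bot_iff.1 h5, relIndex_bot_left] at h3
  exact h3 hd

theorem κ_iff (hh : D.h ∈ normalizer (X : Set G)) {y : SL25} : D.κ' y ∈ X ↔ D.κ y ∈ X :=
  (mem_normalizer_iff.1 hh _).symm

theorem le_Q (hh : D.h ∈ normalizer (X : Set G)) (h1 : ∀ x, D.κ x ∈ X → x = 1 ∨ x = -1) :
    X ≤ D.Q :=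
  h.gen (fun _ _ e => D.Ea_le e) (fun _ _ e => D.Eb_le e)
    (fun y hy => (TD.κ_mem_Q D.qn_comm).2 (h1 y hy))
    fun y hy => (TD.κ'_mem_Q D.qn_comm).2 (h1 y ((h.κ_iff hh).1 hy))

theorem big (hh : D.h ∈ normalizer (X : Set G)) (h1 : ¬ X ≤ D.Q) : Nat.card (X.comap D.κ) = 8 ∧
    ∀ f, f * s5 * f⁻¹ = s5⁻¹ → ∀ H : Subgroup SL25, X.comap D.κ ≤ H → f ∈ H → ∀ y, y ∈ H :=
  (dich' D.κinj h.hκ h.c3).resolve_left fun e => h1 (h.le_Q hh e)

end Iv

end Cfsg.Lib.HN3.QN
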