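import Cfsg.Agent.HN3.Defs
import Cfsg.Agent.Recog.Mc3H
import Cfsg.Agent.Solv.PGroupNormal

/-!
The working form of the `3`-local hypotheses, and the simplicity of the group.
-/

set_option autoImplicit false

namespace Cfsg.Lib.HN3

open Subgroup Cfsg.Lib.Perm
open Cfsg.Lib.Mc3 (LS)

set_option synthInstance.maxSize 2000 in
theorem prod3 : ∀ x : SL25, ∃ i j : Fin 10, x * x * x = 1 ∨
    x * Mc3.r10 i * Mc3.r10 j * (x * Mc3.r10 i * Mc3.r10 j) * (x * Mc3.r10 i * Mc3.r10 j) = 1 := by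
  simp only [forall_sl2]
  decide +kernel

theorem mem_of_three {A : Subgroup SL25} [hA : A.Normal] {x : SL25} (h : x * x * x = 1) (h1 : x ≠ 1)
    (hx : x ∈ A) (y : SL25) : y ∈ A := by
  have k : ∀ y : SL25, y * y * y = 1 → y ∈ A := fun y hy => by
    by_cases e : y = 1
    · exact e ▸ one_mem A
    obtain ⟨c, rfl⟩ := Mc3.conj33 h h1 hy e
    exact hA.conj_mem x hx c
  obtain ⟨i, j, e | e⟩ := prod3 y
  · exact k y e
  · exact (mul_mem_cancel_right (k _ (Mc3.r10_ok i).1)).1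
      ((mul_mem_cancel_right (k _ (Mc3.r10_ok j).1)).1 (k _ e))

variable {G : Type*} [Group G] [Finite G]

theorem exists_LS (S : Sylow 3 G) {Z C Q : Subgroup G}
    (hZ : Z = (S : Subgroup G) ⊓ centralizer ((S : Subgroup G) : Set G))
    (hCZ : C = centralizer (Z : Set G)) (hQ : Q = (pCore 3 C).map C.subtype)
    (hQex : IsExtraspecial 3 Q) (hQcard : Nat.card Q = 3 ^ 5) (hQexp : ∀ a ∈ Q, a ^ 3 = 1)
    (hCQ : centralizer (Q : Set G) ≤ Q)
    (hZQ : ∃ x : G, Z.map (MulAut.conj x).toMonoidHom ≤ Q ∧ Z.map (MulAut.conj x).toMonoidHom ≠ Z)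
    (e : C ⧸ pCore 3 C ≃* SL25) : ∃ z pL, LS S Q (centralizer {z}) z pL ∧
      ∃ g, g * z * g⁻¹ ∈ Q ∧ g * z * g⁻¹ ∉ zpowers z := by
  have : Fact (Nat.Prime 3) := ⟨Nat.prime_three⟩
  obtain ⟨g, hg1, hg2⟩ := hZQ
  have hQC : Q ≤ C := hQ ▸ map_subtype_le _
  have hSC : (S : Subgroup G) ≤ C := hCZ ▸ fun s hs x hx =>
    ((hZ ▸ hx : x ∈ _ ⊓ centralizer _).2 s hs).symm
  have hZQ : Z ≤ Q := (le_centralizer_iff.1 (hCZ ▸ hQC)).trans hCQ
  have hZ3 : Nat.card Z = 3 := by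
    have h1 : Z ≤ (center Q).map Q.subtype := fun x hx =>
      ⟨⟨x, hZQ hx⟩, mem_center_iff.2 fun q => Subtype.ext ((hCZ ▸ hQC) q.2 x hx).symm, rfl⟩
    have h2 := card_dvd_of_le h1
    rw [card_map_of_injective (subtype_injective Q), hQex.2] at h2
    refine ((Nat.dvd_prime Nat.prime_three).1 h2).resolve_left fun e => hg2 ?_
    rw [card_eq_one.1 e, Subgroup.map_bot]
  clear hZ
  obtain ⟨z, rfl⟩ : ∃ z, zpowers z = Z := by
    have := isCyclic_of_prime_card hZ3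
    exact (Subgroup.isCyclic_iff_exists_zpowers_eq_top Z).1 inferInstance
  have z3 : orderOf z = 3 := by rw [← Nat.card_zpowers, hZ3]
  have hNC : normalizer (zpowers z : Set G) ≤ normalizer (C : Set G) := hCZ ▸
    (normal_subgroupOf_iff_le_normalizer (centralizer_le_normalizer _)).1 inferInstance
  have hNQ : normalizer (C : Set G) ≤ normalizer (Q : Set G) :=
    hQ ▸ Solv.normalizer_le_normalizer_map_pCore 3 _
  rw [zpowers_eq_closure, centralizer_closure] at hCZ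
  subst hCZ
  have hzQ := hZQ (mem_zpowers z)
  obtain ⟨-, h2, h3⟩ := Mc3.extraspecial_facts z3 hzQ
    (fun q hq => mem_centralizer_singleton_iff.1 (hQC hq)) hQex
  obtain ⟨p, p1, p2, p3⟩ := Mc3.exists_proj hQC (e.toMonoidHom.comp (QuotientGroup.mk' _)) fun x => by
    rw [hQ]
    exact (e.map_eq_one_iff.trans (QuotientGroup.eq_one_iff x)).trans
      (mem_map_iff_mem (subtype_injective _)).symm
  refine ⟨z, p, ⟨z3, le_sup_left.trans (S.is_maximal' (hQex.1.1.to_sup_of_normal_left' S.isPGroup'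
    (hSC.trans (le_normalizer.trans hNQ))) le_sup_right).le, hSC,
    fun l hl => mem_centralizer_singleton_iff.1 hl, hQexp, h2, hzQ, hQcard, (h3 hCQ).1, (h3 hCQ).2,
    fun n hn q hq => (mem_normalizer_iff.1 (hNQ (hNC hn)) q).1 hq,
    fun n hn l hl => (mem_normalizer_iff.1 (hNC hn) l).1 hl, p1, p2, fun x => ?_⟩,
    g, hg1 ⟨z, mem_zpowers z, rfl⟩, fun e1 => hg2 ?_⟩
  · obtain ⟨l, hl⟩ := (e.surjective.comp (QuotientGroup.mk'_surjective _)) x
    exact ⟨l, l.2, (p3 l).trans hl⟩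
  · refine eq_of_le_of_card_ge ?_ (card_map_of_injective (MulAut.conj g).injective).ge
    rw [MonoidHom.map_zpowers]
    exact zpowers_le.2 e1

theorem JD.simple (D : JD G)
    (sig : ∀ K : Subgroup G, (Nat.card K).Coprime 3 → D.J ≤ normalizer (K : Set G) → K = ⊥) :
    IsSimpleGroup G := by
  have : Fact (Nat.Prime 3) := ⟨Nat.prime_three⟩
  have : Nontrivial G := ⟨_, _, D.l.z_ne⟩
  refine ⟨fun N hN => or_iff_not_imp_left.2 fun h0 => ?_⟩
  have cj : ∀ {x y}, IsConj x y → x ∈ N → y ∈ N := fun h hx => by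
    obtain ⟨c, rfl⟩ := isConj_iff.1 h
    exact hN.conj_mem _ hx c
  have hz : D.z ∈ N := by
    obtain ⟨x, hx⟩ := exists_prime_orderOf_dvd_card' (G := N) 3 (by
      by_contra h
      exact h0 (sig N ((Nat.Prime.coprime_iff_not_dvd Nat.prime_three).2 h).symm
        (by rw [normalizer_eq_top]; exact le_top)))
    rw [← orderOf_coe] at hx
    obtain ⟨P, hP⟩ := (IsPGroup.of_card (p := 3) (n := 1)
      ((Nat.card_zpowers (x : G)).trans hx)).exists_le_sylow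
    obtain ⟨g, rfl⟩ := MulAction.exists_smul_eq G D.S P
    obtain ⟨y, hy, e⟩ := hP (mem_zpowers _)
    have hy' : y ∈ N := cj (isConj_iff.2 ⟨g, e⟩ : IsConj y x).symm x.2
    obtain ⟨c, h1, h2, h3⟩ := Solv.PG.exists_mem_center_orderOf_eq D.S.isPGroup'
      (N.subgroupOf D.S) fun h => by
        have : y = 1 := congrArg Subtype.val (mem_bot.1 (h.le (show (⟨y, hy⟩ : D.S) ∈ _ from hy')))
        rw [← e, this] at hx
        simp at hx
    rcases (Mc3.mem_zp3 D.l.z3).1 (D.l.cent c fun q hq =>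
      (congrArg Subtype.val (mem_center_iff.1 h2 ⟨q, D.l.QS hq⟩)).symm) with e | e | e
    · rw [← orderOf_coe, e, orderOf_one] at h3; omega
    · exact e ▸ h1
    · exact inv_mem_iff.1 (e ▸ h1)
  have hκ : ∀ x, D.κ x ∈ N := mem_of_three (A := N.comap D.κ) (D.l.cube_S (D.JS D.sJ))
    (fun e => D.sQ ((D.l.ker _ (D.l.SL (D.JS D.sJ))).1 e)) (D.κs.symm ▸ cj D.zs hz : D.κ _ ∈ N)
  have hQ : D.Q ≤ N := by
    refine inf_eq_left.1 ((D.l.irr (A := D.Q ⊓ N) (zpowers_le.2 ⟨D.l.zQ, hz⟩) inf_le_left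
      fun l hl a ha => ⟨D.l.nQ l (D.l.LN hl) a ha.1, hN.conj_mem a ha.2 l⟩).resolve_left fun e => ?_)
    exact D.z1Z (e ▸ ⟨D.z1Q, cj D.zz1 hz⟩)
  have hC : ∀ g, g * D.z = D.z * g → g ∈ N := fun g hg =>
    (mul_mem_cancel_right (inv_mem (hκ (D.pL g)))).1 (hQ ((D.l.eq_iff
      (mem_centralizer_singleton_iff.2 hg) (mem_centralizer_singleton_iff.2 (D.κz _))).1
        (D.pκ _).symm))
  rw [← Sylow.normalizer_sup_eq_top' D.S fun s hs => hC s (D.l.Lz s (D.l.SL hs)), eq_comm, sup_eq_right]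
  intro n hn
  rcases Mc3.nz_cases D.l.z3 (Mc3.mem_nz (n := n) (D.l.cent _ fun q hq => by
    have := D.l.Lz _ (D.l.SL ((mem_normalizer_iff''.1 hn q).1 (D.l.QS hq)))
    calc n * D.z * n⁻¹ * q = n * (D.z * (n⁻¹ * q * n)) * n⁻¹ := by group
      _ = _ := by rw [← this]; group)) with e | e
  · exact hC n e
  · obtain ⟨g, hg⟩ := isConj_iff.1 D.zs.symm
    refine (mul_mem_cancel_left (hN.conj_mem _ (D.κf ▸ hκ _ : D.f ∈ N) g)).1 (hC _ ?_)
    rw [← mul_inv_eq_iff_eq_mul]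
    calc _ = g * (D.f * (g⁻¹ * (n * D.z * n⁻¹) * g) * D.f⁻¹) * g⁻¹ := by group
      _ = g * (D.f * D.s * D.f⁻¹)⁻¹ * g⁻¹ := by rw [e, ← hg]; group
      _ = _ := by rw [D.fs, inv_inv, hg]

end Cfsg.Lib.HN3
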