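import Cfsg.Agent.HN3.StabAc

/-!
The action of the stabiliser of `r` on `Q`.
-/

set_option autoImplicit false
set_option linter.unusedSectionVars false

namespace Cfsg.Lib.HN3

open Subgroup Cfsg.Lib.Perm M4
open scoped commutatorElement

universe u

namespace TD

namespace Co

variable {G : Type u} [Group G] [Finite G] {D : TD G} {co : G → E} (c : D.Co co) (q : D.QD)
  (m : D.M0) (m' : D.M1)
include c q m m'

theorem same {n n' : G} {φ : E → E} (h : D.Ac co n φ) (h' : D.Ac co n' φ) : n * n'⁻¹ ∈ D.Q := by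
  obtain ⟨ψ, k⟩ := c.exists_ac q (inv_mem h'.N)
  have e := c.uniq (h'.mul k) (mul_inv_cancel n' ▸ c.ac_one)
  exact c.faith q m m' ((h.mul k).congr e)

theorem ac_inv {n : G} {H : E} (h : D.Ac co n (cj H)) (hH : det H = 1) :
    D.Ac co n⁻¹ (cj (adj H)) := h.inv fun M => by rw [cj_cj, (adj_mul_self H hH).1, cj_one]

theorem ac_conj {n s : G} {H K : E} (h : D.Ac co s (cj H)) (hH : det H = 1)
    (k : D.Ac co n (cj K)) : D.Ac co (s * n * s⁻¹) (cj (cj H K)) :=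
  ((h.mul k).mul (c.ac_inv q m m' h hH)).congr fun M => by rw [cj_cj, cj_cj]; rfl

theorem ac_conj' {n s : G} {H K : E} (h : D.Ac co s (cj H)) (hH : det H = 1)
    (k : D.Ac co n fun M => cj K (τ M)) :
    D.Ac co (s * n * s⁻¹) fun M => cj (H * K * τ H) (τ M) :=
  ((h.mul k).mul (c.ac_inv q m m' h hH)).congr fun M => by rw [τ_cj, cj_cj, cj_cj, adj_adj]

theorem nrm (A : Subgroup G) (h1 : A ≤ D.Y) (h2 : D.Y ≤ normalizer (A : Set G)) :
    A ≤ D.Q ∨ ∃ d ∈ A, d * D.b⁻¹ ∈ D.Q := by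
  have key : ∀ n ∈ A, ∀ K, det K = 1 → K ≠ 1 → D.Ac co n (cj K) → ∃ d ∈ A, d * D.b⁻¹ ∈ D.Q := by
    intro n hn K k k1 h
    obtain ⟨H, hH, e⟩ := nrm1 K k k1
    obtain ⟨s, hs, a⟩ := c.lift q m hH
    obtain ⟨H', hH', e'⟩ := nrm2 _ (by rw [det_mul, cj, det_mul, det_mul, det_adj, hH, k]; rfl) e
    obtain ⟨s', hs', a'⟩ := c.lift q m hH'
    have a1 := c.ac_conj q m m' a' hH'
      (((c.ac_conj q m m' a hH h).mul h).congr fun M => cj_cj _ _ M)
    rw [e'] at a1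
    exact ⟨_, conj_of_norm (h2 hs') (mul_mem (conj_of_norm (h2 hs) hn) hn),
      c.same q m m' a1 (c.ac_b q m)⟩
  refine or_iff_not_imp_left.2 fun h => ?_
  obtain ⟨n, hn, hQ⟩ := SetLike.not_le_iff_exists.1 h
  obtain ⟨K, k, a | a⟩ := c.stab q m m' (h1 hn)
  · exact key n hn K k (fun e => hQ (c.faith q m m' (a.congr fun M => by rw [e, cj_one]))) a
  · obtain ⟨H, hH, e⟩ := nrm3 K k
    obtain ⟨s, hs, a'⟩ := c.lift q m hH
    refine key _ (mul_mem (conj_of_norm (h2 hs) hn) hn) _ ?_ e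
      (((c.ac_conj' q m m' a' hH a).mul a).congr fun M => by rw [τ_cj, ττ, cj_cj])
    rw [det_mul, det_mul, det_mul, hH, k, det_τ H hH, det_τ _ (by rw [det_adj, k])]; rfl

variable {y : G} (hy : y ∈ D.Q) (e : co y = W)
include hy e

theorem yr : y * D.r = D.r * y := by rw [(c.form q m).2 y hy _ D.rQ, e, c.r]; rfl
theorem yy : y * y = D.t := (D.mem_zt.1 (sqQ q.comm y hy)).resolve_left (by
  rw [(c.form q m).1 y hy, e]; decide)

theorem sub (A : Subgroup G) (h1 : D.Ea ≤ A) (h2 : A ≤ D.Q ⊓ centralizer {D.r})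
    (h3 : D.Y ≤ normalizer (A : Set G)) :
    A = D.Q ⊓ centralizer {D.r} ∨ A = D.Q ⊓ centralizer {D.r} ⊓ centralizer {y} := by
  have f := (c.form q m).2
  have mem : ∀ x ∈ D.Q, ∀ x' ∈ A, co x = co x' → x ∈ A := fun x hx x' hx' h => by
    have := (c.eq_iff hx (h2 hx').1).1 h
    exact (mul_mem_cancel_right (inv_mem hx')).1 (zpowers_le.2 (h1 D.tE) this)
  have cr : ∀ x ∈ D.Q, x ∈ centralizer {D.r} ↔ bf 1 (co x) = false := fun x hx => by
    rw [mem_centralizer_singleton_iff, eq_comm, f _ D.rQ x hx, c.r]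
  have cy : ∀ x ∈ D.Q, x ∈ centralizer {y} ↔ bf W (co x) = false := fun x hx => by
    rw [mem_centralizer_singleton_iff, eq_comm, f _ hy x hx, e]
  have key : D.Q ⊓ centralizer {D.r} ⊓ centralizer {y} ≤ A := fun x hx => by
    obtain ⟨N, n1, n2⟩ := sub1 _ ((cr x hx.1.1).1 hx.1.2) ((cy x hx.1.1).1 hx.2)
    obtain ⟨s, hs, a⟩ := c.lift q m (K := T) (by decide)
    obtain ⟨z, hz, rfl⟩ := c.surj N
    obtain ⟨z', hz', e'⟩ := c.surj (co x + cj T (co z))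
    have z1 := h1 ((fx_a q.comm hz).1 ((c.fx (c.ac_a q m) hz).2 n1))
    have z2 := h1 ((fx_a q.comm hz').1 ((c.fx (c.ac_a q m) hz').2 (e' ▸ n2)))
    refine mem x hx.1.1 _ (mul_mem z2 (conj_of_norm (h3 hs) z1)) ?_
    rw [c.add _ hz' _ (D.conj_Q a.N hz), e', a.eq z hz, add_assoc, add_self, add_zero]
  by_cases h : A ≤ centralizer {y}
  · exact Or.inr (le_antisymm (le_inf h2 h) key)
  obtain ⟨x', hx', n'⟩ := SetLike.not_le_iff_exists.1 h
  refine Or.inl (le_antisymm h2 fun x hx => ?_)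
  by_cases h4 : x ∈ centralizer {y}
  · exact key ⟨hx, h4⟩
  refine (mul_mem_cancel_right hx').1 (key ⟨mul_mem hx (h2 hx'),
    (cy _ (mul_mem hx.1 (h2 hx').1)).2 ?_⟩)
  rw [cy x hx.1, Bool.not_eq_false] at h4
  rw [cy x' (h2 hx').1, Bool.not_eq_false] at n'
  rw [c.add _ hx.1 _ (h2 hx').1, bf_add, h4, n']
  rfl

theorem ab (A : Subgroup G) (h1 : A ≤ D.Q ⊓ centralizer {D.r}) (h2 : D.Y ≤ normalizer (A : Set G))
    (h3 : ∀ x ∈ A, ∀ x' ∈ A, x * x' = x' * x) : A ≤ closure {y, D.r} := fun x hx => by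
  have hQ := (h1 hx).1
  have y1 : y ∈ closure {y, D.r} := subset_closure (by simp)
  have r1 : D.r ∈ closure {y, D.r} := subset_closure (by simp)
  have mem : ∀ x' ∈ D.Q, x' ∈ closure {y, D.r} → co x = co x' → x ∈ closure {y, D.r} :=
    fun x' hx' k h => (mul_mem_cancel_right (inv_mem k)).1 (zpowers_le.2
      (c.yy q m m' hy e ▸ mul_mem y1 y1) ((c.eq_iff hQ hx').1 h))
  rcases ab1 (co x) (fun K k => by
    obtain ⟨s, hs, a⟩ := c.lift q m k
    rw [← a.eq x hQ, ← (c.form q m).2 x hQ _ (D.conj_Q a.N hQ)]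
    exact h3 x hx _ (conj_of_norm (h2 hs) hx)) with h | h | h | h
  · exact mem 1 (one_mem _) (one_mem _) (by rw [h, c.one])
  · exact mem _ D.rQ r1 (by rw [h, c.r])
  · exact mem _ hy y1 (by rw [h, e])
  · exact mem _ (mul_mem hy D.rQ) (mul_mem y1 r1) (by rw [h, c.add _ hy _ D.rQ, e, c.r])

theorem br1 {n : G} {φ : E → E} (a : D.Ac co n φ) (h : φ W = W + 1) :
    ∃ z ∈ zpowers D.t, ⁅n, y⁆ = D.r * z := by
  have := (c.eq_iff (D.conj_Q a.N hy) (mul_mem D.rQ hy)).1 (by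
    rw [a.eq y hy, c.add _ D.rQ _ hy, e, h, c.r, add_comm])
  refine ⟨_, this, ?_⟩
  rw [D.comm_zt D.rt this]; group

theorem br {n : G} (hn : n ∈ D.Y) : ∃ z ∈ zpowers D.t, ⁅n, y⁆ = z ∨ ⁅n, y⁆ = D.r * z := by
  obtain ⟨K, k, a | a⟩ := c.stab q m m' hn
  · exact ⟨_, (c.fx a hy).2 (by rw [e, (cjW K k).1]), Or.inl rfl⟩
  · obtain ⟨z, hz, h⟩ := c.br1 q m m' hy e a (cjW K k).2
    exact ⟨z, hz, Or.inr h⟩

theorem br_cen {n g : G} (hn : n ∈ D.Y) (hg : g ∈ D.Y) : g * ⁅n, y⁆ * g⁻¹ = ⁅n, y⁆ := by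
  have ht := N_t q.comm hg.1
  have hr : g * D.r * g⁻¹ = D.r := conj_eq_of_comm (mem_centralizer_singleton_iff.1 hg.2)
  obtain ⟨z, hz, h | h⟩ := c.br q m m' hy e hn
  · rw [h, D.conj_zt ht hz]
  · rw [h, ← conj_mul, hr, D.conj_zt ht hz]

theorem br_mul {n g : G} (hn : n ∈ D.Y) (hg : g ∈ D.Y) : ⁅g * n, y⁆ = ⁅n, y⁆ * ⁅g, y⁆ := by
  rw [Mc3.comm_mul_left, c.br_cen q m m' hy e hn hg]

theorem br_conj {n g : G} (hn : n ∈ D.Y) (hg : g ∈ D.Y) : ⁅g * n * g⁻¹, y⁆ = ⁅n, y⁆ := by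
  have h := c.br_mul q m m' hy e hg (mul_mem (mul_mem hg hn) (inv_mem hg))
  rw [inv_mul_cancel_right, c.br_mul q m m' hy e hn hg] at h
  have yY : ⁅g, y⁆ ∈ D.Y := by
    have rY : D.r ∈ D.Y := ⟨D.Q_le_N D.rQ, mem_centralizer_singleton_iff.2 rfl⟩
    obtain ⟨z, hz, h'⟩ := c.br q m m' hy e hg
    have zY : z ∈ D.Y := ⟨D.Q_le_N (D.zt_le hz),
      mem_centralizer_singleton_iff.2 (D.comm_zt D.rt hz).symm⟩
    rcases h' with h' | h' <;> rw [h']
    exacts [zY, mul_mem rY zY]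
  rw [← comm_of_conj_eq (c.br_cen q m m' hy e hn yY)] at h
  exact (mul_left_cancel h).symm

theorem br_inv {x : G} (hx : x ∈ D.Y) (h1 : x * x = 1) (h2 : x ≠ 1) (h3 : x ≠ D.r)
    (h4 : ¬ IsConj D.t x) (h5 : ¬ IsConj D.t (x * D.r)) : ⁅x, y⁆ = D.t ∨ ⁅x, y⁆ = ⁅D.x0, y⁆ := by
  have xr : x * D.r = D.r * x := mem_centralizer_singleton_iff.1 hx.2
  have x0Y : D.x0 ∈ D.Y := ⟨D.x0N, mem_centralizer_singleton_iff.2 D.xr⟩
  have cj' : ∀ {g a b : G}, g * a * g⁻¹ = b → IsConj D.t b → IsConj D.t a := fun h k =>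
    k.trans (isConj_iff.2 ⟨_, h⟩).symm
  by_cases hQ : x ∈ D.Q
  · have d1 := c.det_one q m hQ h1 (fun h => (D.mem_zt.1 h).elim h2 fun h => h4 (h ▸ .refl _)) h4
    have d2 := c.det_one q m (mul_mem hQ D.rQ)
      (by rw [(Commute.symm xr).mul_mul_mul_comm, h1, D.rr, one_mul])
      (fun h => (D.mem_zt.1 h).elim (fun h => h3 (by rw [eq_inv_of_mul_eq_one_left h, D.r_inv]))
        fun h => h5 (h ▸ .refl _)) h5
    rw [c.add _ hQ _ D.rQ, c.r] at d2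
    refine Or.inl ((D.mem_zt.1 (cQ q.comm x hQ y hy)).resolve_left ?_)
    rw [commutatorElement_eq_one_iff_mul_comm, (c.form q m).2 x hQ y hy, e, bfW _ d1 d2]
    decide
  obtain ⟨K, k, a | a⟩ := c.stab q m m' hx
  · exfalso
    obtain ⟨n, hn, d, hd, h⟩ := m'.inv x hx.1 hQ (h1 ▸ one_mem _)
    have nt := N_t q.comm hn
    have sq : ∀ d : G, d * D.t = D.t * d → n * x * n⁻¹ * d⁻¹ ∈ zpowers D.t → d * d = 1 :=
      fun d dt h => by
      have e1 : n * x * n⁻¹ * (n * x * n⁻¹) = 1 := by rw [conj_mul, h1]; group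
      rcases D.mem_zt.1 h with h | h
      · rwa [mul_inv_eq_one.1 h] at e1
      · rwa [mul_inv_eq_iff_eq_mul.1 h, (Commute.mul_mul_mul_comm dt _ _), D.tt, one_mul] at e1
    rcases hd with rfl | rfl | rfl | rfl
    · exact D.t1 (D.ff.symm.trans (sq _ D.ft h))
    · exact D.t1 (D.ww.symm.trans (sq _ D.wt h))
    · rcases D.mem_zt.1 h with h | h
      · exact h4 (cj' (mul_inv_eq_one.1 h) D.tu)
      · exact h4 (cj' (mul_inv_eq_iff_eq_mul.1 h) (D.ut ▸ D.tut))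
    · have hy' := D.conj_Q hn hy
      have f1 := (D.fx_conj nt).2 ((c.fx a hy).2 (by rw [e, (cjW K k).1]))
      rw [fx_congr q.comm (mul_mem (mul_mem hn hx.1) (inv_mem hn)) (D.zt_le h) hy',
        c.fx (c.ac_x0 q m m') hy'] at f1
      have f2 := ((c.form q m).1 _ hy').2 (fix_τ _ f1)
      rw [conj_mul, c.yy q m m' hy e, conj_eq_one_iff] at f2
      exact D.t1 f2
  · have e1 := c.uniq (a.mul a) (h1 ▸ c.ac_one)
    obtain ⟨H, hH, e2⟩ := swp K k (e1 S) (e1 T)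
    obtain ⟨s, hs, a'⟩ := c.lift q m hH
    have a1 : D.Ac co (s * x * s⁻¹) τ := (c.ac_conj' q m m' a' hH a).congr fun M => by
      rw [e2, cj_one]
    have hd := c.same q m m' a1 (c.ac_x0 q m m')
    have sr : s * D.r * s⁻¹ = D.r := conj_eq_of_comm (mem_centralizer_singleton_iff.1 hs.2)
    rw [← c.br_conj q m m' hy e hx hs]
    have k1 : s * x * s⁻¹ * (s * x * s⁻¹) = 1 := by rw [conj_mul, h1]; group
    have k4 : ¬ IsConj D.t (s * x * s⁻¹) := fun h => h4 (cj' rfl h)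
    have k5 : ¬ IsConj D.t (s * x * s⁻¹ * D.r) := fun h => h5 (cj' (by rw [← conj_mul, sr]) h)
    generalize s * x * s⁻¹ = x' at *
    obtain ⟨p, hp, h⟩ := m'.free _ D.x0N (by simpa using q.ninj 1 1) (D.xx ▸ one_mem _) _ hd (by
      have := sqQ q.comm _ (inv_mem hd)
      rw [Fx]; convert this using 1
      rw [commutatorElement_def, mul_inv_rev, inv_inv, inv_eq_of_mul_eq_one_right k1, D.x0_inv]
      simp only [mul_assoc]
      rw [← mul_assoc D.x0 D.x0, D.xx, one_mul])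
    rw [show ⁅p, D.x0⁆ * (x' * D.x0⁻¹)⁻¹ = p * D.x0 * p⁻¹ * x'⁻¹ by group] at h
    have pt := D.Q_t hp
    rcases D.mem_zt.1 h with h | h
    · obtain rfl := mul_inv_eq_one.1 h
      rcases D.mem_zt.1 (cQ q.comm p hp _ D.rQ) with h' | h'
      · exact Or.inr (c.br_conj q m m' hy e x0Y ⟨D.Q_le_N hp, mem_centralizer_singleton_iff.2
          (commutatorElement_eq_one_iff_mul_comm.1 h')⟩)
      · refine absurd (D.txrt.trans (isConj_iff.2 ⟨p, ?_⟩)) k5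
        rw [← conj_mul, ← conj_mul, conj_eq_of_comm pt, show p * D.r * p⁻¹ = ⁅p, D.r⁆ * D.r by group,
          h', ← D.rt, mul_assoc, mul_assoc D.r, D.tt, mul_one]
    · refine absurd (D.txt.trans (isConj_iff.2 ⟨p, ?_⟩)) k4
      rw [← conj_mul, conj_eq_of_comm pt, mul_inv_eq_iff_eq_mul.1 h]
      have : x' * D.t = D.t * x' := N_t q.comm a1.N
      rw [← this, mul_assoc, D.tt, mul_one]

theorem lam : ∃ Y0 : Subgroup G, D.r ∈ Y0 ∧
    (∀ g ∈ D.Y, ∀ g' ∈ D.Y, g ∉ Y0 → g' ∉ Y0 → g * g' ∈ Y0) ∧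
    ∀ x ∈ D.Y, x * x = 1 → x ≠ 1 → x ≠ D.r → ¬ IsConj D.t x → ¬ IsConj D.t (x * D.r) →
      x ∉ Y0 := by
  obtain ⟨z, hz, h0⟩ := c.br1 q m m' hy e (c.ac_x0 q m m') (by decide)
  obtain ⟨d, hd, d1, d2⟩ : ∃ d : G, (d = D.r ∨ d = D.r * D.t) ∧ ⁅D.x0, y⁆ = d * D.t ∧
      d * d = 1 := by
    rcases D.mem_zt.1 hz with rfl | rfl
    · exact ⟨_, Or.inr rfl, by rw [h0, mul_assoc, D.tt],
        by rw [(Commute.symm D.rt).mul_mul_mul_comm, D.rr, D.tt, one_mul]⟩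
    · exact ⟨_, Or.inl rfl, h0, D.rr⟩
  have dn : d ∉ zpowers D.t := by
    rcases hd with rfl | rfl
    exacts [D.r_notMem, fun h => D.r_notMem ((mul_mem_cancel_right (mem_zpowers _)).1 h)]
  have dt : D.t * d = d * D.t := by
    rcases hd with rfl | rfl
    exacts [D.rt.symm, by rw [← mul_assoc, D.rt]]
  have cs : ∀ n ∈ D.Y, ⁅n, y⁆ ∉ zpowers d → ⁅n, y⁆ = D.t ∨ ⁅n, y⁆ = d * D.t := fun n hn h => by
    rw [mem_zp2 d2, not_or] at h
    obtain ⟨z, hz, h'⟩ := c.br q m m' hy e hn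
    rcases D.mem_zt.1 hz with rfl | rfl <;> rcases h' with h' | h' <;> rcases hd with rfl | rfl <;>
      simp_all [mul_assoc, D.tt]
  refine ⟨{ carrier := {n | n ∈ D.Y ∧ ⁅n, y⁆ ∈ zpowers d}
            one_mem' := ⟨one_mem _, by simp⟩
            mul_mem' := fun h h' => ⟨mul_mem h.1 h'.1, by
              rw [c.br_mul q m m' hy e h'.1 h.1]; exact mul_mem h'.2 h.2⟩
            inv_mem' := fun {n} h => ⟨inv_mem h.1, by
              have := c.br_mul q m m' hy e h.1 (inv_mem h.1)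
              rw [inv_mul_cancel, commutatorElement_one_left] at this
              rw [← inv_eq_of_mul_eq_one_right this.symm]; exact inv_mem h.2⟩ },
    ⟨⟨D.Q_le_N D.rQ, mem_centralizer_singleton_iff.2 rfl⟩, ?_⟩, fun g hg g' hg' h h' =>
      ⟨mul_mem hg hg', ?_⟩, fun x hx h1 h2 h3 h4 h5 h => ?_⟩
  · rw [commutatorElement_eq_one_iff_mul_comm.2 (c.yr q m m' hy e).symm]; exact one_mem _
  · rw [c.br_mul q m m' hy e hg' hg, mem_zp2 d2]
    rcases cs g hg fun k => h ⟨hg, k⟩ with a | a <;> rcases cs g' hg' fun k => h' ⟨hg', k⟩ with b | b <;>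
      rw [a, b]
    · exact Or.inl D.tt
    · right; rw [mul_assoc, D.tt, mul_one]
    · right; rw [← mul_assoc, dt, mul_assoc, D.tt, mul_one]
    · left; rw [(Commute.mul_mul_mul_comm dt _ _), d2, D.tt, one_mul]
  · have h6 := (mem_zp2 d2).1 h.2
    rcases c.br_inv q m m' hy e hx h1 h2 h3 h4 h5 with a | a <;> rw [a] at h6
    · exact h6.elim D.t1 fun h => dn (h ▸ mem_zpowers _)
    · rw [d1] at h6
      exact h6.elim (fun h => dn (eq_inv_of_mul_eq_one_left h ▸ inv_mem (mem_zpowers _)))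
        fun h => D.t1 (mul_eq_left.1 h)

end Co

end TD

theorem TD.QD.m2 {G : Type u} [Group G] [Finite G] {D : TD G} (q : D.QD) (m : D.M0) (m' : D.M1) :
    ∃ y, D.M2 y := by
  obtain ⟨co, c⟩ := q.exists_co m
  obtain ⟨y, hy, e⟩ := c.surj W
  refine ⟨y, (TD.fx_b q.comm hy).1 ((c.fx (c.ac_b q m) hy).2 (by rw [e]; decide)),
    c.yy q m m' hy e, c.yr q m m' hy e, ?_, fun n hn => ?_, c.lam q m m' hy e, c.nrm q m m',
    fun A h1 _ => c.sub q m m' hy e A h1, c.ab q m m' hy e⟩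
  · rw [Ne, (c.form q m).2 y hy _ D.vQ, e, c.v q m]; decide
  · obtain ⟨z, hz, h⟩ := c.br q m m' hy e hn
    have h1 : z ∈ closure {D.r, D.t} := zpowers_le.2 (subset_closure (by simp)) hz
    rcases h with h | h <;> rw [h]
    exacts [h1, mul_mem (subset_closure (by simp)) h1]

end Cfsg.Lib.HN3
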