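import Cfsg.Agent.HN3.StabCo

/-!
The action of the normaliser of `Q` in coordinates.
-/

set_option autoImplicit false
set_option linter.unusedSectionVars false

namespace Cfsg.Lib.HN3

open Subgroup Cfsg.Lib.Perm M4
open scoped commutatorElement

universe u

namespace TD

variable {G : Type u} [Group G] {D : TD G} {co : G → E}

/-- `n` acts on the coordinates as `φ`. -/
structure Ac (D : TD G) (co : G → E) (n : G) (φ : E → E) : Prop where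
  N : n ∈ D.N
  eq : ∀ x ∈ D.Q, co (n * x * n⁻¹) = φ (co x)

theorem Ac.mul {n n' : G} {φ ψ : E → E} (h : D.Ac co n φ) (h' : D.Ac co n' ψ) :
    D.Ac co (n * n') fun M => φ (ψ M) := ⟨mul_mem h.N h'.N, fun x hx => by
  rw [← h'.eq x hx, ← h.eq _ (D.conj_Q h'.N hx)]; congr 1; group⟩
theorem Ac.congr {n : G} {φ ψ : E → E} (h : D.Ac co n φ) (e : ∀ M, φ M = ψ M) : D.Ac co n ψ :=
  ⟨h.N, fun x hx => by rw [h.eq x hx, e]⟩
theorem Ac.inv {n : G} {φ ψ : E → E} (h : D.Ac co n φ) (e : ∀ M, ψ (φ M) = M) : D.Ac co n⁻¹ ψ :=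
  ⟨inv_mem h.N, fun x hx => by
    rw [← e (co _), ← h.eq _ (D.conj_Q (inv_mem h.N) hx)]; congr 2; group⟩

theorem b_eq : D.b = D.κ s5 * D.κ' s5⁻¹ := by
  rw [map_inv, D.κs, D.κ's, eq_mul_inv_iff_mul_eq, D.cab.inv_right.eq, D.ab, ← mul_assoc,
    mul_left_inj, eq_inv_iff_mul_eq_one, ← D.b3']
  simp [pow_succ]
theorem a_eq : D.a = D.κ s5⁻¹ * D.κ' s5⁻¹ := by
  rw [map_inv, map_inv, D.κs, D.κ's, ← mul_inv_rev, D.zs_eq, eq_inv_iff_mul_eq_one, ← D.a3']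
  simp [pow_succ, mul_assoc]

namespace Co

variable (c : D.Co co)
include c

theorem one : co 1 = 0 := (c.ker 1 (one_mem _)).2 (one_mem _)
theorem eq_iff {x y : G} (hx : x ∈ D.Q) (hy : y ∈ D.Q) : co x = co y ↔ x * y⁻¹ ∈ zpowers D.t := by
  have h := c.add _ (mul_mem hx (inv_mem hy)) _ hy
  rw [inv_mul_cancel_right] at h
  rw [← c.ker _ (mul_mem hx (inv_mem hy)), h, add_eq_right]
theorem uniq {n : G} {φ ψ : E → E} (h : D.Ac co n φ) (h' : D.Ac co n ψ) (M : E) : φ M = ψ M := by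
  obtain ⟨x, hx, rfl⟩ := c.surj M
  rw [← h.eq x hx, h'.eq x hx]
theorem fx {n x : G} {φ : E → E} (h : D.Ac co n φ) (hx : x ∈ D.Q) :
    D.Fx n x ↔ φ (co x) = co x := by
  rw [← h.eq x hx, c.eq_iff (D.conj_Q h.N hx) hx]; rfl
theorem ac_add {n : G} {φ : E → E} (h : D.Ac co n φ) (M N : E) : φ (M + N) = φ M + φ N := by
  obtain ⟨x, hx, rfl⟩ := c.surj M
  obtain ⟨y, hy, rfl⟩ := c.surj N
  rw [← c.add x hx y hy, ← h.eq _ (mul_mem hx hy), ← conj_mul,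
    c.add _ (D.conj_Q h.N hx) _ (D.conj_Q h.N hy), h.eq x hx, h.eq y hy]
theorem ac_r {n : G} {φ : E → E} (h : D.Ac co n φ) (e : n * D.r = D.r * n) : φ 1 = 1 := by
  rw [← c.r, ← h.eq _ D.rQ, conj_eq_of_comm e]
theorem ac_one : D.Ac co 1 fun M => M := ⟨one_mem _, fun x _ => by simp⟩

variable [Finite G] (q : D.QD)
include q

theorem ac_Q {n : G} (h : n ∈ D.Q) : D.Ac co n fun M => M := ⟨D.Q_le_N h, fun x hx =>
  (c.eq_iff (D.conj_Q (D.Q_le_N h) hx) hx).2 (cQ q.comm n h x hx)⟩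
theorem ac_κ (g : SL25) : D.Ac co (D.κ g) fun M => ρ g * M := ⟨q.nK g, c.left g⟩
theorem exists_ac {n : G} (h : n ∈ D.N) : ∃ φ, D.Ac co n φ := by
  choose l hl e using c.surj
  refine ⟨fun M => co (n * l M * n⁻¹), h, fun x hx => ?_⟩
  have := (c.eq_iff hx (hl _)).1 (e _).symm
  rw [c.eq_iff (D.conj_Q h hx) (D.conj_Q h (hl _)), conj_inv, conj_mul,
    D.conj_zt (N_t q.comm h) this]
  exact this

variable (m : D.M0)
include m

theorem det_one {e : G} (he : e ∈ D.Q) (h1 : e * e = 1) (h2 : e ∉ zpowers D.t)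
    (h3 : ¬ IsConj D.t e) : det (co e) = 1 := by
  obtain ⟨x, hx⟩ := m.trA e he h1 h2 h3
  rw [← (c.eq_iff (D.conj_Q (q.nK x) D.rQ) he).2 hx, c.left x _ D.rQ, c.r, mul_one, (ρ_mul x).1]

theorem exists_K (y : SL25) : ∃ K, det K = 1 ∧ D.Ac co (D.κ' y) fun M => M * K := by
  obtain ⟨φ, h⟩ := c.exists_ac q (q.nK' y)
  have e : ∀ g M, ρ g * φ M = φ (ρ g * M) := fun g => c.uniq ((c.ac_κ q g).mul h) (by
    have := ((c.ac_Q q (q.KK g y)).mul h).mul (c.ac_κ q g)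
    rwa [show ⁅D.κ g, D.κ' y⁆ * D.κ' y * D.κ g = D.κ g * D.κ' y by group] at this)
  refine ⟨φ 1, ?_, h.congr (E_ext (c.ac_add h) (fun M N => add_mul _ _ _) fun i => ?_)⟩
  · rw [← c.r, ← h.eq _ D.rQ]
    refine c.det_one q m (D.conj_Q h.N D.rQ) (by rw [conj_mul, D.rr]; group)
      (fun h1 => D.r_notMem (D.zt_of_conj (D.κ'_t y) h1)) fun h1 => D.tr (h1.trans ?_)
    exact (isConj_iff.2 ⟨_, rfl⟩ : IsConj D.r _).symm
  · rw [← (ρ_gl i).1, e, mul_one]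

theorem ac_z : D.Ac co (D.κ' s5⁻¹) fun M => M * adj S := by
  obtain ⟨K, -, h⟩ := c.exists_K q m s5⁻¹
  have := c.ac_r ((c.ac_κ q s5).mul h) (b_eq (D := D) ▸ D.bEb _ D.rEb)
  rw [ρ_s5.1, one_mul] at this
  rwa [eq_adj (by decide) this] at h
theorem ac_b : D.Ac co D.b (cj S) := b_eq (D := D) ▸ ((c.ac_κ q s5).mul (c.ac_z q m)).congr
  fun M => by rw [ρ_s5.1, cj, mul_assoc]
theorem ac_a : D.Ac co D.a fun M => adj S * M * adj S :=
  a_eq (D := D) ▸ ((c.ac_κ q s5⁻¹).mul (c.ac_z q m)).congr fun M => by rw [ρ_s5.2.1, mul_assoc]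
theorem v : co D.v = S := by
  rw [← D.ar, (c.ac_a q m).eq _ D.rQ, c.r]; decide

theorem ac_x0' : D.Ac co D.x0 adj ∨ D.Ac co D.x0 τ := by
  obtain ⟨φ, h⟩ := c.exists_ac q D.x0N
  have h1 := c.ac_r h D.xr
  have e : ∀ g y K, D.x0 * D.κ g * D.x0⁻¹ = D.κ' y → (D.Ac co (D.κ' y) fun M => M * K) →
      ∀ M, φ (ρ g * M) = φ M * K := fun g y K e k =>
    c.uniq (h.mul (c.ac_κ q g)) (by rw [mul_inv_eq_iff_eq_mul.1 e]; exact k.mul h)
  have e2 : ∀ g, det (φ (ρ g)) = 1 ∧ ∀ M, φ (ρ g * M) = φ M * φ (ρ g) := fun g => by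
    obtain ⟨y, hy⟩ := D.x0_κ g
    obtain ⟨K, k1, k2⟩ := c.exists_K q m y
    have := e g y K hy k2 1
    rw [mul_one, h1, one_mul] at this
    rw [this]; exact ⟨k1, e g y K hy k2⟩
  refine (anti (c.ac_add h) (fun M N => ?_) h1 ?_ (c.uniq (h.mul h) (D.xx ▸ c.ac_one)) ?_).imp
    h.congr h.congr
  · refine E_ext (φ := fun M => φ (M * N)) (ψ := fun M => φ N * φ M) (fun _ _ => ?_)
      (fun _ _ => ?_) (fun i => ?_) M
    · rw [add_mul, c.ac_add h]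
    · rw [c.ac_add h, mul_add]
    · rw [← (ρ_gl i).1, (e2 _).2]
  · have := e s5 s5⁻¹ _ (by rw [D.κs, D.xs, map_inv, D.κ's]) (c.ac_z q m) 1
    rwa [mul_one, h1, one_mul, ρ_s5.1] at this
  · exact (show ρ (gl 2) = T from (ρ_gl 2).1) ▸ (e2 (gl 2)).1

theorem surj_K {K : E} (hK : det K = 1) : ∃ y, D.Ac co (D.κ' y) fun M => M * K := by
  have key : ∀ φ, D.Ac co D.x0 φ → det (φ K) = 1 → (∀ M N, φ (M * N) = φ N * φ M) →
      (∀ M, φ (φ M) = M) → ∃ y, D.Ac co (D.κ' y) fun M => M * K := fun φ h h1 h2 h3 => by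
    obtain ⟨g, e⟩ := ρ_surj _ h1
    obtain ⟨y, hy⟩ := D.x0_κ g
    exact ⟨y, hy ▸ ((h.mul (c.ac_κ q g)).mul (h.inv h3)).congr fun M => by rw [h2, h3, e, h3]⟩
  rcases c.ac_x0' q m with h | h
  exacts [key _ h (by rw [det_adj, hK]) adj_mul adj_adj, key _ h (det_τ K hK) τ_mul ττ]

theorem form : (∀ x ∈ D.Q, x * x = 1 ↔ qf (co x) = false) ∧
    ∀ x ∈ D.Q, ∀ y ∈ D.Q, x * y = y * x ↔ bf (co x) (co y) = false := by
  classical
  choose l hl e using c.surj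
  have e0 : ∀ x ∈ D.Q, ∃ z ∈ zpowers D.t, x = z * l (co x) := fun x hx =>
    ⟨_, (c.eq_iff hx (hl _)).1 (e _).symm, by group⟩
  have zc : ∀ x ∈ D.Q, ∀ z ∈ zpowers D.t, Commute x z := fun x hx z hz => D.comm_zt (D.Q_t hx) hz
  have e1 : ∀ x ∈ D.Q, l (co x) * l (co x) = x * x := fun x hx => by
    obtain ⟨z, hz, h⟩ := e0 x hx
    conv_rhs => rw [h]
    rw [(zc _ (hl _) z hz).mul_mul_mul_comm]
    rcases D.mem_zt.1 hz with rfl | rfl <;> simp [D.tt]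
  have e2 : ∀ x ∈ D.Q, ∀ y ∈ D.Q, ⁅l (co x), l (co y)⁆ = ⁅x, y⁆ := fun x hx y hy => by
    obtain ⟨z, hz, h⟩ := e0 x hx
    obtain ⟨z', hz', h'⟩ := e0 y hy
    conv_rhs => rw [h, h']
    rw [Mc3.comm_mul_left, Mc3.comm_mul_right,
      commutatorElement_eq_one_iff_commute.2 (zc _ (hl _) _ hz'),
      commutatorElement_eq_one_iff_commute.2 (zc _ (mul_mem (D.zt_le hz') (hl _)) _ hz).symm,
      one_mul, mul_one, D.conj_zt (D.Q_t (D.zt_le hz')) (cQ q.comm _ (hl _) _ (hl _)),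
      D.conj_zt (D.Q_t (D.zt_le hz)) (cQ q.comm _ (hl _) _ (hl _))]
  have ε : ∀ g ∈ zpowers D.t, ∀ g' ∈ zpowers D.t,
      decide (g * g' ≠ 1) = xor (decide (g ≠ 1)) (decide (g' ≠ 1)) := fun g h g' h' => by
    rcases D.mem_zt.1 h with rfl | rfl <;> rcases D.mem_zt.1 h' with rfl | rfl <;>
      simp [D.tt, D.t1]
  have hi : ∀ n φ, D.Ac co n φ → ∀ M, decide (l (φ M) * l (φ M) ≠ 1) = decide (l M * l M ≠ 1) :=
    fun n φ h M => by
    conv_lhs => rw [← e M, ← h.eq _ (hl M), e1 _ (D.conj_Q h.N (hl M)), conj_mul]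
    simp only [ne_eq, conj_eq_one_iff]
  rcases quad (σ := fun M => decide (l M * l M ≠ 1)) (β := fun M N => decide (⁅l M, l N⁆ ≠ 1))
    (fun K k => by obtain ⟨g, rfl⟩ := ρ_surj K k; exact hi _ _ (c.ac_κ q g))
    (fun K k => by obtain ⟨y, h⟩ := c.surj_K q m k; exact hi _ _ h)
    (by rw [← c.r, e1 _ D.rQ, D.rr]; simp) (by rw [← c.one, e1 _ (one_mem _)]; simp)
    (fun M N => by
      have h1 := sqQ q.comm _ (hl M)
      have h2 := sqQ q.comm _ (hl N)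
      have h3 := cQ q.comm _ (hl M) _ (hl N)
      rw [← ε _ h1 _ h2, ← ε _ (mul_mem h1 h2) _ h3]
      conv_lhs => rw [← e M, ← e N, ← c.add _ (hl M) _ (hl N), e1 _ (mul_mem (hl M) (hl N))]
      rw [show l M * l N * (l M * l N) = ⁅l M, l N⁆ * (l N * (l M * l M) * l N) by group,
        (zc _ (hl N) _ h1).eq, mul_assoc (l M * l M), (zc _ (D.zt_le h3) _ (mul_mem h1 h2)).eq])
    (fun M N P => by
      rw [← ε _ (cQ q.comm _ (hl M) _ (hl N)) _ (cQ q.comm _ (hl M) _ (hl P))]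
      conv_lhs => rw [← e M, ← e N, ← e P, ← c.add _ (hl N) _ (hl P),
        e2 _ (hl M) _ (mul_mem (hl N) (hl P)), Mc3.comm_mul_right,
        D.conj_zt (D.Q_t (hl N)) (cQ q.comm _ (hl M) _ (hl P))]) with h | ⟨h1, h2⟩
  · refine absurd (ndQ q.comm _ D.rQ fun y hy => ?_) D.r_notMem
    simpa [e2 _ D.rQ _ hy, commutatorElement_eq_one_iff_mul_comm] using h (co D.r) (co y)
  · refine ⟨fun x hx => ?_, fun x hx y hy => ?_⟩
    · rw [← h1, e1 x hx]; simp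
    · rw [← h2, e2 x hx y hy]; simp [commutatorElement_eq_one_iff_mul_comm]

theorem ac_x0 (m' : D.M1) : D.Ac co D.x0 τ := (c.ac_x0' q m).resolve_left fun h => by
  obtain ⟨x, hx, e⟩ := c.surj ⟨0, 1, 0, 0⟩
  obtain ⟨y, hy, e'⟩ := c.surj ⟨0, 0, .w, 0⟩
  have := m'.iso _ D.x0N (by simpa using q.ninj 1 1) (D.xx ▸ one_mem _) x hx y hy
    ((c.fx h hx).2 (by rw [e]; rfl)) ((c.fx h hy).2 (by rw [e']; rfl))
  rw [(c.form q m).2 x hx y hy, e, e'] at this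
  exact absurd this (by decide)

theorem lift {K : E} (hK : det K = 1) : ∃ n ∈ D.Y, D.Ac co n (cj K) := by
  obtain ⟨g, rfl⟩ := ρ_surj K hK
  obtain ⟨y, h⟩ := c.surj_K q m (K := adj (ρ g)) (by rw [det_adj, hK])
  have h1 : D.Ac co _ (cj (ρ g)) := ((c.ac_κ q g).mul h).congr fun M => by rw [cj, mul_assoc]
  generalize D.κ g * D.κ' y = n at h1
  have h2 := (c.fx h1 D.rQ).2 (by rw [c.r, cj, mul_one, (adj_mul_self _ hK).2])
  rcases D.mem_zt.1 h2 with e | e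
  · exact ⟨n, ⟨h1.N, mem_centralizer_singleton_iff.2 (commutatorElement_eq_one_iff_mul_comm.1 e)⟩,
      h1⟩
  · obtain ⟨p, hp, e'⟩ := conj_mul_t q.comm D.rQ D.r_notMem
    have h3 := (c.ac_Q q hp).mul h1
    refine ⟨p * n, ⟨h3.N, mem_centralizer_singleton_iff.2 (comm_of_conj_eq ?_)⟩, h3⟩
    rw [show p * n * D.r * (p * n)⁻¹ = p * ⁅n, D.r⁆ * p⁻¹ * (p * D.r * p⁻¹) by group, e, e',
      conj_eq_of_comm (D.Q_t hp), ← mul_assoc, ← D.rt, mul_assoc, D.tt, mul_one]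

variable (m' : D.M1)
include m'

theorem gen {n : G} (hn : n ∈ D.N) : ∃ p ∈ D.Q, ∃ x y K, det K = 1 ∧
    (D.Ac co (D.κ' y) fun M => M * K) ∧
    (n = p * D.κ x * D.κ' y ∧ (D.Ac co n fun M => ρ x * (M * K)) ∨
      D.Ac co n fun M => ρ x * (τ M * K)) := by
  obtain ⟨p, hp, x, y, e⟩ := m.gen n hn
  obtain ⟨K, k, h⟩ := c.exists_K q m y
  have h1 := ((c.ac_Q q hp).mul (c.ac_κ q x)).mul h
  refine ⟨p, hp, x, y, K, k, h, ?_⟩
  rcases e with rfl | rfl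
  exacts [Or.inl ⟨rfl, h1⟩, Or.inr (h1.mul (c.ac_x0 q m m'))]

theorem stab {n : G} (hn : n ∈ D.Y) :
    ∃ K, det K = 1 ∧ (D.Ac co n (cj K) ∨ D.Ac co n fun M => cj K (τ M)) := by
  obtain ⟨p, -, x, y, K, -, -, h⟩ := c.gen q m m' hn.1
  have hr := mem_centralizer_singleton_iff.1 hn.2
  refine ⟨ρ x, (ρ_mul x).1, h.imp (fun h => ?_) fun h => ?_⟩
  · have := c.ac_r h.2 hr
    rw [one_mul] at this
    exact h.2.congr fun M => by rw [eq_adj (ρ_mul x).1 this, cj, mul_assoc]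
  · have := c.ac_r h hr
    rw [show τ 1 = 1 from rfl, one_mul] at this
    exact h.congr fun M => by rw [eq_adj (ρ_mul x).1 this, cj, mul_assoc]

theorem faith {n : G} (h : D.Ac co n fun M => M) : n ∈ D.Q := by
  obtain ⟨p, hp, x, y, K, -, k, h1⟩ := c.gen q m m' h.N
  rcases h1 with ⟨rfl, h1⟩ | h1
  · have e := c.uniq h1 h
    have e1 := e 1
    rw [one_mul] at e1
    have e2 := eq_adj (ρ_mul x).1 e1
    have e3 := cen _ (ρ_mul x).1 (by rw [cj, mul_assoc, ← e2, e]) (by rw [cj, mul_assoc, ← e2, e])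
    rw [e3, one_mul] at e1
    obtain ⟨x', hx⟩ := D.x0_κ' y
    have f1 := m.reg x ((c.fx (c.ac_κ q x) D.rQ).2 (by rw [e3, one_mul]))
    have f2 := m.reg x' (by
      rw [← hx, ← conj_eq_of_comm D.xr, D.fx_conj D.xt, c.fx k D.rQ, e1, mul_one])
    refine mul_mem (mul_mem hp ((κ_mem_Q q.comm).2 f1)) ?_
    simpa [← hx, mul_assoc] using D.conj_Q' D.x0N ((κ_mem_Q q.comm).2 f2)
  · have e := c.uniq h1 h
    have e1 := e 1
    rw [show τ 1 = 1 from rfl, one_mul] at e1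
    have e2 := e W
    rw [eq_adj (ρ_mul x).1 e1, ← mul_assoc] at e2
    exact absurd (e2.symm.trans (cjW _ (ρ_mul x).1).2) (by decide)

end Co

end TD

end Cfsg.Lib.HN3
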