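import Cfsg.Agent.HN3.Defs
import Mathlib.Algebra.Ring.MinimalAxioms

/-!
Two by two matrices over the field with four elements, in a form suited to computation.
-/

set_option autoImplicit false

namespace Cfsg.Lib.HN3.M4

open Cfsg.Lib.Perm Cfsg.Lib.Mc3

/-- The field with four elements. -/
inductive F4 | o | i | w | v

namespace F4

/-- Addition. -/
def add : F4 → F4 → F4
  | o, x => x
  | i, o => i | i, i => o | i, w => v | i, v => w
  | w, o => w | w, i => v | w, w => o | w, v => i
  | v, o => v | v, i => w | v, w => i | v, v => o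
/-- Multiplication. -/
def mul : F4 → F4 → F4
  | o, _ => o
  | i, x => x
  | w, o => o | w, i => w | w, w => v | w, v => i
  | v, o => o | v, i => v | v, w => i | v, v => w
/-- The Frobenius map. -/
def fr : F4 → F4 | o => o | i => i | w => v | v => w
/-- The trace to the prime field. -/
def tr : F4 → Bool | o => false | i => false | w => true | v => true
/-- Equality test. -/
def eqb : F4 → F4 → Bool
  | o, o => true | i, i => true | w, w => true | v, v => true | _, _ => false
/-- Decoding. -/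
def dec (n : ℕ) : F4 := match n % 4 with | 0 => o | 1 => i | 2 => w | _ => v

theorem eqb_iff (a b : F4) : eqb a b = true ↔ a = b := by cases a <;> cases b <;> simp [eqb]
instance instDec : DecidableEq F4 := fun a b => decidable_of_iff _ (eqb_iff a b)
theorem fa {p : F4 → Prop} : (∀ x, p x) ↔ p o ∧ p i ∧ p w ∧ p v :=
  ⟨fun h => ⟨h _, h _, h _, h _⟩, fun h x => by cases x; exacts [h.1, h.2.1, h.2.2.1, h.2.2.2]⟩
theorem ex {p : F4 → Prop} : (∃ x, p x) ↔ p o ∨ p i ∨ p w ∨ p v := by
  rw [← not_iff_not]; simp only [not_exists, not_or, fa]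
instance instAll {p : F4 → Prop} [DecidablePred p] : Decidable (∀ x, p x) :=
  decidable_of_iff' _ fa
instance instEx {p : F4 → Prop} [DecidablePred p] : Decidable (∃ x, p x) := decidable_of_iff' _ ex
instance instAdd : Add F4 := ⟨add⟩
instance instMul : Mul F4 := ⟨mul⟩
instance instNeg : Neg F4 := ⟨fun x => x⟩
instance instZero : Zero F4 := ⟨o⟩
instance instOne : One F4 := ⟨i⟩
instance instRing : CommRing F4 := CommRing.ofMinimalAxioms (by decide) (by decide) (by decide)
  (by decide) (by decide) (by decide) (by decide)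
theorem add_self : ∀ a : F4, a + a = 0 := by decide
theorem two : (2 : F4) = 0 := by rw [← one_add_one_eq_two, add_self]
theorem fr_add : ∀ a b : F4, fr (a + b) = fr a + fr b := by decide
theorem fr_mul : ∀ a b : F4, fr (a * b) = fr a * fr b := by decide
theorem tr_add : ∀ a b : F4, tr (a + b) = xor (tr a) (tr b) := by decide

end F4

/-- Two by two matrices. -/
@[ext] structure E where
  /-- entry -/
  a : F4
  /-- entry -/
  b : F4
  /-- entry -/
  c : F4
  /-- entry -/
  d : F4

namespace E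

theorem eq_iff (M N : E) :
    (M.a.eqb N.a && M.b.eqb N.b && M.c.eqb N.c && M.d.eqb N.d) = true ↔ M = N := by
  simp only [Bool.and_eq_true, F4.eqb_iff, E.ext_iff, and_assoc]
instance instDec : DecidableEq E := fun a b => decidable_of_iff _ (eq_iff a b)
theorem fa {p : E → Prop} : (∀ x, p x) ↔ ∀ a b c d, p ⟨a, b, c, d⟩ :=
  ⟨fun h _ _ _ _ => h _, fun h _ => h _ _ _ _⟩
theorem ex {p : E → Prop} : (∃ x, p x) ↔ ∃ a b c d, p ⟨a, b, c, d⟩ :=
  ⟨fun ⟨_, h⟩ => ⟨_, _, _, _, h⟩, fun ⟨_, _, _, _, h⟩ => ⟨_, h⟩⟩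
instance instAll {p : E → Prop} [DecidablePred p] : Decidable (∀ x, p x) := decidable_of_iff' _ fa
instance instEx {p : E → Prop} [DecidablePred p] : Decidable (∃ x, p x) := decidable_of_iff' _ ex
instance instAdd : Add E := ⟨fun M N => ⟨M.a + N.a, M.b + N.b, M.c + N.c, M.d + N.d⟩⟩
instance instMul : Mul E := ⟨fun M N => ⟨M.a * N.a + M.b * N.c, M.a * N.b + M.b * N.d,
  M.c * N.a + M.d * N.c, M.c * N.b + M.d * N.d⟩⟩
instance instNeg : Neg E := ⟨fun x => x⟩
instance instZero : Zero E := ⟨⟨0, 0, 0, 0⟩⟩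
instance instOne : One E := ⟨⟨1, 0, 0, 1⟩⟩
theorem add_def (M N : E) : M + N = ⟨M.a + N.a, M.b + N.b, M.c + N.c, M.d + N.d⟩ := rfl
theorem mul_def (M N : E) : M * N = ⟨M.a * N.a + M.b * N.c, M.a * N.b + M.b * N.d,
  M.c * N.a + M.d * N.c, M.c * N.b + M.d * N.d⟩ := rfl
instance instRing : Ring E := Ring.ofMinimalAxioms
  (fun _ _ _ => by simp only [add_def, add_assoc]) (by decide +kernel) (by decide +kernel)
  (fun _ _ _ => by simp only [mul_def, mk.injEq]; refine ⟨?_, ?_, ?_, ?_⟩ <;> ring)
  (by decide +kernel) (by decide +kernel)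
  (fun _ _ _ => by simp only [mul_def, add_def, mk.injEq]; refine ⟨?_, ?_, ?_, ?_⟩ <;> ring)
  (fun _ _ _ => by simp only [mul_def, add_def, mk.injEq]; refine ⟨?_, ?_, ?_, ?_⟩ <;> ring)
/-- An enumeration. -/
def eqv : E ≃ F4 × F4 × F4 × F4 :=
  ⟨fun M => (M.a, M.b, M.c, M.d), fun p => ⟨p.1, p.2.1, p.2.2.1, p.2.2.2⟩, fun _ => rfl,
    fun _ => rfl⟩

end E

/-- An enumeration. -/
def eqv4 : F4 ≃ Fin 4 := ⟨fun x => match x with | .o => 0 | .i => 1 | .w => 2 | .v => 3,
  fun n => F4.dec n, by intro x; cases x <;> rfl, by decide⟩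
theorem card_E : Nat.card E = 256 := by
  simp only [Nat.card_congr E.eqv, Nat.card_prod, Nat.card_congr eqv4, Nat.card_eq_fintype_card,
    Fintype.card_fin]

/-- Determinant. -/
def det (M : E) : F4 := M.a * M.d + M.b * M.c
/-- Trace. -/
def tr (M : E) : F4 := M.a + M.d
/-- Adjugate. -/
def adj (M : E) : E := ⟨M.d, M.b, M.c, M.a⟩
/-- Adjugate of the conjugate. -/
def τ (M : E) : E := ⟨M.d.fr, M.b.fr, M.c.fr, M.a.fr⟩
/-- Conjugation. -/
def cj (K M : E) : E := K * M * adj K
/-- The quadratic form. -/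
def qf (M : E) : Bool := (det M).tr
/-- The bilinear form. -/
def bf (M N : E) : Bool := (M.a * N.d + M.d * N.a + M.b * N.c + M.c * N.b).tr
/-- An element of order three. -/
def S : E := ⟨.o, .i, .i, .i⟩
/-- An involution. -/
def T : E := ⟨.i, .w, .o, .i⟩
/-- A scalar. -/
def W : E := ⟨.w, .o, .o, .w⟩
/-- A basis over the prime field. -/
def B : Fin 8 → E := ![1, S, T, S * T, T * S, S * T * S, T * S * T, S * T * S * T]
/-- The dual basis. -/
def B' : Fin 8 → E := ![⟨.v, .i, .w, .i⟩, ⟨.i, .o, .v, .i⟩, ⟨.v, .o, .w, .w⟩, ⟨.i, .w, .v, .o⟩,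
  ⟨.o, .v, .v, .i⟩, ⟨.v, .w, .o, .v⟩, ⟨.o, .v, .v, .o⟩, ⟨.v, .v, .o, .v⟩]
/-- Lifts of the basis. -/
def gl : Fin 8 → SL25 := ![sl2mk 1 0 0 1 (by decide), sl2mk 0 1 4 4 (by decide),
  sl2mk 0 1 4 0 (by decide), sl2mk 4 0 1 4 (by decide), sl2mk 4 4 0 4 (by decide),
  sl2mk 0 4 1 2 (by decide), sl2mk 1 4 1 0 (by decide), sl2mk 1 0 3 1 (by decide)]
/-- Some elements of order three. -/
def L3 : List SL25 := [sl2mk 1 1 2 3 (by decide), sl2mk 0 1 4 4 (by decide),
  sl2mk 3 3 4 1 (by decide), sl2mk 2 3 1 2 (by decide), sl2mk 0 4 1 4 (by decide)]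
/-- The index of a matrix. -/
def ix (x : SL25) : ℕ := (x 0 0).val * 125 + (x 0 1).val * 25 + (x 1 0).val * 5 + (x 1 1).val
/-- Decoding. -/
def decE (n : ℕ) : E := ⟨F4.dec n, F4.dec (n / 4), F4.dec (n / 16), F4.dec (n / 64)⟩
/-- The representation of `SL₂(5)` over the field with four elements. -/
def ρ (x : SL25) : E := decE (0xec0000000000c60000000000610000000000155e0000000000008f000000000000f2002e000000000000eb00b800000000000000a6000067000000000000007800008300003a0000000000000000d20000002c000000ca000000a90000009d0000000017000000007f00000000fd00000000d40000000041000000006a00000000000000870000a300000000000000760000380000000000ce000000000016e500000000006c0000000000510000002d000000ac0000000000000000d9000000c20000009a000000000000f800e20000000000008b002f000000000000be000000007100000000df000000001400000000f7000000004d00000000002f008b000000000000e2000000000000f800be000000c20000000000000000d9000000ac0000002d0000009a00000000006c0000000000e5000000000016ce00000000005100000000000000760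000a3000087000000000000006a00003800000000f7000000001400000000df0000000071000000004d0000000000a9000000ca0000002c0000000000000000d20000009d00008300000000000000780000670000a6000000000000003a00eb0000000000002e000000000000f2008f000000000000b8000000000015610000000000c60000000000ec00000000005e00000000d400000000fd000000007f0000000017000000004100000000000000000000000000000000933bb5544900000000000000000000395b94b34500000000000000000000000000000000000000000000000000b3945b39450000000000000000000054b53b9349000000000000000000000000000000000000000000000000000000000000000000000000000000000000000000 >>> (8 * ix x) % 256)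
/-- A depth function. -/
def dep (x : SL25) : ℕ := 0x300000400000100000100000003000000505000000104000000050050000000200500200000000000030004000100010000100005000000000000000000050000000500500000002002000004000004300000400000500030004000000005000400040000004050000003010000005000020000400004000040000400000103000000500000040500040000000050004000300040000040000030000044000005000000020050050000000500200004000040000400002000040000010004000300000000000010050000000200500500000002010000005000000503000000400000110000040000030000000000000000000050000100000000000000000000015000000000000024444000000000000000000000000044424000000000000510000000000000000000000000000000000000000000000 >>> (4 * ix x) % 16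

theorem add_self : ∀ M : E, M + M = 0 := by decide +kernel
theorem det_mul (M N : E) : det (M * N) = det M * det N := by
  simp only [det, E.mul_def]; ring_nf; simp only [F4.two, mul_zero, add_zero, zero_add]
theorem adj_mul (M N : E) : adj (M * N) = adj N * adj M := by
  simp only [adj, E.mul_def, E.mk.injEq]; refine ⟨?_, ?_, ?_, ?_⟩ <;> ring
theorem τ_mul (M N : E) : τ (M * N) = τ N * τ M := by
  simp only [τ, E.mul_def, E.mk.injEq, F4.fr_add, F4.fr_mul]; refine ⟨?_, ?_, ?_, ?_⟩ <;> ring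
theorem τ_add (M N : E) : τ (M + N) = τ M + τ N := by
  simp only [τ, E.add_def, F4.fr_add]
theorem adj_add (M N : E) : adj (M + N) = adj M + adj N := rfl
theorem adj_adj (M : E) : adj (adj M) = M := rfl
theorem det_adj (M : E) : det (adj M) = det M := by simp only [det, adj]; ring
theorem cj_cj (H K M : E) : cj H (cj K M) = cj (H * K) M := by simp only [cj, adj_mul, mul_assoc]
theorem τ_cj (K M : E) : τ (cj K M) = cj (τ (adj K)) (τ M) := by
  simp only [cj, τ_mul, mul_assoc]; rfl
theorem ττ : ∀ M : E, τ (τ M) = M := by decide +kernel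
theorem det_τ : ∀ M : E, det M = 1 → det (τ M) = 1 := by decide +kernel
theorem adj_mul_self : ∀ M : E, det M = 1 → adj M * M = 1 ∧ M * adj M = 1 := by decide +kernel
theorem cj_one (M : E) : cj 1 M = M := by
  rw [cj, one_mul, show adj 1 = 1 from rfl, mul_one]
theorem bf_add (M N P : E) : bf M (N + P) = xor (bf M N) (bf M P) := by
  simp only [bf, E.add_def, ← F4.tr_add]; congr 1; ring
theorem qf_add (M N : E) : qf (M + N) = xor (xor (qf M) (qf N)) (bf M N) := by
  simp only [qf, bf, det, E.add_def, ← F4.tr_add]; congr 1; ring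
theorem bf_B : ∀ i j, bf (B' i) (B j) = true ↔ i = j := by decide +kernel
theorem eq_sum : ∀ M : E, M = ∑ i, if bf (B' i) M then B i else 0 := by
  simp only [Fin.sum_univ_eight]
  decide +kernel
theorem E_ind {p : E → Prop} (h0 : p 0) (hB : ∀ i, p (B i)) (ha : ∀ M N, p M → p N → p (M + N))
    (M : E) : p M := by
  rw [eq_sum M]
  exact Finset.sum_induction _ p ha h0 fun i _ => by split_ifs; exacts [hB i, h0]
theorem E_ext {φ ψ : E → E} (h1 : ∀ M N, φ (M + N) = φ M + φ N)
    (h2 : ∀ M N, ψ (M + N) = ψ M + ψ N) (h : ∀ i, φ (B i) = ψ (B i)) (M : E) : φ M = ψ M := by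
  refine E_ind (p := fun M => φ M = ψ M) ?_ h (fun M N a b => by rw [h1, h2, a, b]) M
  have e : ∀ {φ : E → E}, (∀ M N, φ (M + N) = φ M + φ N) → φ 0 = 0 := fun h => by
    have := h 0 0
    rwa [add_zero, add_self] at this
  rw [e h1, e h2]

theorem ρ_gl : ∀ i, ρ (gl i) = B i ∧ ρ (-gl i) = B i := by decide +kernel
theorem ρ_s5 : ρ s5 = S ∧ ρ s5⁻¹ = adj S ∧ ρ 1 = 1 := by decide +kernel
set_option synthInstance.maxSize 2000 in
theorem ρ_mul : ∀ x : SL25, det (ρ x) = 1 ∧ ∀ i, ρ (x * gl i) = ρ x * B i := by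
  simp only [forall_sl2]
  decide +kernel
set_option synthInstance.maxSize 2000 in
theorem ρ_surj : ∀ K : E, det K = 1 → ∃ x : SL25, ρ x = K := by
  simp only [exists_sl2]
  decide +kernel
theorem L3_ord : ∀ σ ∈ L3, σ * σ * σ = 1 ∧ σ ≠ 1 := by decide +kernel
set_option synthInstance.maxSize 2000 in
theorem cert : ∀ x : SL25, (dep x = 0 ∧ ∃ i, x = gl i ∨ x = -gl i) ∨ ∃ σ ∈ L3,
    dep (σ * x) < dep x ∧ dep (σ * σ * x) < dep x ∧ ρ x = ρ (σ * x) + ρ (σ * σ * x) := by
  simp only [forall_sl2]
  decide +kernel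

theorem ideal : ∀ M : E, M ≠ 0 → ∃ K : E, K * M ≠ 0 ∧ det (1 + K * M) = 1 := by decide +kernel
theorem eq_adj {K K' : E} (h : det K = 1) (e : K * K' = 1) : K' = adj K := by
  rw [← one_mul K', ← (adj_mul_self K h).1, mul_assoc, e, mul_one]

/-- Images of the basis under an anti-automorphism. -/
def wd (K : E) : Fin 8 → E := ![1, adj S, K, K * adj S, adj S * K, adj S * (K * adj S),
  K * (adj S * K), K * (adj S * (K * adj S))]
/-- The additive extension. -/
def tk (K M : E) : E := ∑ i, if bf (B' i) M then wd K i else 0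
theorem tk_cases : ∀ K, det K = 1 → tk K K = T → (∀ i, tk K (T * B i) = tk K (B i) * K) →
    (∀ i, tk K (S * B i) = tk K (B i) * adj S) → K = adj T ∨ K = τ T := by
  simp only [tk, Fin.sum_univ_eight]
  decide +kernel
theorem wd_eq : ∀ i, wd (adj T) i = adj (B i) ∧ wd (τ T) i = τ (B i) := by decide +kernel
theorem anti {φ : E → E} (h1 : ∀ M N, φ (M + N) = φ M + φ N) (h2 : ∀ M N, φ (M * N) = φ N * φ M)
    (h3 : φ 1 = 1) (h4 : φ S = adj S) (h5 : ∀ M, φ (φ M) = M) (h6 : det (φ T) = 1) :
    (∀ M, φ M = adj M) ∨ ∀ M, φ M = τ M := by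
  have e1 : ∀ i, φ (B i) = wd (φ T) i := fun i => by
    fin_cases i <;> simp [B, wd, h2, h3, h4]
  have e2 : ∀ M, φ M = tk (φ T) M := fun M => by
    have := map_sum (AddMonoidHom.mk' φ h1) (fun i => if bf (B' i) M then B i else 0) Finset.univ
    rw [← eq_sum M] at this
    refine this.trans (Finset.sum_congr rfl fun i _ => ?_)
    split_ifs
    exacts [e1 i, map_zero _]
  refine (tk_cases (φ T) h6 ?_ (fun i => ?_) fun i => ?_).imp (fun h => E_ext h1 adj_add fun i => ?_)
    fun h => E_ext h1 τ_add fun i => ?_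
  · rw [← e2, h5]
  · rw [← e2, ← e2, h2]
  · rw [← e2, ← e2, h2, h4]
  · rw [e1, h, (wd_eq i).1]
  · rw [e1, h, (wd_eq i).2]

theorem orb1 : ∀ M : E, det M ≠ 0 → ∃ K, det K = 1 ∧ K * M = ⟨1, 0, 0, det M⟩ := by decide +kernel
theorem orb0 : ∀ M : E, det M = 0 → M = 0 ∨ ∃ K, det K = 1 ∧ (K * M).c = 0 ∧ (K * M).d = 0 ∧
    ∃ K', det K' = 1 ∧ K * M * K' = ⟨1, 0, 0, 0⟩ := by decide +kernel
theorem quad {σ : E → Bool} {β : E → E → Bool} (hl : ∀ K, det K = 1 → ∀ M, σ (K * M) = σ M)
    (hr : ∀ K, det K = 1 → ∀ M, σ (M * K) = σ M) (h1 : σ 1 = false) (h0 : σ 0 = false)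
    (h2 : ∀ M N, σ (M + N) = xor (xor (σ M) (σ N)) (β M N))
    (h3 : ∀ M N P, β M (N + P) = xor (β M N) (β M P)) :
    (∀ M N, β M N = false) ∨ (∀ M, σ M = qf M) ∧ ∀ M N, β M N = bf M N := by
  have e : ∀ M N P, σ (M + (N + P)) = xor (xor (xor (σ (M + N)) (σ (M + P))) (σ (N + P)))
      (xor (xor (σ M) (σ N)) (σ P)) := fun M N P => by
    rw [h2 M (N + P), h2 M N, h2 M P, h3]
    generalize σ M = a, σ N = b, σ P = c, σ (N + P) = d, β M N = e, β M P = f
    revert a b c d e f; decide
  have r1 : ∀ M, det M ≠ 0 → σ M = σ ⟨1, 0, 0, det M⟩ := fun M h => by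
    obtain ⟨K, k, e⟩ := orb1 M h
    rw [← e, hl K k]
  have r0 : ∀ M, det M = 0 → M ≠ 0 → σ M = σ ⟨1, 0, 0, 0⟩ := fun M h h' => by
    obtain ⟨K, k, -, -, K', k', e⟩ := (orb0 M h).resolve_left h'
    rw [← e, hr K' k', hl K k]
  have d1 : ∀ M, det M = 1 → σ M = false := fun M h => by
    rw [r1 M (by rw [h]; decide), h]; exact h1
  have c0 : σ ⟨1, 0, 0, 0⟩ = false := by
    have := e ⟨1, 0, 0, 0⟩ ⟨0, 0, 0, 1⟩ ⟨0, 1, 0, 0⟩
    rw [d1 _ (by decide), d1 _ (by decide), r0 (_ + _) (by decide) (by decide),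
      r0 (_ + _) (by decide) (by decide), r0 ⟨0, 0, 0, 1⟩ (by decide) (by decide),
      r0 ⟨0, 1, 0, 0⟩ (by decide) (by decide)] at this
    simpa using this
  have d0 : ∀ M, det M = 0 → σ M = false := fun M h => by
    by_cases h' : M = 0
    exacts [h' ▸ h0, (r0 M h h').trans c0]
  have c1 : σ ⟨1, 0, 0, .v⟩ = σ ⟨1, 0, 0, .w⟩ := by
    have := e ⟨1, 0, 0, 0⟩ ⟨0, 0, 0, 1⟩ ⟨0, 0, 0, .w⟩
    rw [d1 (⟨1, 0, 0, 0⟩ + ⟨0, 0, 0, 1⟩) (by decide), d0 (⟨0, 0, 0, 1⟩ + _) (by decide), c0,
      d0 ⟨0, 0, 0, 1⟩ (by decide), d0 ⟨0, 0, 0, .w⟩ (by decide)] at this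
    simp only [Bool.xor_false, Bool.false_xor] at this
    exact this
  have e1 : ∀ M, σ M = (qf M && σ ⟨1, 0, 0, .w⟩) := fun M => by
    rw [qf]
    cases h : det M
    · exact d0 M h
    · exact d1 M h
    · rw [r1 M (by rw [h]; decide), h]; rfl
    · rw [r1 M (by rw [h]; decide), h, c1]; rfl
  cases h : σ ⟨1, 0, 0, .w⟩
  · left; intro M N
    have := h2 M N
    rw [e1, e1 M, e1 N, h] at this
    simpa using this
  · have e2 : ∀ M, σ M = qf M := fun M => by rw [e1, h, Bool.and_true]
    refine Or.inr ⟨e2, fun M N => ?_⟩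
    have := h2 M N
    rw [e2, e2, e2, qf_add] at this
    simpa using this.symm

theorem cen : ∀ K, det K = 1 → cj K S = S → cj K T = T → K = 1 := by decide +kernel
theorem fix_τ : ∀ M, τ M = M → qf M = false := by decide +kernel
theorem swp : ∀ K, det K = 1 → cj K (τ (cj K (τ S))) = S → cj K (τ (cj K (τ T))) = T →
    ∃ H, det H = 1 ∧ H * K * τ H = 1 := by decide +kernel
theorem nrm1 : ∀ K, det K = 1 → K ≠ 1 → ∃ H, det H = 1 ∧ tr (cj H K * K) = 1 := by decide +kernel
theorem nrm2 : ∀ K, det K = 1 → tr K = 1 → ∃ H, det H = 1 ∧ cj H K = S := by decide +kernel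
theorem nrm3 : ∀ K, det K = 1 → ∃ H, det H = 1 ∧ H * K * τ H * τ (adj K) ≠ 1 := by decide +kernel
theorem sub1 : ∀ M, bf 1 M = false → bf W M = false → ∃ N, adj S * N * adj S = N ∧
    adj S * (M + cj T N) * adj S = M + cj T N := by decide +kernel
theorem ab1 : ∀ M, (∀ K, det K = 1 → bf M (cj K M) = false) →
    M = 0 ∨ M = 1 ∨ M = W ∨ M = W + 1 := by decide +kernel
theorem bfW : ∀ M, det M = 1 → det (M + 1) = 1 → bf M W = true := by decide +kernel
theorem cjW : ∀ K, det K = 1 → cj K W = W ∧ cj K (τ W) = W + 1 := by decide +kernel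

end Cfsg.Lib.HN3.M4
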