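import Cfsg.Agent.HN3.Base
import Cfsg.Agent.HN3.StabFin

/-!
Coordinates on the extraspecial group of order `512` modulo its centre.
-/

set_option autoImplicit false

namespace Cfsg.Lib.HN3

open Subgroup Cfsg.Lib.Perm M4
open scoped commutatorElement

universe u

namespace TD

variable {G : Type u} [Group G] {D : TD G}

/-- Coordinates on `Q` modulo `t`. -/
structure Co (D : TD G) (co : G → E) : Prop where
  add : ∀ x ∈ D.Q, ∀ y ∈ D.Q, co (x * y) = co x + co y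
  ker : ∀ x ∈ D.Q, co x = 0 ↔ x ∈ zpowers D.t
  surj : ∀ M, ∃ x ∈ D.Q, co x = M
  left : ∀ g, ∀ x ∈ D.Q, co (D.κ g * x * (D.κ g)⁻¹) = ρ g * co x
  r : co D.r = 1

variable [Finite G]

theorem QD.exists_cl (q : D.QD) : ∃ (V : Type u) (_ : CommGroup V) (cl : G → V),
    Nat.card V = 256 ∧ (∀ x ∈ D.Q, ∀ y ∈ D.Q, cl (x * y) = cl x * cl y) ∧
    (∀ x ∈ D.Q, ∀ y ∈ D.Q, cl x = cl y ↔ x * y⁻¹ ∈ zpowers D.t) := by
  classical
  haveI hN : ((zpowers D.t).subgroupOf D.Q).Normal := ⟨fun n hn g => by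
    rw [mem_subgroupOf] at hn ⊢
    exact (congrArg (· ∈ zpowers D.t) (D.conj_zt (D.Q_t g.2) hn)).mpr hn⟩
  letI : CommGroup (D.Q ⧸ (zpowers D.t).subgroupOf D.Q) :=
    { QuotientGroup.Quotient.group _ with
      mul_comm := fun a b => by
        obtain ⟨a, rfl⟩ := QuotientGroup.mk_surjective a
        obtain ⟨b, rfl⟩ := QuotientGroup.mk_surjective b
        rw [← QuotientGroup.mk_mul, ← QuotientGroup.mk_mul, QuotientGroup.eq, mem_subgroupOf]
        have := cQ q.comm _ (inv_mem b.2) _ (inv_mem a.2)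
        simpa [commutatorElement_def, mul_assoc] using this }
  refine ⟨D.Q ⧸ (zpowers D.t).subgroupOf D.Q, inferInstance,
    fun x => if h : x ∈ D.Q then QuotientGroup.mk ⟨x, h⟩ else 1, ?_, fun x hx y hy => ?_,
    fun x hx y hy => ?_⟩
  · have h := card_eq_card_quotient_mul_card_subgroup ((zpowers D.t).subgroupOf D.Q)
    rw [cardQ q.comm, Nat.card_congr (subgroupOfEquivOfLe D.zt_le).toEquiv, D.card_zt] at h
    omega
  · simp only [dif_pos hx, dif_pos hy, dif_pos (mul_mem hx hy)]; rfl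
  · simp only [dif_pos hx, dif_pos hy]
    rw [QuotientGroup.eq_iff_div_mem, mem_subgroupOf, div_eq_mul_inv]; rfl

theorem QD.exists_co (q : D.QD) (m : D.M0) : ∃ co, D.Co co := by
  obtain ⟨V, _, cl, cV, cm, ce⟩ := q.exists_cl
  have c1 : cl 1 = 1 := by
    have := cm 1 (one_mem _) 1 (one_mem _)
    rwa [mul_one, left_eq_mul] at this
  have ck : ∀ x ∈ D.Q, cl x = 1 ↔ x ∈ zpowers D.t := fun x hx => by
    rw [← c1, ce x hx 1 (one_mem _), inv_one, mul_one]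
  have sq : ∀ x ∈ D.Q, cl x * cl x = 1 := fun x hx => by
    rw [← cm x hx x hx, ck _ (mul_mem hx hx)]; exact sqQ q.comm x hx
  have cc : ∀ n ∈ D.N, ∀ x ∈ D.Q, ∀ y ∈ D.Q, cl x = cl y → cl (n * x * n⁻¹) = cl (n * y * n⁻¹) :=
    fun n hn x hx y hy h => by
    rw [ce _ hx _ hy] at h
    rw [ce _ (D.conj_Q hn hx) _ (D.conj_Q hn hy), conj_inv, conj_mul, D.conj_zt (N_t q.comm hn) h]
    exact h
  set F : SL25 → G := fun g => D.κ g * D.r * (D.κ g)⁻¹ with hFd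
  have hF : ∀ g, F g ∈ D.Q := fun g => D.conj_Q (q.nK g) D.rQ
  have FF : ∀ g x, D.κ g * F x * (D.κ g)⁻¹ = F (g * x) := fun g x => by
    simp only [hFd, map_mul]; group
  have Fn : ∀ g, F (-g) = F g := fun g => by
    rw [show -g = g * -1 by simp, ← FF]
    simp only [hFd, D.κt, conj_eq_of_comm D.rt.symm]
  have F3 : ∀ σ x : SL25, σ * σ * σ = 1 → σ ≠ 1 →
      cl (F x) = cl (F (σ * x)) * cl (F (σ * σ * x)) := fun σ x h h1 => by
    have hm := mul_mem (mul_mem (hF x) (hF (σ * x))) (hF (σ * σ * x))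
    have e : cl (D.κ σ * (F x * F (σ * x) * F (σ * σ * x)) * (D.κ σ)⁻¹) =
        cl (F x * F (σ * x) * F (σ * σ * x)) := by
      rw [← conj_mul, ← conj_mul, FF, FF, FF, ← mul_assoc σ σ, ← mul_assoc σ (σ * σ),
        ← mul_assoc σ σ, h, one_mul]
      simp only [cm _ (mul_mem (hF _) (hF _)) _ (hF _), cm _ (hF _) _ (hF _)]
      rw [mul_comm, ← mul_assoc]
    have e2 := (ck _ hm).2 (q.fx_κ h h1 hm ((ce _ (D.conj_Q (q.nK σ) hm) _ hm).1 e))
    rw [cm _ (mul_mem (hF _) (hF _)) _ (hF _), cm _ (hF _) _ (hF _), mul_assoc] at e2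
    rw [← inv_eq_of_mul_eq_one_right e2, inv_eq_of_mul_eq_one_right (sq _ (hF x))]
  set Φ : E → V := fun M => ∏ i, if bf (B' i) M then cl (F (gl i)) else 1 with hΦ
  have Φa : ∀ M N, Φ (M + N) = Φ M * Φ N := fun M N => by
    simp only [hΦ, ← Finset.prod_mul_distrib, bf_add]
    refine Finset.prod_congr rfl fun i _ => ?_
    cases bf (B' i) M <;> cases bf (B' i) N <;> simp [sq _ (hF _)]
  have Φ0 : Φ 0 = 1 := by
    have := Φa 0 0
    rwa [add_zero, left_eq_mul] at this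
  have ΦB : ∀ j, Φ (M4.B j) = cl (F (gl j)) := fun j => by simp [hΦ, bf_B]
  have Φρ : ∀ n x, dep x = n → Φ (ρ x) = cl (F x) := fun n => by
    induction n using Nat.strong_induction_on with
    | _ n ih =>
      rintro x rfl
      rcases cert x with ⟨-, i, rfl | rfl⟩ | ⟨σ, hσ, h1, h2, e⟩
      · rw [(ρ_gl i).1, ΦB]
      · rw [(ρ_gl i).2, ΦB, Fn]
      · rw [e, Φa, ih _ h1 _ rfl, ih _ h2 _ rfl, F3 σ x (L3_ord σ hσ).1 (L3_ord σ hσ).2]
  have eqv : ∀ M, ∃ x ∈ D.Q, cl x = Φ M ∧ ∀ g, cl (D.κ g * x * (D.κ g)⁻¹) = Φ (ρ g * M) := by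
    refine E_ind ⟨1, one_mem _, by rw [c1, Φ0], fun g => by simp [c1, Φ0]⟩
      (fun i => ⟨_, hF _, (ΦB i).symm, fun g => ?_⟩) ?_
    · rw [FF, ← Φρ _ _ rfl, (ρ_mul g).2]
    · rintro M N ⟨x, hx, e1, e2⟩ ⟨y, hy, e3, e4⟩
      refine ⟨x * y, mul_mem hx hy, by rw [cm x hx y hy, e1, e3, Φa], fun g => ?_⟩
      rw [← conj_mul, cm _ (D.conj_Q (q.nK g) hx) _ (D.conj_Q (q.nK g) hy), e2, e4, mul_add, Φa]
  have ker : ∀ M, Φ M = 1 → M = 0 := fun M h => by
    by_contra h0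
    obtain ⟨x, hx, e1, e2⟩ := eqv M
    rw [h, ck x hx] at e1
    have h1 : ∀ K, Φ (K * M) = 1 := E_ind (by rw [zero_mul, Φ0]) (fun i => by
      rw [← (ρ_gl i).1, ← e2, D.conj_zt (D.κ_t _) e1, ck x hx]; exact e1)
      fun K K' a b => by rw [add_mul, Φa, a, b, one_mul]
    obtain ⟨K, k0, k1⟩ := ideal M h0
    obtain ⟨g, e⟩ := ρ_surj _ k1
    have h2 : cl (F g) = cl D.r := by
      rw [← Φρ _ g rfl, e, Φa, h1, mul_one, ← ρ_s5.2.2, Φρ _ _ rfl]; simp [hFd]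
    have h3 : ρ g = 1 := by
      rcases m.reg g ((ce _ (hF g) _ D.rQ).1 h2) with rfl | rfl <;> decide +kernel
    rw [h3, left_eq_add] at e
    exact k0 e
  have inj : Function.Injective Φ := fun M N h => by
    have := ker (M + N) (by
      obtain ⟨x, hx, e, -⟩ := eqv N
      rw [Φa, h, ← e, sq x hx])
    rw [← add_zero M, ← add_self N, ← add_assoc, this, zero_add]
  haveI : Finite V := Nat.finite_of_card_ne_zero (by omega)
  have bij := inj.bijective_of_nat_card_le (by rw [cV, card_E])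
  have hco : ∀ x, Φ ((Equiv.ofBijective Φ bij).symm (cl x)) = cl x :=
    fun x => Equiv.ofBijective_apply_symm_apply Φ bij _
  refine ⟨fun x => (Equiv.ofBijective Φ bij).symm (cl x), fun x hx y hy => inj ?_,
    fun x hx => ?_, fun M => ?_, fun g x hx => inj ?_, inj ?_⟩
  · rw [Φa, hco, hco, hco, cm x hx y hy]
  · rw [← ck x hx, ← inj.eq_iff, hco, Φ0]
  · obtain ⟨x, hx, e, -⟩ := eqv M
    exact ⟨x, hx, inj (by rw [hco, e])⟩
  · obtain ⟨y, hy, e1, e2⟩ := eqv ((Equiv.ofBijective Φ bij).symm (cl x))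
    rw [hco, ← e2]
    exact cc _ (q.nK g) _ hx _ hy (by rw [e1, hco])
  · rw [hco, ← ρ_s5.2.2, Φρ _ _ rfl]; simp [hFd]

end TD

end Cfsg.Lib.HN3
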